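import Groth.Agent.MP99.Basic

set_option autoImplicit false

universe u

open CategoryTheory CategoryTheory.Limits AlgebraicGeometry TopologicalSpace

namespace Groth.Agent.MP99

variable {X Y : Scheme.{u}}

theorem dominant_toImage (f : X ⟶ Y) [QuasiCompact f] : IsSchemeTheoreticallyDominant f.toImage := by
  constructor
  refine Scheme.IdealSheafData.ext_of_iSup_eq_top
    (fun U : Y.affineOpens => ⟨f.imageι ⁻¹ᵁ U.1, U.2.preimage f.imageι⟩) ?_ fun U => ?_
  · refine top_unique fun x _ => ?_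
    obtain ⟨_, ⟨V, hV, rfl⟩, hxV, -⟩ :=
      Y.isBasis_affineOpens.exists_subset_of_mem_open (Set.mem_univ (f.imageι x)) isOpen_univ
    exact Opens.mem_iSup.mpr ⟨⟨V, hV⟩, hxV⟩
  · rw [Scheme.Hom.ker_apply, Scheme.IdealSheafData.ideal_bot, Pi.bot_apply,
      ← RingHom.injective_iff_ker_eq_bot]
    exact f.toImage_app_injective U

theorem le_preimage_imageι (U : X.Opens) : (⊤ : U.toScheme.Opens) ≤ U.ι.toImage ⁻¹ᵁ (U.ι.imageι ⁻¹ᵁ U) := by
  intro x _
  show U.ι.imageι.base (U.ι.toImage.base x) ∈ U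
  rw [← Scheme.Hom.comp_apply, Scheme.Hom.toImage_imageι]
  exact x.2

/-- An open is scheme-theoretically dense in its scheme-theoretic closure. -/
theorem dominant_preimage_imageι (U : X.Opens) [QuasiCompact U.ι] :
    IsSchemeTheoreticallyDominant (U.ι.imageι ⁻¹ᵁ U).ι := by
  haveI := dominant_toImage U.ι
  refine ker_le_of_factor U.ι.toImage _
    (IsOpenImmersion.lift (U.ι.imageι ⁻¹ᵁ U).ι U.ι.toImage ?_) (IsOpenImmersion.lift_fac _ _ _)
  rw [Scheme.Opens.range_ι]
  rintro _ ⟨x, rfl⟩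
  exact le_preimage_imageι U (Opens.mem_top x)

theorem isIso_imageι_restrict (U : X.Opens) : IsIso (U.ι.imageι ∣_ U) := by
  let s : U.toScheme ⟶ (U.ι.imageι ⁻¹ᵁ U).toScheme :=
    IsOpenImmersion.lift (U.ι.imageι ⁻¹ᵁ U).ι U.ι.toImage (by
      rw [Scheme.Opens.range_ι]
      rintro _ ⟨x, rfl⟩
      exact le_preimage_imageι U (Opens.mem_top x))
  have hs : s ≫ (U.ι.imageι ∣_ U) = 𝟙 _ := by
    rw [← cancel_mono U.ι, Category.assoc, morphismRestrict_ι, IsOpenImmersion.lift_fac_assoc,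
      Scheme.Hom.toImage_imageι, Category.id_comp]
  haveI : Mono (U.ι.imageι ∣_ U) := by
    haveI : IsClosedImmersion (U.ι.imageι ∣_ U) := inferInstance
    infer_instance
  exact ⟨s, by rw [← cancel_mono (U.ι.imageι ∣_ U), Category.assoc, hs, Category.id_comp, Category.comp_id], hs⟩

end Groth.Agent.MP99
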