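import Mathlib.AlgebraicGeometry.Morphisms.SchemeTheoreticallyDominant
import Mathlib.AlgebraicGeometry.Morphisms.Immersion
import Groth.Prelude.Def_W4c6modpairsegaMP

set_option autoImplicit false

universe u

open CategoryTheory CategoryTheory.Limits AlgebraicGeometry TopologicalSpace

namespace Groth.Agent.MP99

variable {X Y Z : Scheme.{u}}

/-- Locally generated by one element. -/
def IsLocPrincipal (I : X.IdealSheafData) : Prop :=
  ∀ x : X, ∃ U : X.affineOpens, x ∈ U.1 ∧ ∃ f : Γ(X, U.1), I.ideal U = Ideal.span {f}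

theorem isLocPrincipal_of_isEffCartier {I : X.IdealSheafData} (h : BlowUp.IsEffCartierIdeal I) :
    IsLocPrincipal I := fun x => by
  obtain ⟨U, hx, f, _, hf⟩ := h x
  exact ⟨U, hx, f, hf⟩

theorem ideal_comap_top_of_isAffine [IsAffine X] [IsAffine Y] (J : Y.IdealSheafData) (g : X ⟶ Y) :
    (J.comap g).ideal ⟨⊤, isAffineOpen_top X⟩ =
      (J.ideal ⟨⊤, isAffineOpen_top Y⟩).map g.appTop.hom := by
  refine le_antisymm ?_ ?_
  · have h : J.comap g ≤ Scheme.IdealSheafData.ofIdealTop
        ((J.ideal ⟨⊤, isAffineOpen_top Y⟩).map g.appTop.hom) := by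
      rw [← Scheme.IdealSheafData.le_map_iff_comap_le]
      refine Scheme.IdealSheafData.le_of_isAffine ?_
      rw [Scheme.IdealSheafData.ideal_map_of_isAffineHom]
      refine le_trans (Ideal.le_comap_map (f := g.appTop.hom)) ?_
      simp only [Scheme.IdealSheafData.ofIdealTop_ideal]
      refine Ideal.comap_mono ?_
      refine le_of_eq (Eq.symm ?_)
      erw [X.presheaf.map_id, CommRingCat.hom_id, Ideal.map_id]
    refine le_trans (h ⟨⊤, isAffineOpen_top X⟩) ?_
    simp
  · rw [Ideal.map_le_iff_le_comap]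
    have h := J.le_map_comap g ⟨⊤, isAffineOpen_top Y⟩
    rw [Scheme.IdealSheafData.ideal_map_of_isAffineHom] at h
    exact h

private theorem transport_aux (K : X.IdealSheafData) (J : Y.IdealSheafData) (f : X ⟶ Y)
    {U U' : Y.affineOpens} {V V' : X.affineOpens} (hU : U = U') (hV : V = V')
    (e : V.1 ≤ f ⁻¹ᵁ U.1) (e' : V'.1 ≤ f ⁻¹ᵁ U'.1)
    (h : K.ideal V = (J.ideal U).map (f.appLE U.1 V.1 e).hom) :
    K.ideal V' = (J.ideal U').map (f.appLE U'.1 V'.1 e').hom := by
  subst hU hV; exact h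

/-- The ideal of a pullback on an affine open lying over an affine open. -/
theorem ideal_comap (J : Y.IdealSheafData) (f : X ⟶ Y) (U : Y.affineOpens) (V : X.affineOpens)
    (e : V.1 ≤ f ⁻¹ᵁ U.1) :
    (J.comap f).ideal V = (J.ideal U).map (f.appLE U.1 V.1 e).hom := by
  have hUa : IsAffine U.1.toScheme := U.2
  have hVa : IsAffine V.1.toScheme := V.2
  let U₀ : Y.affineOpens := ⟨U.1.ι ''ᵁ ⊤, (isAffineOpen_top U.1.toScheme).image_of_isOpenImmersion _⟩
  let V₀ : X.affineOpens := ⟨V.1.ι ''ᵁ ⊤, (isAffineOpen_top V.1.toScheme).image_of_isOpenImmersion _⟩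
  have hU : U₀ = U := Subtype.ext U.1.ι_image_top
  have hV : V₀ = V := Subtype.ext V.1.ι_image_top
  refine transport_aux (J.comap f) J f hU hV (by simpa [U₀, V₀] using e) e ?_
  let g := f.resLE U.1 V.1 e
  have h1 : (J.comap f).comap V.1.ι = (J.comap U.1.ι).comap g := by
    simp only [← Scheme.IdealSheafData.comap_comp, g, Scheme.Hom.resLE_comp_ι]
  have h2 := ideal_comap_top_of_isAffine (J.comap U.1.ι) g
  rw [← h1] at h2
  simp only [Scheme.IdealSheafData.ideal_comap_of_isOpenImmersion, Scheme.Opens.ι_appIso,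
    Iso.refl_inv] at h2
  erw [Ideal.comap_id, Ideal.comap_id] at h2
  refine h2.trans ?_
  congr 2
  rw [Scheme.Hom.appTop, Scheme.Hom.app_eq_appLE, Scheme.Hom.resLE_appLE]
  rfl

theorem ideal_restrict (I : X.IdealSheafData) {U V : X.affineOpens} (h : V ≤ U) {f : Γ(X, U.1)}
    (hf : I.ideal U = Ideal.span {f}) :
    I.ideal V = Ideal.span {(X.presheaf.map (homOfLE h).op).hom f} := by
  rw [← I.map_ideal h, hf, Ideal.map_span, Set.image_singleton]

theorem map_mem_nonZeroDivisors {U V : X.affineOpens} (h : V ≤ U) {f : Γ(X, U.1)}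
    (hf : f ∈ nonZeroDivisors Γ(X, U.1)) :
    (X.presheaf.map (homOfLE h).op).hom f ∈ nonZeroDivisors Γ(X, V.1) := by
  have hflat := (𝟙 X : X ⟶ X).flat_appLE U.2 V.2 (h : V.1 ≤ U.1)
  simp only [Scheme.Hom.appLE, Scheme.Hom.id_app] at hflat
  erw [Category.id_comp] at hflat
  letI : Algebra Γ(X, U.1) Γ(X, V.1) := (X.presheaf.map (homOfLE h).op).hom.toAlgebra
  haveI : Module.Flat Γ(X, U.1) Γ(X, V.1) := hflat
  rw [mem_nonZeroDivisors_iff_right] at hf ⊢
  have hreg : IsSMulRegular Γ(X, U.1) f := fun a b (hab : f • a = f • b) => by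
    refine sub_eq_zero.mp (hf _ ?_)
    rw [smul_eq_mul, smul_eq_mul] at hab
    rw [sub_mul, mul_comm a, mul_comm b, hab, sub_self]
  have := hreg.of_flat (S := Γ(X, V.1))
  intro x hx
  apply this
  simp [RingHom.algebraMap_toAlgebra, mul_comm _ x, hx]

theorem interior_comap (J : Y.IdealSheafData) (f : X ⟶ Y) :
    ModPair.interior (J.comap f) = f ⁻¹ᵁ ModPair.interior J := by
  ext x
  simp [ModPair.interior, Scheme.IdealSheafData.support_comap]

theorem interior_mono {I J : X.IdealSheafData} (h : I ≤ J) :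
    ModPair.interior I ≤ ModPair.interior J := by
  intro x hx hJ
  exact hx (Scheme.IdealSheafData.support_antitone h hJ)

theorem inf_interior_eq_basicOpen (I : X.IdealSheafData) {U : X.affineOpens} {f : Γ(X, U.1)}
    (hf : I.ideal U = Ideal.span {f}) :
    U.1 ⊓ ModPair.interior I = X.basicOpen f := by
  ext x
  constructor
  · rintro ⟨hxU, hxI⟩
    by_contra hx
    apply hxI
    rw [SetLike.mem_coe, Scheme.IdealSheafData.mem_support_iff_of_mem hxU, hf,
      Scheme.zeroLocus_span, Scheme.zeroLocus_singleton]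
    exact hx
  · intro hx
    refine ⟨X.basicOpen_le f hx, fun hxI => ?_⟩
    rw [SetLike.mem_coe, Scheme.IdealSheafData.mem_support_iff_of_mem (X.basicOpen_le f hx), hf,
      Scheme.zeroLocus_span, Scheme.zeroLocus_singleton] at hxI
    exact hxI hx

theorem isAffineHom_interior {I : X.IdealSheafData} (hI : IsLocPrincipal I) :
    IsAffineHom (ModPair.interior I).ι := by
  refine isAffineHom_of_forall_exists_isAffineOpen _ fun x => ?_
  obtain ⟨U, hx, f, hf⟩ := hI x
  refine ⟨U.1, hx, U.2, ?_⟩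
  have : IsAffineOpen ((ModPair.interior I).ι ''ᵁ (ModPair.interior I).ι ⁻¹ᵁ U.1) := by
    rw [Scheme.Hom.image_preimage_eq_opensRange_inf, Scheme.Opens.opensRange_ι, inf_comm,
      inf_interior_eq_basicOpen I hf]
    exact U.2.basicOpen f
  exact ((ModPair.interior I).ι.isAffineOpen_iff_of_isOpenImmersion).mp this

theorem injective_res_iff {U V : X.Opens} (hU : IsAffineOpen U) (f : Γ(X, U)) (h : V ≤ U)
    (hV : V = X.basicOpen f) :
    Function.Injective (X.presheaf.map (homOfLE h).op).hom ↔ f ∈ nonZeroDivisors Γ(X, U) := by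
  subst hV
  have inst := hU.isLocalization_basicOpen f
  constructor
  · intro hinj
    rw [mem_nonZeroDivisors_iff_right]
    intro a ha
    apply hinj
    rw [map_zero]
    have hu : IsUnit ((X.presheaf.map (homOfLE h).op).hom f) :=
      IsLocalization.map_units (M := Submonoid.powers f) Γ(X, X.basicOpen f) ⟨f, 1, pow_one f⟩
    rw [← hu.mul_left_eq_zero, ← map_mul, ha, map_zero]
  · intro hf
    exact IsLocalization.injective (M := Submonoid.powers f) Γ(X, X.basicOpen f)
      ((Submonoid.powers_le (P := nonZeroDivisors Γ(X, U))).mpr hf)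

theorem injective_app_iff (I : X.IdealSheafData) {U : X.affineOpens} {f : Γ(X, U.1)}
    (hf : I.ideal U = Ideal.span {f}) :
    Function.Injective ((ModPair.interior I).ι.app U.1).hom ↔ f ∈ nonZeroDivisors Γ(X, U.1) := by
  have hle : (ModPair.interior I).ι ''ᵁ (ModPair.interior I).ι ⁻¹ᵁ U.1 ≤ U.1 :=
    (ModPair.interior I).ι.image_preimage_le U.1
  rw [← injective_res_iff U.2 f hle (by
    rw [Scheme.Hom.image_preimage_eq_opensRange_inf, Scheme.Opens.opensRange_ι, inf_comm,
      inf_interior_eq_basicOpen I hf]), Scheme.Opens.ι_app]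
  rfl

theorem dominant_of_isEffCartier {I : X.IdealSheafData} (hI : BlowUp.IsEffCartierIdeal I) :
    IsSchemeTheoreticallyDominant (ModPair.interior I).ι := by
  haveI := isAffineHom_interior (isLocPrincipal_of_isEffCartier hI)
  constructor
  choose U hxU f hfz hf using hI
  refine Scheme.IdealSheafData.ext_of_iSup_eq_top U ?_ fun x => ?_
  · exact top_unique fun x _ => Opens.mem_iSup.mpr ⟨x, hxU x⟩
  · rw [Scheme.Hom.ker_apply, Scheme.IdealSheafData.ideal_bot, Pi.bot_apply,
      ← RingHom.injective_iff_ker_eq_bot, injective_app_iff I (hf x)]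
    exact hfz x

theorem ker_le_of_factor {W : Scheme.{u}} (j : W ⟶ Y) (i : X ⟶ Y) (h : W ⟶ X) (e : h ≫ i = j)
    [IsSchemeTheoreticallyDominant j] : IsSchemeTheoreticallyDominant i := by
  constructor
  rw [← le_bot_iff, ← j.ker_eq_bot, ← e]
  exact Scheme.Hom.le_ker_comp h i

theorem dominant_of_le {W W' : X.Opens} (h : W ≤ W') [IsSchemeTheoreticallyDominant W.ι] :
    IsSchemeTheoreticallyDominant W'.ι :=
  ker_le_of_factor W.ι W'.ι (X.homOfLE h) (X.homOfLE_ι h)

theorem isEffCartier_of_dominant {I : X.IdealSheafData} (hI : IsLocPrincipal I)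
    [IsSchemeTheoreticallyDominant (ModPair.interior I).ι] : BlowUp.IsEffCartierIdeal I := fun x => by
  haveI := isAffineHom_interior hI
  obtain ⟨U, hx, f, hf⟩ := hI x
  exact ⟨U, hx, f, (injective_app_iff I hf).mp ((ModPair.interior I).ι.app_injective U.1), hf⟩

theorem isLocPrincipal_comap {J : Y.IdealSheafData} (hJ : IsLocPrincipal J) (f : X ⟶ Y) :
    IsLocPrincipal (J.comap f) := fun x => by
  obtain ⟨U, hU, g, hg⟩ := hJ (f x)
  obtain ⟨_, ⟨V, hV, rfl⟩, hxV, hVU : V ≤ f ⁻¹ᵁ U.1⟩ :=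
    X.isBasis_affineOpens.exists_subset_of_mem_open (show x ∈ f ⁻¹ᵁ U.1 from hU) (f ⁻¹ᵁ U.1).isOpen
  refine ⟨⟨V, hV⟩, hxV, (f.appLE U.1 V hVU).hom g, ?_⟩
  rw [ideal_comap J f U ⟨V, hV⟩ hVU, hg, Ideal.map_span, Set.image_singleton]

theorem isEffCartier_comap {J : Y.IdealSheafData} (hJ : IsLocPrincipal J) (f : X ⟶ Y)
    {W : X.Opens} [IsSchemeTheoreticallyDominant W.ι] (hW : W ≤ f ⁻¹ᵁ ModPair.interior J) :
    BlowUp.IsEffCartierIdeal (J.comap f) := by
  haveI : IsSchemeTheoreticallyDominant (ModPair.interior (J.comap f)).ι :=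
    dominant_of_le (W := W) (by rwa [interior_comap])
  exact isEffCartier_of_dominant (isLocPrincipal_comap hJ f)

/-- Morphisms agreeing on a scheme-theoretically dense open agree, if the target is separated. -/
theorem ext_of_dominant {W : Scheme.{u}} {S : Scheme.{u}} {f g : X ⟶ Y} (s : Y ⟶ S) [IsSeparated s]
    (h : f ≫ s = g ≫ s) (j : W ⟶ X) [IsSchemeTheoreticallyDominant j] (hj : j ≫ f = j ≫ g) :
    f = g := by
  let X' : Over S := Over.mk (f ≫ s)
  let Y' : Over S := Over.mk s
  let W' : Over S := Over.mk (j ≫ f ≫ s)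
  let f' : X' ⟶ Y' := Over.homMk f
  let g' : X' ⟶ Y' := Over.homMk g
  let j' : W' ⟶ X' := Over.homMk j
  have : IsSeparated Y'.hom := ‹_›
  have hd : IsSchemeTheoreticallyDominant (equalizer.ι f' g').left :=
    ker_le_of_factor j _ (equalizer.lift j' (by ext1; exact hj)).left (by
      rw [← Over.comp_left, equalizer.lift_ι]; rfl)
  have : IsIso (equalizer.ι f' g').left :=
    IsClosedImmersion.isIso_iff_ker_eq_bot.mpr hd.ker_eq_bot
  rw [← cancel_epi (equalizer.ι f' g').left]
  exact congr($(equalizer.condition f' g').left)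

end Groth.Agent.MP99
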