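import Groth.Agent.MP99.Basic

set_option autoImplicit false

universe u

open CategoryTheory CategoryTheory.Limits AlgebraicGeometry TopologicalSpace

namespace Groth.Agent.MP99

variable {X Y Z : Scheme.{u}}

theorem exists_principal_le {I : X.IdealSheafData} (hI : IsLocPrincipal I) (x : X) {W : X.Opens}
    (hx : x ∈ W) : ∃ U : X.affineOpens, x ∈ U.1 ∧ U.1 ≤ W ∧ ∃ f, I.ideal U = Ideal.span {f} := by
  obtain ⟨U, hU, f, hf⟩ := hI x
  obtain ⟨_, ⟨V, hV, rfl⟩, hxV, hVle : V ≤ U.1 ⊓ W⟩ :=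
    X.isBasis_affineOpens.exists_subset_of_mem_open
      (show x ∈ U.1 ⊓ W from ⟨hU, hx⟩) (U.1 ⊓ W).isOpen
  exact ⟨⟨V, hV⟩, hxV, hVle.trans inf_le_right, _,
    ideal_restrict I (V := ⟨V, hV⟩) (hVle.trans inf_le_left) hf⟩

theorem exists_nzd_le {I : X.IdealSheafData} (hI : BlowUp.IsEffCartierIdeal I) (x : X) {W : X.Opens}
    (hx : x ∈ W) : ∃ U : X.affineOpens, x ∈ U.1 ∧ U.1 ≤ W ∧
      ∃ f ∈ nonZeroDivisors Γ(X, U.1), I.ideal U = Ideal.span {f} := by
  obtain ⟨U, hU, f, hfz, hf⟩ := hI x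
  obtain ⟨_, ⟨V, hV, rfl⟩, hxV, hVle : V ≤ U.1 ⊓ W⟩ :=
    X.isBasis_affineOpens.exists_subset_of_mem_open
      (show x ∈ U.1 ⊓ W from ⟨hU, hx⟩) (U.1 ⊓ W).isOpen
  exact ⟨⟨V, hV⟩, hxV, hVle.trans inf_le_right, _,
    map_mem_nonZeroDivisors (V := ⟨V, hV⟩) (hVle.trans inf_le_left) hfz,
    ideal_restrict I (V := ⟨V, hV⟩) (hVle.trans inf_le_left) hf⟩

theorem exists_common {I J : X.IdealSheafData} (hI : BlowUp.IsEffCartierIdeal I)
    (hJ : BlowUp.IsEffCartierIdeal J) (x : X) : ∃ U : X.affineOpens, x ∈ U.1 ∧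
      (∃ f ∈ nonZeroDivisors Γ(X, U.1), I.ideal U = Ideal.span {f}) ∧
      ∃ g ∈ nonZeroDivisors Γ(X, U.1), J.ideal U = Ideal.span {g} := by
  obtain ⟨U, hU, f, hfz, hf⟩ := hI x
  obtain ⟨V, hV, hVU, g, hgz, hg⟩ := exists_nzd_le hJ x hU
  exact ⟨V, hV, ⟨_, map_mem_nonZeroDivisors hVU hfz, ideal_restrict I hVU hf⟩, g, hgz, hg⟩

theorem isEffCartier_mul {I J : X.IdealSheafData} (hI : BlowUp.IsEffCartierIdeal I)
    (hJ : BlowUp.IsEffCartierIdeal J) : BlowUp.IsEffCartierIdeal (I * J) := fun x => by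
  obtain ⟨U, hU, ⟨f, hfz, hf⟩, g, hgz, hg⟩ := exists_common hI hJ x
  refine ⟨U, hU, f * g, mul_mem hfz hgz, ?_⟩
  rw [Scheme.IdealSheafData.ideal_mul, Pi.mul_apply, hf, hg, Ideal.span_singleton_mul_span_singleton]

theorem isEffCartier_top : BlowUp.IsEffCartierIdeal (⊤ : X.IdealSheafData) := fun x => by
  obtain ⟨_, ⟨V, hV, rfl⟩, hxV, -⟩ :=
    X.isBasis_affineOpens.exists_subset_of_mem_open (Set.mem_univ x) isOpen_univ
  refine ⟨⟨V, hV⟩, hxV, 1, one_mem _, ?_⟩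
  rw [Scheme.IdealSheafData.ideal_top, Pi.top_apply, Ideal.span_singleton_one]

theorem interior_mul (I J : X.IdealSheafData) :
    ModPair.interior (I * J) = ModPair.interior I ⊓ ModPair.interior J := by
  ext x
  simp [ModPair.interior, Scheme.IdealSheafData.support_mul]

theorem interior_top : ModPair.interior (⊤ : X.IdealSheafData) = ⊤ := by
  ext x; simp [ModPair.interior]

theorem dominant_inf_interior {I J : X.IdealSheafData} (hI : BlowUp.IsEffCartierIdeal I)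
    (hJ : BlowUp.IsEffCartierIdeal J) :
    IsSchemeTheoreticallyDominant (ModPair.interior I ⊓ ModPair.interior J).ι := by
  rw [← interior_mul]
  exact dominant_of_isEffCartier (isEffCartier_mul hI hJ)

theorem exists_affine_le (x : X) {W : X.Opens} (hx : x ∈ W) :
    ∃ U : X.affineOpens, x ∈ U.1 ∧ U.1 ≤ W := by
  obtain ⟨_, ⟨V, hV, rfl⟩, hxV, hVle⟩ :=
    X.isBasis_affineOpens.exists_subset_of_mem_open hx W.isOpen
  exact ⟨⟨V, hV⟩, hxV, hVle⟩

/-- Inequalities of ideal sheaves are local. -/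
theorem le_of_local {I J : X.IdealSheafData}
    (h : ∀ x : X, ∃ U : X.affineOpens, x ∈ U.1 ∧ I.ideal U ≤ J.ideal U) : I ≤ J := by
  choose U hU hle using h
  exact Scheme.IdealSheafData.le_of_iSup_eq_top U
    (top_unique fun x _ => Opens.mem_iSup.mpr ⟨x, hU x⟩) hle

theorem eq_of_local {I J : X.IdealSheafData}
    (h : ∀ x : X, ∃ U : X.affineOpens, x ∈ U.1 ∧ I.ideal U = J.ideal U) : I = J :=
  le_antisymm (le_of_local fun x => (h x).imp fun _ hU => ⟨hU.1, hU.2.le⟩)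
    (le_of_local fun x => (h x).imp fun _ hU => ⟨hU.1, hU.2.ge⟩)

/-- An affine chart around a point, over an affine open of the target. -/
theorem exists_chart (f : X ⟶ Y) (x : X) :
    ∃ (U : Y.affineOpens) (V : X.affineOpens), x ∈ V.1 ∧ V.1 ≤ f ⁻¹ᵁ U.1 := by
  obtain ⟨U, hU, -⟩ := exists_affine_le (f x) (W := ⊤) trivial
  obtain ⟨V, hV, hVU⟩ := exists_affine_le x (W := f ⁻¹ᵁ U.1) hU
  exact ⟨U, V, hV, hVU⟩

theorem comap_mul (I J : Y.IdealSheafData) (f : X ⟶ Y) :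
    (I * J).comap f = I.comap f * J.comap f := eq_of_local fun x => by
  obtain ⟨U, V, hV, e⟩ := exists_chart f x
  refine ⟨V, hV, ?_⟩
  simp only [Scheme.IdealSheafData.ideal_mul, Pi.mul_apply, ideal_comap _ f U V e, Ideal.map_mul]

theorem le_of_mul_le_mul {I J E : X.IdealSheafData} (hE : BlowUp.IsEffCartierIdeal E)
    (h : I * E ≤ J * E) : I ≤ J := le_of_local fun x => by
  obtain ⟨U, hU, e, hez, he⟩ := hE x
  refine ⟨U, hU, fun a ha => ?_⟩
  have := h U (show a * e ∈ (I * E).ideal U by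
    rw [Scheme.IdealSheafData.ideal_mul, Pi.mul_apply, he]
    exact Ideal.mul_mem_mul ha (Ideal.mem_span_singleton_self e))
  rw [Scheme.IdealSheafData.ideal_mul, Pi.mul_apply, he, Ideal.mem_mul_span_singleton] at this
  obtain ⟨b, hb, hbe⟩ := this
  rwa [← (mul_cancel_right_mem_nonZeroDivisors hez).mp hbe]

theorem eq_of_mul_eq_mul {I J E : X.IdealSheafData} (hE : BlowUp.IsEffCartierIdeal E)
    (h : I * E = J * E) : I = J :=
  le_antisymm (le_of_mul_le_mul hE h.le) (le_of_mul_le_mul hE h.ge)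

theorem isEffCartier_of_local {I : X.IdealSheafData}
    (h : ∀ x : X, ∃ W : X.Opens, x ∈ W ∧ BlowUp.IsEffCartierIdeal (I.comap W.ι)) :
    BlowUp.IsEffCartierIdeal I := fun x => by
  obtain ⟨W, hW, hI⟩ := h x
  obtain ⟨U, hU, f, hfz, hf⟩ := hI ⟨x, hW⟩
  let U' : X.affineOpens := ⟨W.ι ''ᵁ U.1, U.2.image_of_isOpenImmersion W.ι⟩
  rw [Scheme.IdealSheafData.ideal_comap_of_isOpenImmersion] at hf
  simp only [Scheme.Opens.ι_appIso, Iso.refl_inv] at hf
  erw [Ideal.comap_id] at hf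
  exact ⟨U', ⟨⟨x, hW⟩, hU, rfl⟩, f, hfz, hf⟩

theorem isEffCartier_comap_isOpenImmersion {I : Y.IdealSheafData} (hI : BlowUp.IsEffCartierIdeal I)
    (f : X ⟶ Y) [IsOpenImmersion f] : BlowUp.IsEffCartierIdeal (I.comap f) := by
  haveI := dominant_of_isEffCartier hI
  haveI := isAffineHom_interior (isLocPrincipal_of_isEffCartier hI)
  haveI : IsSchemeTheoreticallyDominant (f ⁻¹ᵁ ModPair.interior I).ι :=
    IsSchemeTheoreticallyDominant.of_isPullback (isPullback_morphismRestrict f _)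
  exact isEffCartier_comap (isLocPrincipal_of_isEffCartier hI) f le_rfl

theorem ideal_fg {I : X.IdealSheafData} (hI : IsLocPrincipal I) (U : X.affineOpens) :
    (I.ideal U).FG := by
  have key : ∀ x : U.1, ∃ r : Γ(X, U.1), x.1 ∈ X.basicOpen r ∧
      ∃ g, I.ideal (X.affineBasicOpen r) = Ideal.span {g} := fun x => by
    obtain ⟨V, hxV, hVU, f, hf⟩ := exists_principal_le hI x.1 x.2
    obtain ⟨r, r', hrr, hxr⟩ := exists_basicOpen_le_affine_inter U.2 V.2 x.1 ⟨x.2, hxV⟩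
    exact ⟨r, hxr, _, ideal_restrict I (V := X.affineBasicOpen r)
      (show X.basicOpen r ≤ V.1 from hrr.trans_le (X.basicOpen_le r')) hf⟩
  choose r hr g hg using key
  have hspan : Ideal.span (Set.range r) = ⊤ := by
    rw [← U.2.self_le_iSup_basicOpen_iff]
    exact fun x hx => Opens.mem_iSup.mpr ⟨⟨_, _, rfl⟩, hr ⟨x, hx⟩⟩
  refine Ideal.fg_of_localizationSpan (Set.range r) hspan ?_
  rintro ⟨_, x, rfl⟩
  haveI := U.2.isLocalization_basicOpen (r x)
  let e := IsLocalization.algEquiv (Submonoid.powers (r x))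
    Γ(X, X.basicOpen (r x)) (Localization.Away (r x))
  let g' : Γ(X, X.basicOpen (r x)) := g x
  have h1 : (I.ideal U).map (algebraMap Γ(X, U.1) Γ(X, X.basicOpen (r x))) = Ideal.span {g'} :=
    (I.map_ideal (U := X.affineBasicOpen (r x)) (X.basicOpen_le _)).trans (hg x)
  refine ⟨{e g'}, ?_⟩
  rw [Finset.coe_singleton]
  have h2 := congrArg (Ideal.map e.toAlgHom.toRingHom) h1
  rw [Ideal.map_map, Ideal.map_span, Set.image_singleton] at h2
  refine h2.symm.trans (congrArg (fun φ : _ →+* Localization.Away (r x) => Ideal.map φ _) ?_)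
  exact e.toAlgHom.comp_algebraMap

end Groth.Agent.MP99
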