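import Groth.Agent.MP99.Chart

set_option autoImplicit false

universe u

open CategoryTheory CategoryTheory.Limits AlgebraicGeometry TopologicalSpace

namespace Groth.Agent.MP99

variable {Y Z : Scheme.{u}} {I J : Y.IdealSheafData}

theorem ideal_le_of_comap_le {W : Y.Opens} (h : I.comap W.ι ≤ J.comap W.ι) {V : Y.affineOpens}
    (hVW : V.1 ≤ W) : I.ideal V ≤ J.ideal V := by
  have := Scheme.IdealSheafData.comap_mono (Y.homOfLE hVW) h
  simp only [← Scheme.IdealSheafData.comap_comp, Y.homOfLE_ι] at this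
  have h2 := this ⟨⊤, @isAffineOpen_top _ V.2⟩
  simp only [Scheme.IdealSheafData.ideal_comap_of_isOpenImmersion,
    Scheme.Opens.ι_appIso, Iso.refl_inv] at h2
  erw [Ideal.comap_id, Ideal.comap_id] at h2
  have e : (⟨V.1.ι ''ᵁ ⊤, (@isAffineOpen_top _ V.2).image_of_isOpenImmersion _⟩ : Y.affineOpens) = V :=
    Subtype.ext V.1.ι_image_top
  exact e ▸ h2

theorem comap_le_of_ideal_le {U : Y.Opens}
    (h : ∀ x ∈ U, ∃ V : Y.affineOpens, x ∈ V.1 ∧ V.1 ≤ U ∧ I.ideal V ≤ J.ideal V) :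
    I.comap U.ι ≤ J.comap U.ι := le_of_local fun x => by
  obtain ⟨V, hV, hVU, hle⟩ := h x.1 x.2
  have hV' : IsAffineOpen (U.ι ⁻¹ᵁ V.1) := by
    refine V.2.preimage_of_isOpenImmersion U.ι ?_
    intro y hy
    exact ⟨⟨y, hVU hy⟩, rfl⟩
  refine ⟨⟨_, hV'⟩, hV, ?_⟩
  rw [ideal_comap I U.ι V ⟨_, hV'⟩ le_rfl, ideal_comap J U.ι V ⟨_, hV'⟩ le_rfl]
  exact Ideal.map_mono hle

variable (I J)

/-- The largest open over which `I ≤ J`. -/
def maxLE : Y.Opens := ⨆ W : {W : Y.Opens // I.comap W.ι ≤ J.comap W.ι}, W.1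

theorem comap_maxLE : I.comap (maxLE I J).ι ≤ J.comap (maxLE I J).ι :=
  comap_le_of_ideal_le fun x hx => by
    obtain ⟨⟨W, hW⟩, hxW⟩ := Opens.mem_iSup.mp hx
    obtain ⟨V, hV, hVW⟩ := exists_affine_le x hxW
    exact ⟨V, hV, hVW.trans (le_iSup (fun W : {W : Y.Opens // I.comap W.ι ≤ J.comap W.ι} => W.1) ⟨W, hW⟩),
      ideal_le_of_comap_le hW hVW⟩

variable {I J}

theorem le_maxLE {W : Y.Opens} (hW : I.comap W.ι ≤ J.comap W.ι) : W ≤ maxLE I J :=
  le_iSup (fun W : {W : Y.Opens // I.comap W.ι ≤ J.comap W.ι} => W.1) ⟨W, hW⟩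

theorem apply_mem_maxLE (hI : BlowUp.IsEffCartierIdeal I) (hJ : IsLocPrincipal J) (hJI : J ≤ I)
    (h : Z ⟶ Y) (hIh : BlowUp.IsEffCartierIdeal (I.comap h)) (hle : I.comap h ≤ J.comap h) (x : Z) :
    h x ∈ maxLE I J := by
  obtain ⟨U, hU, a0, -, ha0⟩ := hI (h x)
  obtain ⟨V, hV, hVU, b, hb⟩ := exists_principal_le hJ (h x) hU
  have ha := ideal_restrict I (show V ≤ U from hVU) ha0
  generalize (Y.presheaf.map _).hom a0 = a at ha
  have hba := hJI V
  rw [ha, hb, Ideal.span_singleton_le_iff_mem, Ideal.mem_span_singleton'] at hba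
  obtain ⟨c, hc⟩ := hba
  obtain ⟨W, hW, hWV⟩ := exists_affine_le x (W := h ⁻¹ᵁ V.1) hV
  have hanz : (h.appLE V.1 W.1 hWV).hom a ∈ nonZeroDivisors Γ(Z, W.1) :=
    mem_nonZeroDivisors_of_span hIh
      (by rw [ideal_comap I h V W hWV, ha, Ideal.map_span, Set.image_singleton])
  have h3 := hle W
  rw [ideal_comap I h V W hWV, ideal_comap J h V W hWV, ha, hb, ← hc, Ideal.map_span, Ideal.map_span,
    Set.image_singleton, Set.image_singleton, Ideal.span_singleton_le_iff_mem,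
    Ideal.mem_span_singleton'] at h3
  obtain ⟨d, hd⟩ := h3
  rw [map_mul, ← mul_assoc] at hd
  have hu : d * (h.appLE V.1 W.1 hWV).hom c = 1 :=
    (mul_cancel_right_mem_nonZeroDivisors hanz).mp (hd.trans (one_mul _).symm)
  have hxc : h x ∈ Y.basicOpen c := by
    have h5 : W.1 ⊓ h ⁻¹ᵁ Y.basicOpen c = W.1 := by
      rw [Scheme.preimage_basicOpen, ← Scheme.basicOpen_res _ _ (homOfLE hWV).op]
      exact Scheme.basicOpen_of_isUnit _ (IsUnit.of_mul_eq_one_right d hu)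
    have : x ∈ W.1 ⊓ h ⁻¹ᵁ Y.basicOpen c := by rw [h5]; exact hW
    exact this.2
  refine le_maxLE (W := Y.basicOpen c) (comap_le_of_ideal_le fun y hy => ?_) hxc
  refine ⟨Y.affineBasicOpen c, hy, le_rfl, ?_⟩
  have hle' : Y.affineBasicOpen c ≤ V := Y.basicOpen_le c
  rw [ideal_restrict I hle' ha, ideal_restrict J hle' hb, ← hc, map_mul]
  exact le_of_eq (Ideal.span_singleton_mul_left_unit (RingedSpace.isUnit_res_basicOpen _ c) _).symm

end Groth.Agent.MP99
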