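import Groth.Agent.MP99.Ops
import Mathlib.RingTheory.Ideal.Colon

set_option autoImplicit false

universe u

open CategoryTheory CategoryTheory.Limits AlgebraicGeometry TopologicalSpace

namespace Groth.Agent.MP99

variable {X : Scheme.{u}}

theorem map_colon_of_fg {A B : Type*} [CommRing A] [CommRing B] [Algebra A B] (r : A)
    [IsLocalization.Away r B] (I E : Ideal A) (hE : E.FG) :
    (Submodule.colon I (E : Set A)).map (algebraMap A B) =
      Submodule.colon (I.map (algebraMap A B)) (E.map (algebraMap A B) : Set B) := by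
  classical
  apply le_antisymm
  · rw [Ideal.map_le_iff_le_comap]
    intro a ha
    rw [Submodule.mem_colon] at ha
    rw [Ideal.mem_comap, Submodule.mem_colon]
    intro b hb
    have : Ideal.span {algebraMap A B a} * E.map (algebraMap A B) ≤ I.map (algebraMap A B) := by
      rw [← Set.image_singleton, ← Ideal.map_span, ← Ideal.map_mul]
      refine Ideal.map_mono (Ideal.mul_le.mpr fun x hx y hy => ?_)
      obtain ⟨c, rfl⟩ := Ideal.mem_span_singleton'.mp hx
      rw [mul_assoc]
      exact I.mul_mem_left c (ha y hy)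
    exact this (Ideal.mul_mem_mul (Ideal.mem_span_singleton_self _) hb)
  · intro z hz
    obtain ⟨a, ⟨_, n, rfl⟩, rfl⟩ := IsLocalization.exists_mk'_eq (Submonoid.powers r) z
    obtain ⟨s, hs⟩ := hE
    rw [Submodule.mem_colon] at hz
    have hu : IsUnit (algebraMap A B (r ^ n)) :=
      IsLocalization.map_units (M := Submonoid.powers r) B ⟨r ^ n, n, rfl⟩
    have key : ∀ x ∈ s, ∃ m : ℕ, r ^ m * (a * x) ∈ I := by
      intro x hx
      have h1 := hz (algebraMap A B x) (Ideal.mem_map_of_mem _ (hs ▸ Submodule.subset_span hx))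
      have h2 : algebraMap A B (a * x) ∈ I.map (algebraMap A B) := by
        have := Ideal.mul_mem_left _ (algebraMap A B (r ^ n)) h1
        rwa [smul_eq_mul, ← mul_assoc, mul_comm (algebraMap A B (r ^ n)), IsLocalization.mk'_spec,
          ← map_mul] at this
      obtain ⟨_, ⟨m, rfl⟩, hm⟩ :=
        (IsLocalization.algebraMap_mem_map_algebraMap_iff (Submonoid.powers r) B _ _).mp h2
      exact ⟨m, hm⟩
    choose! m hm using key
    rw [IsLocalization.mk'_mem_map_algebraMap_iff]
    refine ⟨r ^ s.sup m, ⟨_, rfl⟩, ?_⟩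
    rw [Submodule.mem_colon]
    intro x hx
    have hx' : x ∈ Ideal.span (s : Set A) := hs.symm ▸ hx
    refine Submodule.span_induction (p := fun x _ => (r ^ s.sup m * a) • x ∈ I) ?_ (by simp) ?_ ?_ hx'
    · intro y hy
      have : r ^ s.sup m * a * y = r ^ (s.sup m - m y) * (r ^ m y * (a * y)) := by
        rw [← mul_assoc (r ^ (s.sup m - m y)), ← pow_add, Nat.sub_add_cancel (Finset.le_sup hy), mul_assoc]
      rw [smul_eq_mul, this]
      exact I.mul_mem_left _ (hm y hy)
    · intro y z _ _ hy hz; rw [smul_add]; exact add_mem hy hz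
    · intro c y _ hy; rw [smul_comm]; exact I.mul_mem_left c hy

/-- The ideal quotient `(I : E)` by a locally principal ideal sheaf. -/
noncomputable def colon (I E : X.IdealSheafData) (hE : IsLocPrincipal E) : X.IdealSheafData where
  ideal U := Submodule.colon (I.ideal U) (E.ideal U : Set Γ(X, U.1))
  map_ideal_basicOpen U f := by
    letI : Algebra Γ(X, U.1) Γ(X, X.basicOpen f) :=
      (X.presheaf.map (homOfLE <| X.basicOpen_le f).op).hom.toAlgebra
    haveI : IsLocalization.Away f Γ(X, X.basicOpen f) := U.2.isLocalization_of_eq_basicOpen _ _ rfl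
    have := map_colon_of_fg (B := Γ(X, X.basicOpen f)) f (I.ideal U) (E.ideal U) (ideal_fg hE U)
    rw [RingHom.algebraMap_toAlgebra] at this
    refine this.trans ?_
    rw [← I.map_ideal_basicOpen U f, ← E.map_ideal_basicOpen U f]
    rfl

theorem colon_ideal_eq {A : Type*} [CommRing A] {a e : A} (he : e ∈ nonZeroDivisors A) :
    Submodule.colon (Ideal.span {a * e}) (Ideal.span {e} : Set A) = Ideal.span {a} := by
  ext x
  rw [Submodule.mem_colon, Ideal.mem_span_singleton']
  constructor
  · intro h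
    obtain ⟨c, hc⟩ := Ideal.mem_span_singleton'.mp (h e (Ideal.mem_span_singleton_self e))
    refine ⟨c, (mul_cancel_right_mem_nonZeroDivisors he).mp ?_⟩
    rw [mul_assoc, hc, smul_eq_mul]
  · rintro ⟨c, rfl⟩ y hy
    obtain ⟨d, rfl⟩ := Ideal.mem_span_singleton'.mp hy
    exact Ideal.mem_span_singleton'.mpr ⟨c * d, by rw [smul_eq_mul]; ring⟩

theorem exists_cofactor {I E : X.IdealSheafData} (hI : BlowUp.IsEffCartierIdeal I)
    (hE : BlowUp.IsEffCartierIdeal E) (h : I ≤ E) :
    ∃ K : X.IdealSheafData, BlowUp.IsEffCartierIdeal K ∧ I = K * E := by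
  refine ⟨colon I E (isLocPrincipal_of_isEffCartier hE), ?_, ?_⟩
  · intro x
    obtain ⟨U, hU, ⟨a, haz, ha⟩, e, hez, he⟩ := exists_common hI hE x
    obtain ⟨c, hc⟩ := Ideal.mem_span_singleton'.mp
      (he ▸ h U (ha ▸ Ideal.mem_span_singleton_self a))
    refine ⟨U, hU, c, ?_, ?_⟩
    · rw [← hc] at haz; exact (mul_mem_nonZeroDivisors.mp haz).1
    · show Submodule.colon (I.ideal U) (E.ideal U : Set Γ(X, U.1)) = _
      rw [ha, he, ← hc, colon_ideal_eq hez]
  · refine eq_of_local fun x => ?_
    obtain ⟨U, hU, ⟨a, haz, ha⟩, e, hez, he⟩ := exists_common hI hE x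
    obtain ⟨c, hc⟩ := Ideal.mem_span_singleton'.mp
      (he ▸ h U (ha ▸ Ideal.mem_span_singleton_self a))
    refine ⟨U, hU, ?_⟩
    show I.ideal U = Submodule.colon (I.ideal U) (E.ideal U : Set Γ(X, U.1)) * E.ideal U
    rw [ha, he, ← hc, colon_ideal_eq hez, Ideal.span_singleton_mul_span_singleton]

theorem isEffCartier_of_mul {K E C : X.IdealSheafData} (hE : BlowUp.IsEffCartierIdeal E)
    (hC : BlowUp.IsEffCartierIdeal C) (h : K * E = C) : BlowUp.IsEffCartierIdeal K := by
  have hle : C ≤ E := h ▸ fun U => by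
    rw [Scheme.IdealSheafData.ideal_mul, Pi.mul_apply]; exact Ideal.mul_le.mpr fun a _ b hb => Ideal.mul_mem_left _ a hb
  obtain ⟨K', hK', e⟩ := exists_cofactor hC hE hle
  rwa [eq_of_mul_eq_mul hE (h.trans e)]

end Groth.Agent.MP99
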