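import Groth.Agent.MP99.ProdLemmas

set_option autoImplicit false

universe u

open CategoryTheory CategoryTheory.Limits AlgebraicGeometry TopologicalSpace

namespace Groth.Agent.MP99

open ModPair

variable {X T S Y M : Scheme.{u}}

/-- A blow-up is an isomorphism away from its centre. -/
theorem isIso_restrict_of_isBlowUp (π : Y ⟶ M) (C : M.IdealSheafData) (h : BlowUp.IsBlowUp π C) :
    IsIso (π ∣_ interior C) := by
  have htop : C.comap (interior C).ι = ⊤ := by
    rw [← Scheme.IdealSheafData.support_eq_bot_iff, Scheme.IdealSheafData.support_comap]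
    ext x; simp only [Closeds.coe_preimage, Set.mem_preimage, Closeds.coe_bot, Set.mem_empty_iff_false, iff_false]; exact x.2
  have hN : ∀ {Z : Scheme.{u}} (g : Z ⟶ (interior C).toScheme),
      BlowUp.IsEffCartierIdeal (C.comap (g ≫ (interior C).ι)) := fun g => by
    rw [Scheme.IdealSheafData.comap_comp, htop, Scheme.IdealSheafData.comap_top]
    exact isEffCartier_top
  obtain ⟨l, hl, -⟩ := h.2 _ (interior C).ι (by rw [htop]; exact isEffCartier_top)
  have hrange : Set.range l ⊆ Set.range (π ⁻¹ᵁ interior C).ι := by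
    rw [Scheme.Opens.range_ι]
    rintro _ ⟨x, rfl⟩
    show π.base (l.base x) ∈ interior C
    rw [← Scheme.Hom.comp_apply, hl]
    exact x.2
  let s := IsOpenImmersion.lift (π ⁻¹ᵁ interior C).ι l hrange
  have hs : s ≫ π ∣_ interior C = 𝟙 _ := by
    rw [← cancel_mono (interior C).ι, Category.assoc, morphismRestrict_ι,
      IsOpenImmersion.lift_fac_assoc, hl, Category.id_comp]
  refine ⟨s, ?_, hs⟩
  rw [← cancel_mono (π ⁻¹ᵁ interior C).ι, Category.id_comp]
  refine (h.2 _ ((π ⁻¹ᵁ interior C).ι ≫ π)
    (by rw [← morphismRestrict_ι]; exact hN _)).unique ?_ rfl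
  simp only [Category.assoc, s, IsOpenImmersion.lift_fac_assoc, hl, morphismRestrict_ι]

theorem dominant_homOfLE {W U : M.Opens} (hle : W ≤ U) [IsSchemeTheoreticallyDominant W.ι]
    [QuasiCompact W.ι] : IsSchemeTheoreticallyDominant (M.homOfLE hle) := by
  refine IsSchemeTheoreticallyDominant.of_isPullback (f := W.ι) (g := U.ι) (pX := 𝟙 _) ?_
  apply IsOpenImmersion.isPullback <;> simp [hle]

/-- A dense open inside the complement of the centre stays dense in the blow-up. -/
theorem dominant_preimage_of_isBlowUp (π : Y ⟶ M) (C : M.IdealSheafData) (h : BlowUp.IsBlowUp π C)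
    {W : M.Opens} (hle : W ≤ interior C) [IsSchemeTheoreticallyDominant W.ι] [QuasiCompact W.ι] :
    IsSchemeTheoreticallyDominant (π ⁻¹ᵁ W).ι := by
  haveI := isIso_restrict_of_isBlowUp π C h
  haveI hN : IsSchemeTheoreticallyDominant (π ⁻¹ᵁ interior C).ι := by
    rw [← interior_comap]; exact dominant_of_isEffCartier h.1
  haveI := dominant_homOfLE hle
  haveI : QuasiCompact (M.homOfLE hle ≫ (interior C).ι) := by rw [M.homOfLE_ι hle]; infer_instance
  haveI : QuasiCompact (M.homOfLE hle) := QuasiCompact.of_comp _ (interior C).ι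
  have hle' : π ⁻¹ᵁ W ≤ π ⁻¹ᵁ interior C := fun x hx => hle hx
  have hsq : IsPullback (π ∣_ W) (Y.homOfLE hle') (M.homOfLE hle) (π ∣_ interior C) := by
    refine IsPullback.of_bot ?_ (by simp [← cancel_mono (interior C).ι])
      (isPullback_morphismRestrict π (interior C))
    simpa using isPullback_morphismRestrict π W
  haveI := IsSchemeTheoreticallyDominant.of_isPullback hsq
  refine ker_le_of_factor (Y.homOfLE hle' ≫ (π ⁻¹ᵁ interior C).ι) _ (𝟙 _) ?_
  simp

theorem dominant_prod {I : X.IdealSheafData} {J : T.IdealSheafData} (hI : BlowUp.IsEffCartierIdeal I)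
    (hJ : BlowUp.IsEffCartierIdeal J) (f : X ⟶ S) (g : T ⟶ S) (π : Y ⟶ mprod f g I J)
    (h : BlowUp.IsBlowUp π (prodCentre f g I J)) :
    IsSchemeTheoreticallyDominant
      (interior ((I.comap (mprodι f g I J ≫ pullback.fst f g)).comap π *
        (J.comap (mprodι f g I J ≫ pullback.snd f g)).comap π)).ι := by
  haveI := quasiCompact_prodInterior f g hI hJ
  haveI : IsSchemeTheoreticallyDominant (mprodι f g I J ⁻¹ᵁ prodInterior f g I J).ι :=
    dominant_preimage_imageι (prodInterior f g I J)
  haveI : QuasiCompact (mprodι f g I J ⁻¹ᵁ prodInterior f g I J).ι :=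
    MorphismProperty.of_isPullback (P := @QuasiCompact)
      (isPullback_morphismRestrict (mprodι f g I J) (prodInterior f g I J)) inferInstance
  have e : mprodι f g I J ⁻¹ᵁ prodInterior f g I J =
      interior (I.comap (mprodι f g I J ≫ pullback.fst f g) *
        J.comap (mprodι f g I J ≫ pullback.snd f g)) := by
    rw [interior_mul, interior_comap, interior_comap]; rfl
  have key := dominant_preimage_of_isBlowUp π _ h (W := mprodι f g I J ⁻¹ᵁ prodInterior f g I J) (by
    rw [e, interior_mul]
    exact le_trans inf_le_left (interior_mono (le_prodCentre_fst f g I J)))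
  rwa [e, ← interior_comap, comap_mul] at key

end Groth.Agent.MP99
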