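import Groth.Agent.MP99.Colon
import Groth.Agent.MP99.BlowUpDense
import Mathlib.AlgebraicGeometry.ValuativeCriterion
import Mathlib.RingTheory.Ideal.MinimalPrime.Localization

/-!
Valuation rings probing effective Cartier divisors.
-/

set_option autoImplicit false

universe u

open CategoryTheory CategoryTheory.Limits AlgebraicGeometry TopologicalSpace IsLocalRing

namespace Groth.Agent.MP99

variable {X : Scheme.{u}}

theorem exists_specializes_interior {I : X.IdealSheafData} (hI : BlowUp.IsEffCartierIdeal I) (s : X) :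
    ∃ u : X, u ∈ ModPair.interior I ∧ u ⤳ s := by
  obtain ⟨U, hU, a, ha, haI⟩ := hI s
  let p := U.2.primeIdealOf ⟨s, hU⟩
  obtain ⟨q, hq, hqp⟩ := Ideal.exists_minimalPrimes_le (I := (⊥ : Ideal Γ(X, U.1))) (J := p.asIdeal) bot_le
  let q' : Spec Γ(X, U.1) := ⟨q, hq.1.1⟩
  refine ⟨U.2.fromSpec q', ?_, ?_⟩
  · have h2 : U.2.fromSpec q' ∈ X.basicOpen a := by
      have h3 := U.2.fromSpec_preimage_basicOpen a
      have h4 : q' ∈ PrimeSpectrum.basicOpen a := fun h => notMem_nonZeroDivisors_of_mem_mem_minimalPrimes h hq ha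
      rw [← h3] at h4
      exact h4
    rw [← inf_interior_eq_basicOpen I haI] at h2
    exact h2.2
  · have h := ((PrimeSpectrum.le_iff_specializes q' p).mp hqp).map U.2.fromSpec.continuous
    rwa [U.2.fromSpec_primeIdealOf ⟨s, hU⟩] at h

theorem isEffCartier_of_integral [IsIntegral X] {I : X.IdealSheafData} (hI : IsLocPrincipal I) {x : X}
    (hx : x ∈ ModPair.interior I) : BlowUp.IsEffCartierIdeal I := fun y => by
  obtain ⟨U, hU, f, hf⟩ := hI y
  haveI : Nonempty U.1.toScheme := ⟨⟨y, hU⟩⟩
  refine ⟨U, hU, f, mem_nonZeroDivisors_of_ne_zero fun h0 => ?_, hf⟩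
  have h1 := inf_interior_eq_basicOpen I hf
  rw [h0, Scheme.basicOpen_zero] at h1
  obtain ⟨z, hz⟩ := nonempty_preirreducible_inter U.1.2 (ModPair.interior I).2 ⟨y, hU⟩ ⟨x, hx⟩
  have : z ∈ U.1 ⊓ ModPair.interior I := hz
  rw [h1] at this
  exact this

theorem exists_valuationRing_specializes {u s : X} (h : u ⤳ s) :
    ∃ (A : Type u) (_ : CommRing A) (_ : IsDomain A) (_ : ValuationRing A)
      (p : Spec (CommRingCat.of A) ⟶ X), p ⟨⊥, Ideal.isPrime_bot⟩ = u ∧ p (closedPoint A) = s := by
  let φ : X.presheaf.stalk s ⟶ X.residueField u := X.presheaf.stalkSpecializes h ≫ X.residue u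
  obtain ⟨A, hA, hA_local⟩ := exists_factor_valuationRing φ.hom
  let ψ : X.presheaf.stalk s ⟶ CommRingCat.of A := CommRingCat.ofHom (φ.hom.codRestrict _ hA)
  refine ⟨A, inferInstance, inferInstance, inferInstance, Spec.map ψ ≫ X.fromSpecStalk s, ?_, ?_⟩
  · have e : Spec.map (CommRingCat.ofHom (algebraMap A (X.residueField u))) ≫ Spec.map ψ ≫
        X.fromSpecStalk s = X.fromSpecResidueField u := by
      rw [Scheme.fromSpecResidueField, ← Scheme.SpecMap_stalkSpecializes_fromSpecStalk h]
      simp_rw [← Spec.map_comp_assoc]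
      rfl
    have e2 : (⟨⊥, Ideal.isPrime_bot⟩ : Spec (CommRingCat.of A)) =
        Spec.map (CommRingCat.ofHom (algebraMap A (X.residueField u))) (closedPoint (X.residueField u)) := by
      refine PrimeSpectrum.ext ?_
      change (⊥ : Ideal A) = Ideal.comap (algebraMap A (X.residueField u)) (maximalIdeal _)
      rw [IsLocalRing.maximalIdeal_eq_bot, ← RingHom.ker_eq_comap_bot]
      exact ((RingHom.injective_iff_ker_eq_bot _).mp Subtype.val_injective).symm
    rw [e2]
    exact (congrArg (fun f : Spec (X.residueField u) ⟶ X => f (closedPoint (X.residueField u))) e).trans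
      (X.fromSpecResidueField_apply u _)
  · show X.fromSpecStalk s (Spec.map ψ (closedPoint A)) = s
    have : Spec.map ψ (closedPoint A) = closedPoint (X.presheaf.stalk s) :=
      comap_closedPoint (S := A) (φ.hom.codRestrict A.toSubring hA)
    rw [this, X.fromSpecStalk_closedPoint]

/-- A valuation ring through a point of the support, with interior the generic point only. -/
theorem exists_probe {I : X.IdealSheafData} (hI : BlowUp.IsEffCartierIdeal I) (s : X) :
    ∃ (R : Type u) (_ : CommRing R) (_ : IsDomain R) (_ : ValuationRing R)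
      (p : Spec (CommRingCat.of R) ⟶ X), BlowUp.IsEffCartierIdeal (I.comap p) ∧
        (∀ x : Spec (CommRingCat.of R),
          x ∈ (ModPair.interior (I.comap p) : Set (Spec (CommRingCat.of R))) ↔ x.asIdeal = ⊥) ∧
        p (closedPoint R) = s := by
  have hLP := isLocPrincipal_of_isEffCartier hI
  by_cases hs : s ∈ ModPair.interior I
  · let K := X.residueField s
    let p : Spec (CommRingCat.of K) ⟶ X := X.fromSpecResidueField s
    have hmem : ∀ x, x ∈ ModPair.interior (I.comap p) := fun x => by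
      rw [interior_comap]
      show X.fromSpecResidueField s x ∈ ModPair.interior I
      rw [Scheme.fromSpecResidueField_apply]; exact hs
    refine ⟨K, inferInstance, inferInstance, inferInstance, p, ?_, fun x => ?_, ?_⟩
    · exact isEffCartier_of_integral (isLocPrincipal_comap hLP p) (hmem (closedPoint K))
    · refine ⟨fun _ => ?_, fun _ => hmem x⟩
      exact (Ideal.eq_bot_or_top _).resolve_right x.2.ne_top
    · exact X.fromSpecResidueField_apply s _
  obtain ⟨U, hU, a0, -, hf⟩ := hI s
  obtain ⟨u, hu, hus⟩ := exists_specializes_interior hI s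
  obtain ⟨A, _, _, _, p, hpu, hps⟩ := exists_valuationRing_specializes hus
  obtain ⟨W, hW⟩ : ∃ W, W = ModPair.interior (I.comap p) := ⟨_, rfl⟩
  have hcl : p ⁻¹ᵁ U.1 = ⊤ := top_unique fun x _ =>
    ((specializes_closedPoint (R := A) x).map p.continuous).mem_open U.1.2 (by rw [hps]; exact hU)
  have eA := ideal_comap I p U ⟨⊤, isAffineOpen_top _⟩ hcl.ge
  rw [hf, Ideal.map_span, Set.image_singleton] at eA
  obtain ⟨a, ha⟩ : ∃ a : A, ∀ x : Spec (CommRingCat.of A),
      x ∈ ModPair.interior (I.comap p) ↔ a ∉ x.asIdeal := by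
    refine ⟨(Scheme.ΓSpecIso (CommRingCat.of A)).hom ((p.appLE U.1 ⊤ hcl.ge).hom a0), fun x => ?_⟩
    have h1 := inf_interior_eq_basicOpen _ eA
    rw [top_inf_eq] at h1
    rw [h1, basicOpen_eq_of_affine']
    exact Iff.rfl
  have ha_unit : ∀ c : A, a * c ≠ 1 := fun c hc => by
    have h1 : closedPoint A ∈ ModPair.interior (I.comap p) :=
      (ha _).mpr fun h => h (IsUnit.of_mul_eq_one _ hc)
    rw [interior_comap] at h1
    exact hs (hps ▸ h1)
  have ha0 : a ≠ 0 := fun h => by
    have h1 : (⟨⊥, Ideal.isPrime_bot⟩ : Spec (CommRingCat.of A)) ∈ ModPair.interior (I.comap p) := by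
      rw [interior_comap]
      exact Eq.mpr (congrArg (fun z : X => z ∈ (ModPair.interior I : Set X)) hpu) hu
    exact (ha _).mp h1 (h ▸ Ideal.zero_mem _)
  let P : Ideal A := ⨅ n : ℕ, Ideal.span {a ^ n}
  have hmemP : ∀ x, x ∈ P ↔ ∀ n : ℕ, a ^ n ∣ x := fun x => by
    simp only [P, Ideal.mem_iInf, Ideal.mem_span_singleton]
  have haP : a ∉ P := fun h => by
    obtain ⟨c, hc⟩ := (hmemP a).mp h 2
    refine ha_unit c (mul_left_cancel₀ ha0 ?_)
    rw [mul_one]; conv_rhs => rw [hc]
    ring
  haveI hP : P.IsPrime := by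
    refine ⟨fun h => haP (h ▸ Submodule.mem_top), fun {x y} hxy => ?_⟩
    by_contra hne
    push Not at hne
    simp only [hmemP, not_forall] at hne
    obtain ⟨⟨n, hn⟩, m, hm⟩ := hne
    have hx : x ∣ a ^ n := (ValuationRing.dvd_total x (a ^ n)).resolve_right hn
    have hy : y ∣ a ^ m := (ValuationRing.dvd_total y (a ^ m)).resolve_right hm
    obtain ⟨c, hc⟩ := ((hmemP _).mp hxy (n + m + 1)).trans (mul_dvd_mul hx hy)
    refine ha_unit c (mul_left_cancel₀ (pow_ne_zero (n + m) ha0) ?_)
    rw [mul_one]; conv_rhs => rw [pow_add, hc]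
    ring
  haveI : ValuationRing (A ⧸ P) := Function.Surjective.valuationRing (Ideal.Quotient.mk P) Ideal.Quotient.mk_surjective
  let ι : Spec (CommRingCat.of (A ⧸ P)) ⟶ Spec (CommRingCat.of A) :=
    Spec.map (CommRingCat.ofHom (Ideal.Quotient.mk P))
  have hint : ∀ x : Spec (CommRingCat.of (A ⧸ P)),
      x ∈ (ModPair.interior (I.comap (ι ≫ p)) : Set (Spec (CommRingCat.of (A ⧸ P)))) ↔ x.asIdeal = ⊥ := by
    intro x
    rw [SetLike.mem_coe, Scheme.IdealSheafData.comap_comp, interior_comap]
    show ι x ∈ ModPair.interior (I.comap p) ↔ _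
    rw [ha]
    show Ideal.Quotient.mk P a ∉ x.asIdeal ↔ _
    refine ⟨fun h => ?_, fun h hm => haP ?_⟩
    · rw [eq_bot_iff]
      intro y hy
      obtain ⟨y, rfl⟩ := Ideal.Quotient.mk_surjective y
      rw [Ideal.mem_bot, Ideal.Quotient.eq_zero_iff_mem, hmemP]
      intro n
      refine (ValuationRing.dvd_total y (a ^ n)).resolve_left fun hd => h ?_
      refine x.2.mem_of_pow_mem n ?_
      rw [← map_pow]
      exact x.asIdeal.mem_of_dvd (map_dvd _ hd) hy
    · rw [h, Ideal.mem_bot, Ideal.Quotient.eq_zero_iff_mem] at hm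
      exact hm
  refine ⟨A ⧸ P, inferInstance, inferInstance, inferInstance, ι ≫ p, ?_, hint, ?_⟩
  · exact isEffCartier_of_integral (isLocPrincipal_comap hLP _) ((hint ⟨⊥, Ideal.isPrime_bot⟩).mpr rfl)
  · show p (ι (closedPoint (A ⧸ P))) = s
    have : ι (closedPoint (A ⧸ P)) = closedPoint A := by
      haveI : IsLocalHom (Ideal.Quotient.mk P) := IsLocalHom.of_surjective _ Ideal.Quotient.mk_surjective
      exact comap_closedPoint (S := A ⧸ P) (Ideal.Quotient.mk P)
    rw [this, hps]

theorem eq_top_of_interior_eq_top {C : X.IdealSheafData} (h : ∀ x, x ∈ ModPair.interior C) : C = ⊤ := by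
  rw [← Scheme.IdealSheafData.support_eq_bot_iff]
  ext x
  exact ⟨fun hx => absurd hx (h x), False.elim⟩

theorem top_mul' (I : X.IdealSheafData) : ⊤ * I = I := eq_of_local fun x => by
  obtain ⟨U, hU, -⟩ := exists_affine_le x (W := ⊤) trivial
  exact ⟨U, hU, by rw [Scheme.IdealSheafData.ideal_mul, Pi.mul_apply]; simp⟩

theorem eq_top_of_probes {I : X.IdealSheafData} (hI : BlowUp.IsEffCartierIdeal I)
    (h : ∀ (R : Type u) [CommRing R] [IsDomain R] [ValuationRing R]
      (p : Spec (CommRingCat.of R) ⟶ X), BlowUp.IsEffCartierIdeal (I.comap p) → I.comap p = ⊤) :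
    I = ⊤ := eq_top_of_interior_eq_top fun s => by
  obtain ⟨R, _, _, _, p, hp, -, hps⟩ := exists_probe hI s
  have h1 := h R p hp
  have : closedPoint R ∈ ModPair.interior (I.comap p) := by rw [h1, interior_top]; trivial
  rw [interior_comap] at this
  exact hps ▸ this

theorem eq_of_probes {I J : X.IdealSheafData} (hI : BlowUp.IsEffCartierIdeal I)
    (hJ : BlowUp.IsEffCartierIdeal J) (hJI : J ≤ I)
    (h : ∀ (R : Type u) [CommRing R] [IsDomain R] [ValuationRing R]
      (p : Spec (CommRingCat.of R) ⟶ X), BlowUp.IsEffCartierIdeal (I.comap p) →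
        (∀ x : Spec (CommRingCat.of R),
          x ∈ (ModPair.interior (I.comap p) : Set (Spec (CommRingCat.of R))) ↔ x.asIdeal = ⊥) →
        I.comap p = J.comap p) : I = J := by
  obtain ⟨C, hC, e⟩ := exists_cofactor hJ hI hJI
  have : C = ⊤ := eq_top_of_interior_eq_top fun s => by
    obtain ⟨R, _, _, _, p, hp, hint, hps⟩ := exists_probe hI s
    have h1 := h R p hp hint
    rw [e, comap_mul] at h1
    have h2 : C.comap p = ⊤ := eq_of_mul_eq_mul hp (h1.symm.trans (top_mul' _).symm)
    have h3 : closedPoint R ∈ ModPair.interior (C.comap p) := by rw [h2, interior_top]; trivial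
    rw [interior_comap] at h3
    exact hps ▸ h3
  rw [e, this, top_mul']

end Groth.Agent.MP99
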