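import Groth.Agent.MP99.Ops
import Mathlib.AlgebraicGeometry.Morphisms.ClosedImmersion
import Mathlib.AlgebraicGeometry.Limits

set_option autoImplicit false

universe u

open CategoryTheory CategoryTheory.Limits AlgebraicGeometry TopologicalSpace

namespace Groth.Agent.MP99

variable {X Y : Scheme.{u}}

theorem comap_map_of_mono (I : X.IdealSheafData) (j : X ⟶ Y) [IsClosedImmersion j] :
    (I.map j).comap j = I := by
  have h : IsPullback I.subschemeι (𝟙 _) j (I.subschemeι ≫ j) :=
    IsPullback.of_isLimit' ⟨by simp⟩ (PullbackCone.IsLimit.mk _ (fun s => s.snd)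
      (fun s => by rw [← cancel_mono j, Category.assoc]; exact s.condition.symm)
      (fun s => Category.comp_id _) fun s m _ h2 => by simpa using h2)
  show (Scheme.Hom.ker (I.subschemeι ≫ j)).comap j = I
  rw [← Scheme.IdealSheafData.ker_fst_of_isClosedImmersion (I.subschemeι ≫ j) j]
  conv_rhs => rw [← I.ker_subschemeι, ← h.isoPullback_hom_fst]
  rw [Scheme.Hom.ker_comp_of_isIso]

/-- Inequalities of ideal sheaves can be checked on an open cover. -/
theorem le_of_comap_le {σ : Type*} {U : σ → Scheme.{u}} (j : ∀ i, U i ⟶ X) [∀ i, IsOpenImmersion (j i)]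
    (hj : ∀ x : X, ∃ i, x ∈ Set.range (j i)) {I J : X.IdealSheafData}
    (h : ∀ i, I.comap (j i) ≤ J.comap (j i)) : I ≤ J := le_of_local fun x => by
  obtain ⟨i, y, rfl⟩ := hj x
  obtain ⟨V, hV, -⟩ := exists_affine_le y (W := ⊤) trivial
  refine ⟨⟨j i ''ᵁ V.1, V.2.image_of_isOpenImmersion (j i)⟩, ⟨y, hV, rfl⟩, ?_⟩
  have := h i V
  rw [Scheme.IdealSheafData.ideal_comap_of_isOpenImmersion,
    Scheme.IdealSheafData.ideal_comap_of_isOpenImmersion] at this
  intro a ha
  have h2 := this (show (Scheme.Hom.appIso (j i) V.1).hom.hom a ∈ _ by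
    rw [Ideal.mem_comap, ← CommRingCat.comp_apply, Iso.hom_inv_id]; exact ha)
  rw [Ideal.mem_comap, ← CommRingCat.comp_apply, Iso.hom_inv_id] at h2
  exact h2

theorem exists_glue {σ : Type*} {U : σ → Scheme.{u}} (j : ∀ i, U i ⟶ X) [∀ i, IsOpenImmersion (j i)]
    (hj : ∀ x : X, ∃ i, x ∈ Set.range (j i))
    (hd : ∀ a b : σ, a ≠ b → Disjoint (Set.range (j a)) (Set.range (j b)))
    (I : ∀ i, (U i).IdealSheafData) :
    ∃ K : X.IdealSheafData, ∀ i, K.comap (j i) = I i := by
  classical
  let S : Set X.IdealSheafData := {J | ∀ i, J.comap (j i) ≤ I i}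
  refine ⟨sSup S, fun i => le_antisymm ?_ ?_⟩
  · rw [(Scheme.IdealSheafData.map_gc (j i)).l_sSup]
    exact iSup₂_le fun J hJ => hJ i
  · let R : X.Opens := (j i).opensRange
    have hRc : IsClosed (R : Set X) := by
      rw [← isOpen_compl_iff]
      have : (R : Set X)ᶜ = ⋃ a : {a // a ≠ i}, Set.range (j a.1) := by
        ext x
        constructor
        · intro hx
          obtain ⟨a, ha⟩ := hj x
          exact Set.mem_iUnion.mpr ⟨⟨a, fun h => hx (show x ∈ Set.range (j i) by rw [← h]; exact ha)⟩, ha⟩
        · intro hx hxi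
          obtain ⟨⟨a, ha⟩, hxa⟩ := Set.mem_iUnion.mp hx
          exact Set.disjoint_left.mp (hd a i ha) hxa hxi
      rw [this]
      exact isOpen_iUnion fun a => (j a.1).isOpenEmbedding.isOpen_range
    let C : X.Opens := ⟨(R : Set X)ᶜ, hRc.isOpen_compl⟩
    haveI : IsClosedImmersion (j i) := IsClosedImmersion.of_isPreimmersion _ hRc
    haveI : IsClosedImmersion C.ι := by
      refine IsClosedImmersion.of_isPreimmersion _ ?_
      rw [Scheme.Opens.range_ι]
      exact R.isOpen.isClosed_compl
    let J := (I i).map (j i) * C.ι.ker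
    have h2 : C.ι.ker.comap (j i) = ⊤ := by
      rw [← Scheme.IdealSheafData.support_eq_bot_iff, Scheme.IdealSheafData.support_comap]
      ext x
      simp only [Closeds.coe_preimage, Set.mem_preimage, Closeds.coe_bot, Set.mem_empty_iff_false,
        iff_false, Scheme.Hom.support_ker, Scheme.Opens.range_ι]
      rw [show closure (C : Set X) = C from R.isOpen.isClosed_compl.closure_eq]
      exact fun h => h ⟨x, rfl⟩
    have hJ : J ∈ S := by
      intro a
      show (_ * _ : X.IdealSheafData).comap (j a) ≤ _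
      rw [comap_mul]
      by_cases h : a = i
      · subst h
        rw [comap_map_of_mono, h2, Scheme.IdealSheafData.mul_top]
      · have hr : Set.range (j a) ⊆ Set.range C.ι := by
          rw [Scheme.Opens.range_ι]
          exact fun x hxa hxi => Set.disjoint_left.mp (hd a i h) hxa hxi
        have : C.ι.ker.comap (j a) = ⊥ := by
          rw [eq_bot_iff, ← Scheme.IdealSheafData.le_map_iff_comap_le, Scheme.IdealSheafData.map_bot,
            ← IsOpenImmersion.lift_fac C.ι (j a) hr]
          exact Scheme.Hom.le_ker_comp _ _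
        rw [this, Scheme.IdealSheafData.mul_bot]
        exact bot_le
    refine le_trans ?_ (Scheme.IdealSheafData.comap_mono (j i) (le_sSup hJ))
    show I i ≤ (_ * _ : X.IdealSheafData).comap (j i)
    rw [comap_mul, comap_map_of_mono, h2, Scheme.IdealSheafData.mul_top]

theorem isEffCartier_of_cover {σ : Type*} {U : σ → Scheme.{u}} (j : ∀ i, U i ⟶ X) [∀ i, IsOpenImmersion (j i)]
    (hj : ∀ x : X, ∃ i, x ∈ Set.range (j i)) {I : X.IdealSheafData}
    (h : ∀ i, BlowUp.IsEffCartierIdeal (I.comap (j i))) : BlowUp.IsEffCartierIdeal I :=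
  isEffCartier_of_local fun x => by
    obtain ⟨i, hi⟩ := hj x
    refine ⟨(j i).opensRange, hi, ?_⟩
    have := isEffCartier_comap_isOpenImmersion (h i) (j i).isoOpensRange.inv
    rwa [← Scheme.IdealSheafData.comap_comp, Scheme.Hom.isoOpensRange_inv_comp] at this

namespace PairCoprod

open ModPair

variable {σ : Type u} (F : σ → Pair.{u})

theorem cover (x : ↥(∐ fun i => (F i).total)) :
    ∃ i, x ∈ Set.range (Sigma.ι (fun i => (F i).total) i) := by
  obtain ⟨y, hy⟩ := (sigmaOpenCover (fun i => (F i).total)).covers x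
  exact ⟨_, y, hy⟩

theorem exists_mod : ∃ K : (∐ fun i => (F i).total).IdealSheafData,
    ∀ i, K.comap (Sigma.ι (fun i => (F i).total) i) = (F i).mod :=
  exists_glue _ (cover F) (fun _ _ h => by
    have := disjoint_opensRange_sigmaι (fun i => (F i).total) _ _ h
    rw [disjoint_iff] at this ⊢
    exact congrArg (fun W : Opens ↥(∐ fun i => (F i).total) => (W : Set ↥(∐ fun i => (F i).total))) this) _

noncomputable def obj : Pair.{u} :=
  ⟨∐ fun i => (F i).total, (exists_mod F).choose,
    isEffCartier_of_cover (Sigma.ι (fun i => (F i).total)) (cover F) fun i => by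
      rw [(exists_mod F).choose_spec i]; exact (F i).isEffCartier⟩

noncomputable def ι (i : σ) : F i ⟶ obj F :=
  ⟨Sigma.ι (fun i => (F i).total) i, ((exists_mod F).choose_spec i).ge⟩

noncomputable def cofan : Cofan F := Cofan.mk (obj F) (ι F)

noncomputable def isColimit : IsColimit (cofan F) :=
  mkCofanColimit _
    (fun s => ⟨Sigma.desc fun i => (s.inj i).hom, by
      refine le_of_comap_le (Sigma.ι (fun i => (F i).total)) (cover F) fun i => ?_
      refine le_trans ((exists_mod F).choose_spec i).le ?_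
      refine le_trans (s.inj i).cond (le_of_eq ?_)
      exact (congrArg (fun f => s.pt.mod.comap f) (Sigma.ι_desc (fun i => (s.inj i).hom) i)).symm.trans
        (Scheme.IdealSheafData.comap_comp _ _ _)⟩)
    (fun s i => Pair.Hom.ext (Sigma.ι_desc _ _))
    (fun s m h => Pair.Hom.ext (Sigma.hom_ext _ _ fun i =>
      (congrArg Pair.Hom.hom (h i)).trans (Sigma.ι_desc (fun i => (s.inj i).hom) i).symm))

theorem hasCoproduct : HasCoproduct F := HasColimit.mk ⟨cofan F, isColimit F⟩

theorem preserves : PreservesColimit (Discrete.functor F) Pair.forget.{u} :=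
  preservesColimit_of_preserves_colimit_cocone (isColimit F)
    ((Cofan.isColimitMapCoconeEquiv Pair.forget.{u} F _).symm (coproductIsCoproduct _))

end PairCoprod

end Groth.Agent.MP99
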