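import Mathlib.CategoryTheory.Localization.CalculusOfFractions
import Groth.Agent.MP99.Image

set_option autoImplicit false

universe u

open CategoryTheory CategoryTheory.Limits AlgebraicGeometry TopologicalSpace

namespace Groth.Agent.MP99

open ModPair

variable {P Q R : Pair.{u}}

theorem interior_le_preimage (f : P ⟶ Q) : interior P.mod ≤ f.hom ⁻¹ᵁ interior Q.mod := by
  rw [← interior_comap]; exact interior_mono f.cond

theorem interior_eq_preimage {f : P ⟶ Q} (h : Pair.admBlowup f) :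
    interior P.mod = f.hom ⁻¹ᵁ interior Q.mod := by
  rw [← interior_comap, ← (h.1 : P.mod = Q.mod.comap f.hom)]

theorem admBlowup_id (P : Pair.{u}) : Pair.admBlowup (𝟙 P) :=
  ⟨(Scheme.IdealSheafData.comap_id P.mod).symm, show IsProper (𝟙 P.total) from inferInstance,
    show IsIso ((𝟙 P.total) ∣_ interior P.mod) by rw [morphismRestrict_id]; exact IsIso.id _⟩

theorem admBlowup_comp (f : P ⟶ Q) (g : Q ⟶ R) (hf : Pair.admBlowup f) (hg : Pair.admBlowup g) :
    Pair.admBlowup (f ≫ g) := by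
  obtain ⟨hf1, hf2, hf3⟩ := hf
  obtain ⟨hg1, hg2, hg3⟩ := hg
  refine ⟨?_, show IsProper (f.hom ≫ g.hom) from inferInstance, ?_⟩
  · show P.mod = R.mod.comap (f.hom ≫ g.hom)
    rw [Scheme.IdealSheafData.comap_comp, ← (hg1 : Q.mod = R.mod.comap g.hom)]
    exact hf1
  · show IsIso ((f.hom ≫ g.hom) ∣_ interior R.mod)
    rw [morphismRestrict_comp]
    have e : interior Q.mod = g.hom ⁻¹ᵁ interior R.mod := by
      rw [← interior_comap, ← (hg1 : Q.mod = R.mod.comap g.hom)]
    rw [e] at hf3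
    exact @IsIso.comp_isIso _ _ _ _ _ _ _ hf3 hg3

theorem hom_eq_of_comp_eq (f₁ f₂ : P ⟶ Q) (s : Q ⟶ R) (hs : Pair.admBlowup s)
    (h : f₁ ≫ s = f₂ ≫ s) : f₁ = f₂ := by
  refine Pair.Hom.ext ?_
  haveI := dominant_of_isEffCartier P.isEffCartier
  haveI : IsProper s.hom := hs.2.1
  haveI : IsIso (s.hom ∣_ interior R.mod) := hs.2.2
  have hh : f₁.hom ≫ s.hom = f₂.hom ≫ s.hom := congrArg Pair.Hom.hom h
  refine ext_of_dominant s.hom hh (interior P.mod).ι ?_
  have lands : ∀ f : P ⟶ Q, Set.range ((interior P.mod).ι ≫ f.hom) ⊆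
      Set.range (s.hom ⁻¹ᵁ interior R.mod).ι := by
    intro f
    rw [Scheme.Opens.range_ι, ← interior_eq_preimage hs]
    rintro _ ⟨x, rfl⟩
    exact interior_le_preimage f x.2
  rw [← IsOpenImmersion.lift_fac _ _ (lands f₁), ← IsOpenImmersion.lift_fac _ _ (lands f₂)]
  congr 1
  rw [← cancel_mono (s.hom ∣_ interior R.mod), ← cancel_mono (interior R.mod).ι]
  simp only [Category.assoc, morphismRestrict_ι, IsOpenImmersion.lift_fac_assoc, hh]

theorem exists_completion (f : P ⟶ R) (s : Q ⟶ R) (hs : Pair.admBlowup s) :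
    ∃ (W : Pair.{u}) (t : W ⟶ P) (g : W ⟶ Q), Pair.admBlowup t ∧ t ≫ f = g ≫ s := by
  haveI : IsProper s.hom := hs.2.1
  let p₁ := pullback.fst f.hom s.hom
  let U := p₁ ⁻¹ᵁ interior P.mod
  haveI : QuasiCompact U.ι := by
    rw [show U = ModPair.interior (P.mod.comap p₁) from (interior_comap _ _).symm]
    haveI := isAffineHom_interior (isLocPrincipal_comap (isLocPrincipal_of_isEffCartier P.isEffCartier) p₁)
    infer_instance
  let c := U.ι.imageι
  haveI := dominant_preimage_imageι U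
  have hcart : BlowUp.IsEffCartierIdeal (P.mod.comap (c ≫ p₁)) :=
    isEffCartier_comap (isLocPrincipal_of_isEffCartier P.isEffCartier) _ (W := c ⁻¹ᵁ U) le_rfl
  let W : Pair.{u} := ⟨U.ι.image, P.mod.comap (c ≫ p₁), hcart⟩
  have hcond : W.mod ≤ Q.mod.comap (c ≫ pullback.snd f.hom s.hom) := by
    rw [(hs.1 : Q.mod = R.mod.comap s.hom), ← Scheme.IdealSheafData.comap_comp, Category.assoc,
      ← pullback.condition, ← Category.assoc, Scheme.IdealSheafData.comap_comp]
    exact Scheme.IdealSheafData.comap_mono _ f.cond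
  refine ⟨W, ⟨c ≫ p₁, le_refl _⟩, ⟨c ≫ pullback.snd f.hom s.hom, hcond⟩, ⟨rfl, ?_, ?_⟩, ?_⟩
  · show IsProper (c ≫ p₁)
    infer_instance
  · show IsIso ((c ≫ p₁) ∣_ interior P.mod)
    rw [morphismRestrict_comp]
    haveI : IsIso (c ∣_ U) := isIso_imageι_restrict U
    haveI : IsIso (s.hom ∣_ interior R.mod) := hs.2.2
    suffices h : IsIso (p₁ ∣_ interior P.mod) from @IsIso.comp_isIso _ _ _ _ _ _ _ (by assumption) h
    let j : (interior P.mod).toScheme ⟶ (interior R.mod).toScheme :=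
      f.hom.resLE _ _ (interior_le_preimage f)
    have hA : IsPullback (p₁ ∣_ interior P.mod) (U.ι ≫ pullback.snd f.hom s.hom)
        (j ≫ (interior R.mod).ι) s.hom := by
      rw [show j ≫ (interior R.mod).ι = (interior P.mod).ι ≫ f.hom from f.hom.resLE_comp_ι _]
      exact (isPullback_morphismRestrict p₁ (interior P.mod)).paste_vert (IsPullback.of_hasPullback f.hom s.hom)
    have hB := isPullback_morphismRestrict s.hom (interior R.mod)
    obtain ⟨l, hl⟩ : ∃ l, IsPullback (p₁ ∣_ interior P.mod) l j (s.hom ∣_ interior R.mod) :=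
      ⟨_, IsPullback.of_bot' hA hB⟩
    exact MorphismProperty.of_isPullback (P := MorphismProperty.isomorphisms Scheme.{u}) hl.flip
      (show IsIso (s.hom ∣_ interior R.mod) from inferInstance)
  · refine Pair.Hom.ext ?_
    show (c ≫ p₁) ≫ f.hom = (c ≫ pullback.snd f.hom s.hom) ≫ s.hom
    simp [p₁, pullback.condition]

theorem hasRightCalculusOfFractions :
    (Pair.admBlowup.{u}).HasRightCalculusOfFractions where
  id_mem := admBlowup_id
  comp_mem := admBlowup_comp
  exists_rightFraction _ _ φ := by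
    obtain ⟨W, t, g, ht, e⟩ := exists_completion φ.f φ.s φ.hs
    exact ⟨⟨t, ht, g⟩, e⟩
  ext X Y Y' f₁ f₂ s hs h :=
    ⟨X, 𝟙 X, admBlowup_id X, by rw [hom_eq_of_comp_eq f₁ f₂ s hs h]⟩

end Groth.Agent.MP99
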