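import Mathlib.CategoryTheory.Localization.CalculusOfFractions
import Mathlib.CategoryTheory.Limits.Shapes.Pullback.IsPullback.Basic
import Mathlib.CategoryTheory.Limits.Constructions.LimitsOfProductsAndEqualizers

/-!
Finite limits in a localization with a right calculus of fractions.
-/

set_option autoImplicit false

open CategoryTheory CategoryTheory.Limits

namespace Groth.Agent.MP99

universe v₁ v₂ u₁ u₂

variable {C : Type u₁} [Category.{v₁} C] {D : Type u₂} [Category.{v₂} D] (L : C ⥤ D)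
  (W : MorphismProperty C) [L.IsLocalization W] [W.HasRightCalculusOfFractions]

omit [L.IsLocalization W] in
theorem exists_common_denom {Z Z₁ Z₂ : C} (s : Z₁ ⟶ Z) (s' : Z₂ ⟶ Z) (hs' : W s') :
    ∃ (Z₃ : C) (u : Z₃ ⟶ Z₁) (v : Z₃ ⟶ Z₂), W u ∧ u ≫ s = v ≫ s' := by
  obtain ⟨ψ, hψ⟩ := MorphismProperty.HasRightCalculusOfFractions.exists_rightFraction
    (MorphismProperty.LeftFraction.mk (W := W) s s' hs')
  exact ⟨_, ψ.s, ψ.f, ψ.hs, hψ⟩

include W in
theorem exists_honest {Z X : C} (α : L.obj Z ⟶ L.obj X) :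
    ∃ (Z' : C) (s : Z' ⟶ Z) (a : Z' ⟶ X), W s ∧ L.map s ≫ α = L.map a := by
  obtain ⟨φ, rfl⟩ := Localization.exists_rightFraction L W α
  exact ⟨_, φ.s, φ.f, φ.hs, φ.map_s_comp_map L _⟩

include W in
theorem exists_honest_pair {Z X T : C} (α : L.obj Z ⟶ L.obj X) (β : L.obj Z ⟶ L.obj T) :
    ∃ (Z' : C) (s : Z' ⟶ Z) (a : Z' ⟶ X) (b : Z' ⟶ T), W s ∧
      L.map s ≫ α = L.map a ∧ L.map s ≫ β = L.map b := by
  obtain ⟨Z₁, s, a, hs, ha⟩ := exists_honest L W α
  obtain ⟨Z₂, s', b, hs', hb⟩ := exists_honest L W β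
  obtain ⟨Z₃, u, v, hu, huv⟩ := exists_common_denom W s s' hs'
  refine ⟨Z₃, u ≫ s, u ≫ a, v ≫ b, W.comp_mem _ _ hu hs, ?_, ?_⟩
  · rw [L.map_comp, L.map_comp, Category.assoc, ha]
  · rw [huv, L.map_comp, L.map_comp, Category.assoc, hb]

variable {X T P Y : C} {p : Y ⟶ X} {q : Y ⟶ T} {f : X ⟶ P} {g : T ⟶ P}

include W in
theorem isPullback_map (w : p ≫ f = q ≫ g)
    (hex : ∀ ⦃Z : C⦄ (a : Z ⟶ X) (b : Z ⟶ T), a ≫ f = b ≫ g →
      ∃ (Z' : C) (s : Z' ⟶ Z) (h : Z' ⟶ Y), W s ∧ h ≫ p = s ≫ a ∧ h ≫ q = s ≫ b)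
    (huniq : ∀ ⦃Z : C⦄ (h h' : Z ⟶ Y), h ≫ p = h' ≫ p → h ≫ q = h' ≫ q → h = h') :
    IsPullback (L.map p) (L.map q) (L.map f) (L.map g) := by
  haveI : L.EssSurj := Localization.essSurj L W
  have hi : ∀ {Z Z' : C} {s : Z' ⟶ Z}, W s → IsIso (L.map s) := fun hs => Localization.inverts L W _ hs
  have uniq : ∀ (Z : C) (β β' : L.obj Z ⟶ L.obj Y), β ≫ L.map p = β' ≫ L.map p →
      β ≫ L.map q = β' ≫ L.map q → β = β' := by
    intro Z β β' hp hq
    obtain ⟨Z₁, s, h, h', hs, hh, hh'⟩ := exists_honest_pair L W β β'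
    haveI := hi hs
    have e1 : L.map (h ≫ p) = L.map (h' ≫ p) := by
      rw [L.map_comp, L.map_comp, ← hh, ← hh', Category.assoc, Category.assoc, hp]
    have e2 : L.map (h ≫ q) = L.map (h' ≫ q) := by
      rw [L.map_comp, L.map_comp, ← hh, ← hh', Category.assoc, Category.assoc, hq]
    obtain ⟨Z₂, r, hr, er⟩ := (MorphismProperty.map_eq_iff_precomp L W _ _).mp e1
    have e3 : L.map (r ≫ h ≫ q) = L.map (r ≫ h' ≫ q) := by rw [L.map_comp, L.map_comp r, e2]
    obtain ⟨Z₃, r', hr', er'⟩ := (MorphismProperty.map_eq_iff_precomp L W _ _).mp e3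
    haveI := hi hr
    haveI := hi hr'
    have := huniq (r' ≫ r ≫ h) (r' ≫ r ≫ h') (by simp only [Category.assoc, er])
      (by simpa only [Category.assoc] using er')
    rw [← cancel_epi (L.map s), hh, hh', ← cancel_epi (L.map r), ← cancel_epi (L.map r'),
      ← L.map_comp, ← L.map_comp, this, L.map_comp, L.map_comp]
  have ex : ∀ (Z : C) (α : L.obj Z ⟶ L.obj X) (β : L.obj Z ⟶ L.obj T), α ≫ L.map f = β ≫ L.map g →
      ∃ γ : L.obj Z ⟶ L.obj Y, γ ≫ L.map p = α ∧ γ ≫ L.map q = β := by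
    intro Z α β h
    obtain ⟨Z₁, s, a, b, hs, ha, hb⟩ := exists_honest_pair L W α β
    haveI := hi hs
    have e : L.map (a ≫ f) = L.map (b ≫ g) := by
      rw [L.map_comp, L.map_comp, ← ha, ← hb, Category.assoc, Category.assoc, h]
    obtain ⟨Z₂, r, hr, er⟩ := (MorphismProperty.map_eq_iff_precomp L W _ _).mp e
    obtain ⟨Z₃, t, k, ht, hkp, hkq⟩ := hex (r ≫ a) (r ≫ b) (by rw [Category.assoc, Category.assoc, er])
    haveI := hi hr
    haveI := hi ht
    refine ⟨inv (L.map s) ≫ inv (L.map r) ≫ inv (L.map t) ≫ L.map k, ?_, ?_⟩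
    · rw [Category.assoc, Category.assoc, Category.assoc, ← L.map_comp k, hkp, L.map_comp, L.map_comp,
        IsIso.inv_hom_id_assoc, IsIso.inv_hom_id_assoc, ← ha, IsIso.inv_hom_id_assoc]
    · rw [Category.assoc, Category.assoc, Category.assoc, ← L.map_comp k, hkq, L.map_comp, L.map_comp,
        IsIso.inv_hom_id_assoc, IsIso.inv_hom_id_assoc, ← hb, IsIso.inv_hom_id_assoc]
  have exD : ∀ (c : PullbackCone (L.map f) (L.map g)),
      ∃ γ : c.pt ⟶ L.obj Y, γ ≫ L.map p = c.fst ∧ γ ≫ L.map q = c.snd := by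
    intro c
    let e := L.objObjPreimageIso c.pt
    obtain ⟨γ, h1, h2⟩ := ex _ (e.hom ≫ c.fst) (e.hom ≫ c.snd)
      (by rw [Category.assoc, Category.assoc, c.condition])
    exact ⟨e.inv ≫ γ, by rw [Category.assoc, h1, e.inv_hom_id_assoc],
      by rw [Category.assoc, h2, e.inv_hom_id_assoc]⟩
  choose γ hγp hγq using exD
  refine IsPullback.of_isLimit' ⟨by rw [← L.map_comp, ← L.map_comp, w]⟩
    (PullbackCone.IsLimit.mk _ γ hγp hγq fun c m hmp hmq => ?_)
  let e := L.objObjPreimageIso c.pt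
  rw [← cancel_epi e.hom]
  refine uniq _ _ _ ?_ ?_
  · rw [Category.assoc, Category.assoc, hmp, hγp]
  · rw [Category.assoc, Category.assoc, hmq, hγq]

include L W in
/-- A terminal object remains terminal in the localization. -/
theorem hasTerminal_of_isTerminal {Z : C} (hZ : IsTerminal Z) : HasTerminal D := by
  haveI : L.EssSurj := Localization.essSurj L W
  have key : ∀ A : C, ∀ α : L.obj A ⟶ L.obj Z, α = L.map (hZ.from A) := by
    intro A α
    obtain ⟨A', s, a, hs, ha⟩ := exists_honest L W α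
    haveI : IsIso (L.map s) := Localization.inverts L W _ hs
    rw [← cancel_epi (L.map s), ha, ← L.map_comp, hZ.hom_ext a (s ≫ hZ.from A)]
  haveI : ∀ X : D, Unique (X ⟶ L.obj Z) := fun X =>
    { default := (L.objObjPreimageIso X).inv ≫ L.map (hZ.from _)
      uniq := fun α => by
        rw [← cancel_epi (L.objObjPreimageIso X).hom, key _ (_ ≫ α), Iso.hom_inv_id_assoc] }
  exact hasTerminal_of_unique (L.obj Z)

include W in
theorem hasPullbacks_of_map
    (h : ∀ ⦃X T P : C⦄ (f : X ⟶ P) (g : T ⟶ P), HasPullback (L.map f) (L.map g)) : HasPullbacks D := by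
  haveI : L.EssSurj := Localization.essSurj L W
  haveI : ∀ {A B Q : D} {α : A ⟶ Q} {β : B ⟶ Q}, HasPullback α β := by
    intro A B Q α β
    let eA := L.objObjPreimageIso A
    let eB := L.objObjPreimageIso B
    let eQ := L.objObjPreimageIso Q
    obtain ⟨A', s, a, hs, ha⟩ := exists_honest L W (eA.hom ≫ α ≫ eQ.inv)
    obtain ⟨B', t, b, ht, hb⟩ := exists_honest L W (eB.hom ≫ β ≫ eQ.inv)
    haveI := h a b
    haveI : IsIso (L.map s) := Localization.inverts L W _ hs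
    haveI : IsIso (L.map t) := Localization.inverts L W _ ht
    exact ((IsPullback.of_hasPullback (L.map a) (L.map b)).of_iso (f' := α) (g' := β)
      (fst' := pullback.fst (L.map a) (L.map b) ≫ L.map s ≫ eA.hom)
      (snd' := pullback.snd (L.map a) (L.map b) ≫ L.map t ≫ eB.hom) (Iso.refl _)
      (asIso (L.map s) ≪≫ eA) (asIso (L.map t) ≪≫ eB) eQ (by simp) (by simp)
      (by simp [← ha]) (by simp [← hb])).hasPullback
  exact hasPullbacks_of_hasLimit_cospan D

end Groth.Agent.MP99
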