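import Groth.Agent.MP99.AmbProd
import Groth.Agent.MP99.Frac
import Groth.Agent.MP99.LocPullback

/-!
Ambient products give pullbacks after inverting admissible blow-ups.
-/

set_option autoImplicit false

universe u

open CategoryTheory CategoryTheory.Limits AlgebraicGeometry TopologicalSpace ModPair

namespace Groth.Agent.MP99

variable {X S T Y : Scheme.{u}}

theorem isIso_restrict_of_le (π : Y ⟶ X) {U V : X.Opens} (h : V ≤ U) [IsIso (π ∣_ U)] :
    IsIso (π ∣_ V) := by
  have h1 : IsIso ((π ∣_ U) ∣_ (U.ι ⁻¹ᵁ V)) := inferInstance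
  have h2 := (MorphismProperty.arrow_mk_iso_iff (MorphismProperty.isomorphisms Scheme.{u})
    (morphismRestrictRestrict π U (U.ι ⁻¹ᵁ V))).mp h1
  have e : U.ι ''ᵁ (U.ι ⁻¹ᵁ V) = V := by
    rw [Scheme.Hom.image_preimage_eq_opensRange_inf, Scheme.Opens.opensRange_ι]
    exact inf_eq_right.mpr h
  rw [e] at h2
  exact h2

theorem le_cofactor {E K A B M : X.IdealSheafData} (hE : BlowUp.IsEffCartierIdeal E)
    (h : K * E = A * B) (hE' : E = A ⊔ B) (hA : M ≤ A) (hB : M ≤ B) : M ≤ K := by
  refine le_of_mul_le_mul hE (h ▸ ?_)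
  intro U
  simp only [hE', Scheme.IdealSheafData.ideal_mul, Scheme.IdealSheafData.ideal_sup, Pi.mul_apply,
    Pi.sup_apply, Submodule.mul_sup]
  refine sup_le ?_ (Ideal.mul_mono_left (hA U))
  rw [mul_comm (A.ideal U) (B.ideal U)]
  exact Ideal.mul_mono_left (hB U)

theorem isPullback_ambProd (P T X : Pair.{u}) (f : X ⟶ P) (g : T ⟶ P)
    {Y : Scheme.{u}} (π : Y ⟶ mprod f.hom g.hom X.mod T.mod) (K : Y.IdealSheafData)
    (hY : IsAmbProd f.hom g.hom X.mod T.mod π K) (hK : BlowUp.IsEffCartierIdeal K)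
    (hX : IsAmbient K X.mod (π ≫ mprodι f.hom g.hom X.mod T.mod ≫ pullback.fst f.hom g.hom))
    (hT : IsAmbient K T.mod (π ≫ mprodι f.hom g.hom X.mod T.mod ≫ pullback.snd f.hom g.hom)) :
    IsPullback
      ((Pair.admBlowup.{u}).Q.map
        (Pair.Hom.mk (P := Pair.mk Y K hK) (Q := T)
          (π ≫ mprodι f.hom g.hom X.mod T.mod ≫ pullback.snd f.hom g.hom) hT))
      ((Pair.admBlowup.{u}).Q.map
        (Pair.Hom.mk (P := Pair.mk Y K hK) (Q := X)
          (π ≫ mprodι f.hom g.hom X.mod T.mod ≫ pullback.fst f.hom g.hom) hX))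
      ((Pair.admBlowup.{u}).Q.map g) ((Pair.admBlowup.{u}).Q.map f) := by
  haveI := hasRightCalculusOfFractions.{u}
  refine isPullback_map _ Pair.admBlowup.{u} ?_ ?_ ?_
  · refine Pair.Hom.ext ?_
    show (π ≫ _ ≫ _) ≫ g.hom = (π ≫ _ ≫ _) ≫ f.hom
    simp only [Category.assoc, pullback.condition]
  · intro Z b a hab
    have hab' : a.hom ≫ f.hom = b.hom ≫ g.hom := (congrArg Pair.Hom.hom hab).symm
    let l : Z.total ⟶ pullback f.hom g.hom := pullback.lift a.hom b.hom hab'
    haveI := dominant_of_isEffCartier Z.isEffCartier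
    haveI := isAffineHom_interior (isLocPrincipal_of_isEffCartier Z.isEffCartier)
    haveI := quasiCompact_prodInterior f.hom g.hom X.isEffCartier T.isEffCartier
    have hia := interior_le_preimage a
    have hib := interior_le_preimage b
    obtain ⟨c, hc⟩ := exists_lift_image (prodInterior f.hom g.hom X.mod T.mod) l (interior Z.mod) (by
      intro z hz
      refine ⟨?_, ?_⟩
      · show (l ≫ pullback.fst f.hom g.hom) z ∈ interior X.mod
        rw [pullback.lift_fst]; exact hia hz
      · show (l ≫ pullback.snd f.hom g.hom) z ∈ interior T.mod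
        rw [pullback.lift_snd]; exact hib hz)
    have hca : c ≫ mprodι f.hom g.hom X.mod T.mod ≫ pullback.fst f.hom g.hom = a.hom := by
      rw [← Category.assoc]; exact (congrArg (· ≫ _) hc).trans (pullback.lift_fst _ _ _)
    have hcb : c ≫ mprodι f.hom g.hom X.mod T.mod ≫ pullback.snd f.hom g.hom = b.hom := by
      rw [← Category.assoc]; exact (congrArg (· ≫ _) hc).trans (pullback.lift_snd _ _ _)
    have hA : BlowUp.IsEffCartierIdeal (X.mod.comap a.hom) :=
      isEffCartier_comap (isLocPrincipal_of_isEffCartier X.isEffCartier) a.hom hia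
    have hB : BlowUp.IsEffCartierIdeal (T.mod.comap b.hom) :=
      isEffCartier_comap (isLocPrincipal_of_isEffCartier T.isEffCartier) b.hom hib
    obtain ⟨W, σ, _, _, _, _, _, _, _, _, _, hσ⟩ := exists_isBlowUp_two
      (isLocPrincipal_of_isEffCartier hA) (isLocPrincipal_of_isEffCartier hB)
    haveI := isProper_of_isBlowUp_two (isLocPrincipal_of_isEffCartier hA)
      (isLocPrincipal_of_isEffCartier hB) hσ
    have hint : interior Z.mod ≤ interior (X.mod.comap a.hom ⊔ T.mod.comap b.hom) :=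
      interior_mono (le_trans a.cond le_sup_left)
    haveI := dominant_preimage_of_isBlowUp σ _ hσ hint
    have hW : BlowUp.IsEffCartierIdeal (Z.mod.comap σ) :=
      isEffCartier_comap (isLocPrincipal_of_isEffCartier Z.isEffCartier) σ (W := σ ⁻¹ᵁ interior Z.mod) le_rfl
    haveI := isIso_restrict_of_isBlowUp σ _ hσ
    haveI := isIso_restrict_of_le σ hint
    have hC : (prodCentre f.hom g.hom X.mod T.mod).comap (σ ≫ c) =
        (X.mod.comap a.hom ⊔ T.mod.comap b.hom).comap σ := by
      rw [Scheme.IdealSheafData.comap_comp, prodCentre, Scheme.IdealSheafData.comap_sup,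
        ← Scheme.IdealSheafData.comap_comp, ← Scheme.IdealSheafData.comap_comp, hca, hcb]
    obtain ⟨k, hk, -⟩ := hY.1.2 _ (σ ≫ c) (hC ▸ hσ.1)
    have hcond : Z.mod.comap σ ≤ K.comap k := by
      have e := congrArg (fun I : Y.IdealSheafData => I.comap k) hY.2
      simp only [comap_mul, ← Scheme.IdealSheafData.comap_comp] at e
      have ea : k ≫ π ≫ mprodι f.hom g.hom X.mod T.mod ≫ pullback.fst f.hom g.hom = σ ≫ a.hom := by
        rw [reassoc_of% hk, hca]
      have eb : k ≫ π ≫ mprodι f.hom g.hom X.mod T.mod ≫ pullback.snd f.hom g.hom = σ ≫ b.hom := by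
        rw [reassoc_of% hk, hcb]
      rw [ea, eb, hk, hC, Scheme.IdealSheafData.comap_comp X.mod,
        Scheme.IdealSheafData.comap_comp T.mod] at e
      exact le_cofactor hσ.1 e (Scheme.IdealSheafData.comap_sup _ _ _)
        (Scheme.IdealSheafData.comap_mono σ a.cond) (Scheme.IdealSheafData.comap_mono σ b.cond)
    refine ⟨Pair.mk W (Z.mod.comap σ) hW, Pair.Hom.mk σ le_rfl, Pair.Hom.mk k hcond,
      ⟨rfl, ‹_›, ‹_›⟩, Pair.Hom.ext ?_, Pair.Hom.ext ?_⟩
    · show k ≫ _ = σ ≫ b.hom
      rw [reassoc_of% hk, hcb]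
    · show k ≫ _ = σ ≫ a.hom
      rw [reassoc_of% hk, hca]
  · intro Z h h' hq hp
    have hp' : h.hom ≫ π ≫ mprodι f.hom g.hom X.mod T.mod ≫ pullback.fst f.hom g.hom =
        h'.hom ≫ π ≫ mprodι f.hom g.hom X.mod T.mod ≫ pullback.fst f.hom g.hom := congrArg Pair.Hom.hom hp
    have hq' : h.hom ≫ π ≫ mprodι f.hom g.hom X.mod T.mod ≫ pullback.snd f.hom g.hom =
        h'.hom ≫ π ≫ mprodι f.hom g.hom X.mod T.mod ≫ pullback.snd f.hom g.hom := congrArg Pair.Hom.hom hq
    have e : h.hom ≫ π = h'.hom ≫ π := by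
      rw [← cancel_mono (mprodι f.hom g.hom X.mod T.mod)]
      apply pullback.hom_ext <;> simpa [Category.assoc]
    haveI := dominant_of_isEffCartier Z.isEffCartier
    have hle : interior Z.mod ≤ h.hom ⁻¹ᵁ interior ((prodCentre f.hom g.hom X.mod T.mod).comap π) := by
      refine (interior_le_preimage h).trans fun z hz => ?_
      have h1 := interior_le_preimage (Pair.Hom.mk (P := Pair.mk Y K hK) (Q := X) _ hX) hz
      have h2 := interior_le_preimage (Pair.Hom.mk (P := Pair.mk Y K hK) (Q := T) _ hT) hz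
      have h3 : h.hom z ∈ interior (K * (prodCentre f.hom g.hom X.mod T.mod).comap π) := by
        rw [hY.2, interior_mul, ← Scheme.IdealSheafData.comap_comp, ← Scheme.IdealSheafData.comap_comp,
          interior_comap, interior_comap]
        exact ⟨h1, h2⟩
      rw [interior_mul] at h3
      exact h3.2
    have heff : BlowUp.IsEffCartierIdeal ((prodCentre f.hom g.hom X.mod T.mod).comap (h.hom ≫ π)) := by
      rw [Scheme.IdealSheafData.comap_comp]
      exact isEffCartier_comap (isLocPrincipal_of_isEffCartier hY.1.1) h.hom hle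
    exact Pair.Hom.ext ((hY.1.2 _ _ heff).unique rfl e.symm)

theorem isAmbient_of_isAmbProd {X T : Pair.{u}} {S : Scheme.{u}} {f : X.total ⟶ S} {g : T.total ⟶ S}
    {Y : Scheme.{u}} {π : Y ⟶ mprod f g X.mod T.mod} {K : Y.IdealSheafData}
    (hY : IsAmbProd f g X.mod T.mod π K) :
    IsAmbient K X.mod (π ≫ mprodι f g X.mod T.mod ≫ pullback.fst f g) ∧
      IsAmbient K T.mod (π ≫ mprodι f g X.mod T.mod ≫ pullback.snd f g) := by
  have key : ∀ {E K A B : Y.IdealSheafData}, BlowUp.IsEffCartierIdeal E → K * E = A * B → B ≤ E → K ≤ A := by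
    intro E K A B hE h hB
    refine le_of_mul_le_mul hE (h.le.trans fun U => ?_)
    rw [Scheme.IdealSheafData.ideal_mul, Pi.mul_apply, Scheme.IdealSheafData.ideal_mul, Pi.mul_apply]
    exact Ideal.mul_mono_right (hB U)
  have hA := Scheme.IdealSheafData.comap_mono π (le_prodCentre_fst f g X.mod T.mod)
  have hB := Scheme.IdealSheafData.comap_mono π (le_prodCentre_snd f g X.mod T.mod)
  refine ⟨?_, ?_⟩
  · show K ≤ _
    rw [Scheme.IdealSheafData.comap_comp]
    exact key hY.1.1 hY.2 hB
  · show K ≤ _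
    rw [Scheme.IdealSheafData.comap_comp]
    exact key hY.1.1 (hY.2.trans (mul_comm _ _)) hA

/-- The terminal modulus pair. -/
noncomputable def topPair : Pair.{u} := ⟨Spec (CommRingCat.of (ULift.{u} ℤ)), ⊤, isEffCartier_top⟩

theorem hasFiniteLimits_localization :
    HasFiniteLimits (Pair.admBlowup.{u}).Localization := by
  haveI := hasRightCalculusOfFractions.{u}
  haveI : ∀ P : Pair.{u}, Unique (P ⟶ topPair) := fun P =>
    { default := Pair.Hom.mk (specULiftZIsTerminal.from P.total) (show _ ≤ _ by simp [topPair])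
      uniq := fun h => Pair.Hom.ext (specULiftZIsTerminal.hom_ext h.hom _) }
  haveI := hasTerminal_of_isTerminal (Pair.admBlowup.{u}).Q Pair.admBlowup.{u} (IsTerminal.ofUnique topPair)
  haveI := hasPullbacks_of_map (Pair.admBlowup.{u}).Q Pair.admBlowup.{u} fun X T P f g => by
    obtain ⟨Y, π, K, hY, hK⟩ := exists_ambProd X.isEffCartier T.isEffCartier f.hom g.hom
    obtain ⟨h1, h2⟩ := isAmbient_of_isAmbProd hY
    exact (isPullback_ambProd P T X f g π K hY hK h1 h2).flip.hasPullback
  exact hasFiniteLimits_of_hasTerminal_and_pullbacks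

end Groth.Agent.MP99
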