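import Groth.Agent.MP99.BlowUpDense

set_option autoImplicit false

universe u

open CategoryTheory CategoryTheory.Limits AlgebraicGeometry TopologicalSpace

namespace Groth.Agent.MP99

open ModPair

variable {X T S W Z : Scheme.{u}}

theorem exists_lift_image (U : Z.Opens) [QuasiCompact U.ι] (l : W ⟶ Z) (V : W.Opens)
    [IsSchemeTheoreticallyDominant V.ι] (hV : V ≤ l ⁻¹ᵁ U) :
    ∃ c : W ⟶ U.ι.image, c ≫ U.ι.imageι = l := by
  have h1 : (V.ι ≫ l).ker = l.ker := by
    rw [Scheme.Hom.ker_comp, V.ι.ker_eq_bot, Scheme.IdealSheafData.map_bot]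
  have h2 : l.resLE U V hV ≫ U.ι = V.ι ≫ l := l.resLE_comp_ι _
  have h3 : U.ι.imageι.ker ≤ l.ker := by
    rw [← h1, ← h2]
    simpa using Scheme.Hom.le_ker_comp (l.resLE U V hV) U.ι
  exact ⟨IsClosedImmersion.lift U.ι.imageι l h3, IsClosedImmersion.lift_fac _ _ _⟩

theorem isEffCartier_comap_mprod_fst {I : X.IdealSheafData} {J : T.IdealSheafData}
    (hI : BlowUp.IsEffCartierIdeal I) (hJ : BlowUp.IsEffCartierIdeal J) (f : X ⟶ S) (g : T ⟶ S) :
    BlowUp.IsEffCartierIdeal (I.comap (mprodι f g I J ≫ pullback.fst f g)) := by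
  haveI := quasiCompact_prodInterior f g hI hJ
  haveI := dominant_preimage_imageι (prodInterior f g I J)
  exact isEffCartier_comap (isLocPrincipal_of_isEffCartier hI) _
    (W := mprodι f g I J ⁻¹ᵁ prodInterior f g I J) fun _ hx => hx.1

theorem isEffCartier_comap_mprod_snd {I : X.IdealSheafData} {J : T.IdealSheafData}
    (hI : BlowUp.IsEffCartierIdeal I) (hJ : BlowUp.IsEffCartierIdeal J) (f : X ⟶ S) (g : T ⟶ S) :
    BlowUp.IsEffCartierIdeal (J.comap (mprodι f g I J ≫ pullback.snd f g)) := by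
  haveI := quasiCompact_prodInterior f g hI hJ
  haveI := dominant_preimage_imageι (prodInterior f g I J)
  exact isEffCartier_comap (isLocPrincipal_of_isEffCartier hJ) _
    (W := mprodι f g I J ⁻¹ᵁ prodInterior f g I J) fun _ hx => hx.2

theorem isIso_restrict_of_isPullback {X' S' : Scheme.{u}} {p : X' ⟶ X} {q : X' ⟶ S'}
    {f : X ⟶ S} {s : S' ⟶ S} (h : IsPullback p q f s) {U : X.Opens} {V : S.Opens}
    (hUV : U ≤ f ⁻¹ᵁ V) [IsIso (s ∣_ V)] : IsIso (p ∣_ U) := by
  have hA : IsPullback (p ∣_ U) ((p ⁻¹ᵁ U).ι ≫ q) (f.resLE V U hUV ≫ V.ι) s := by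
    rw [f.resLE_comp_ι]
    exact (isPullback_morphismRestrict p U).paste_vert h
  exact MorphismProperty.of_isPullback (P := MorphismProperty.isomorphisms Scheme.{u})
    (IsPullback.of_bot' hA (isPullback_morphismRestrict s V)).flip
    (show IsIso (s ∣_ V) from inferInstance)

end Groth.Agent.MP99
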