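import Groth.Agent.MP99.Colon
import Groth.Agent.MP99.Image

set_option autoImplicit false

universe u

open CategoryTheory CategoryTheory.Limits AlgebraicGeometry TopologicalSpace

namespace Groth.Agent.MP99

open ModPair

variable {X T S Y : Scheme.{u}}

theorem prodInterior_eq (f : X ⟶ S) (g : T ⟶ S) (I : X.IdealSheafData) (J : T.IdealSheafData) :
    prodInterior f g I J = interior (I.comap (pullback.fst f g) * J.comap (pullback.snd f g)) := by
  rw [interior_mul, interior_comap, interior_comap]; rfl

theorem isIso_mprodι (f : X ⟶ S) (g : T ⟶ S) (I : X.IdealSheafData) (J : T.IdealSheafData)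
    [IsSchemeTheoreticallyDominant (prodInterior f g I J).ι] : IsIso (mprodι f g I J) :=
  IsClosedImmersion.isIso_iff_ker_eq_bot.mpr (by simp [mprodι, Scheme.Hom.ker_eq_bot])

theorem quasiCompact_prodInterior (f : X ⟶ S) (g : T ⟶ S) {I : X.IdealSheafData} {J : T.IdealSheafData}
    (hI : BlowUp.IsEffCartierIdeal I) (hJ : BlowUp.IsEffCartierIdeal J) :
    QuasiCompact (prodInterior f g I J).ι := by
  rw [prodInterior_eq]
  have : IsLocPrincipal (I.comap (pullback.fst f g) * J.comap (pullback.snd f g)) := fun x => by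
    obtain ⟨U, hU, a, ha⟩ := isLocPrincipal_comap (isLocPrincipal_of_isEffCartier hI) (pullback.fst f g) x
    obtain ⟨V, hV, hVU, b, hb⟩ :=
      exists_principal_le (isLocPrincipal_comap (isLocPrincipal_of_isEffCartier hJ) (pullback.snd f g)) x hU
    refine ⟨V, hV, ((pullback f g).presheaf.map (homOfLE hVU).op).hom a * b, ?_⟩
    rw [Scheme.IdealSheafData.ideal_mul, Pi.mul_apply, ideal_restrict _ hVU ha, hb,
      Ideal.span_singleton_mul_span_singleton]
    rfl
  haveI := isAffineHom_interior this
  infer_instance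

theorem le_prodCentre_fst (f : X ⟶ S) (g : T ⟶ S) (I : X.IdealSheafData) (J : T.IdealSheafData) :
    I.comap (mprodι f g I J ≫ pullback.fst f g) ≤ prodCentre f g I J := le_sup_left

theorem le_prodCentre_snd (f : X ⟶ S) (g : T ⟶ S) (I : X.IdealSheafData) (J : T.IdealSheafData) :
    J.comap (mprodι f g I J ≫ pullback.snd f g) ≤ prodCentre f g I J := le_sup_right

end Groth.Agent.MP99
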