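import Groth.Agent.MP99.BlowUpProper
import Groth.Agent.MP99.Factor
import Groth.Agent.MP99.BlowUpDense
import Groth.Agent.MP99.ProdLemmas
import Groth.Agent.MP99.Colon

set_option autoImplicit false

universe u

open CategoryTheory CategoryTheory.Limits AlgebraicGeometry TopologicalSpace ModPair

namespace Groth.Agent.MP99

variable {X T S Y : Scheme.{u}} {I : X.IdealSheafData} {J : T.IdealSheafData}

theorem isEffCartier_ambProd_mul (hI : BlowUp.IsEffCartierIdeal I) (hJ : BlowUp.IsEffCartierIdeal J)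
    (f : X ⟶ S) (g : T ⟶ S) (π : Y ⟶ mprod f g I J) (h : BlowUp.IsBlowUp π (prodCentre f g I J)) :
    BlowUp.IsEffCartierIdeal ((I.comap (mprodι f g I J ≫ pullback.fst f g)).comap π) ∧
    BlowUp.IsEffCartierIdeal ((J.comap (mprodι f g I J ≫ pullback.snd f g)).comap π) := by
  haveI := dominant_prod hI hJ f g π h
  constructor
  · refine isEffCartier_comap (isLocPrincipal_of_isEffCartier (isEffCartier_comap_mprod_fst hI hJ f g)) π
      (W := interior ((I.comap (mprodι f g I J ≫ pullback.fst f g)).comap π *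
        (J.comap (mprodι f g I J ≫ pullback.snd f g)).comap π)) ?_
    rw [interior_mul, interior_comap]; exact inf_le_left
  · refine isEffCartier_comap (isLocPrincipal_of_isEffCartier (isEffCartier_comap_mprod_snd hI hJ f g)) π
      (W := interior ((I.comap (mprodι f g I J ≫ pullback.fst f g)).comap π *
        (J.comap (mprodι f g I J ≫ pullback.snd f g)).comap π)) ?_
    rw [interior_mul, interior_comap _ π, interior_comap _ π]; exact inf_le_right

theorem exists_ambProd (hI : BlowUp.IsEffCartierIdeal I) (hJ : BlowUp.IsEffCartierIdeal J)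
    (f : X ⟶ S) (g : T ⟶ S) :
    ∃ (Y : Scheme.{u}) (π : Y ⟶ mprod f g I J) (K : Y.IdealSheafData),
      IsAmbProd f g I J π K ∧ BlowUp.IsEffCartierIdeal K := by
  obtain ⟨Y, π, _, _, _, _, _, _, _, _, _, h⟩ := exists_isBlowUp_two
    (isLocPrincipal_of_isEffCartier (isEffCartier_comap_mprod_fst hI hJ f g))
    (isLocPrincipal_of_isEffCartier (isEffCartier_comap_mprod_snd hI hJ f g))
  obtain ⟨hA, hB⟩ := isEffCartier_ambProd_mul hI hJ f g π h
  have hle : (I.comap (mprodι f g I J ≫ pullback.fst f g)).comap π *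
      (J.comap (mprodι f g I J ≫ pullback.snd f g)).comap π ≤ (prodCentre f g I J).comap π := by
    refine le_trans (fun U => ?_) (Scheme.IdealSheafData.comap_mono π (le_prodCentre_fst f g I J))
    rw [Scheme.IdealSheafData.ideal_mul, Pi.mul_apply]
    exact Ideal.mul_le_left
  obtain ⟨K, hK, e⟩ := exists_cofactor (isEffCartier_mul hA hB) h.1 hle
  exact ⟨Y, π, K, ⟨h, e.symm⟩, hK⟩

theorem isProper_of_isAmbProd (hI : BlowUp.IsEffCartierIdeal I) (hJ : BlowUp.IsEffCartierIdeal J)
    {f : X ⟶ S} {g : T ⟶ S} {π : Y ⟶ mprod f g I J} {K : Y.IdealSheafData}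
    (h : IsAmbProd f g I J π K) : IsProper π :=
  isProper_of_isBlowUp_two
    (isLocPrincipal_of_isEffCartier (isEffCartier_comap_mprod_fst hI hJ f g))
    (isLocPrincipal_of_isEffCartier (isEffCartier_comap_mprod_snd hI hJ f g)) h.1

end Groth.Agent.MP99
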