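import Groth.Agent.MP99.BlowUpTwo
import Mathlib.AlgebraicGeometry.ValuativeCriterion
import Mathlib.Topology.Constructible

/-!
A blowing up in the sum of two locally principal ideal sheaves is proper.
-/

set_option autoImplicit false

universe u

open CategoryTheory CategoryTheory.Limits AlgebraicGeometry TopologicalSpace IsLocalRing

namespace Groth.Agent.MP99

variable {M Y : Scheme.{u}}

theorem exists_lift_of_closedPoint {S : CommRingCat.{u}} [IsLocalRing S] {T : Scheme.{u}} (i : T ⟶ Y)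
    [IsOpenImmersion i] (h : Spec S ⟶ Y) (hx : h (closedPoint S) ∈ i.opensRange) :
    ∃ k : Spec S ⟶ T, k ≫ i = h := by
  refine ⟨IsOpenImmersion.lift i h ?_, IsOpenImmersion.lift_fac _ _ _⟩
  rintro _ ⟨y, rfl⟩
  exact ((specializes_closedPoint y).map h.continuous).mem_open i.opensRange.2 hx

section RingChart

variable {R : Type u} [CommRing R]

/-- The coordinate `b / a` of the chart ring. -/
noncomputable def chartDiv (a b : R) : chartRing a b := (chartRing_div a b).choose

theorem chartDiv_spec (a b : R) :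
    algebraMap R (chartRing a b) b = chartDiv a b * algebraMap R (chartRing a b) a :=
  (chartRing_div a b).choose_spec

theorem chartRing_mem_adjoin {a b : R} (y : chartRing a b) :
    y ∈ Algebra.adjoin R {chartDiv a b} := by
  obtain ⟨y, hy⟩ := y
  refine Algebra.adjoin_induction
    (p := fun y hy => (⟨y, hy⟩ : chartRing a b) ∈ Algebra.adjoin R {chartDiv a b}) ?_ ?_ ?_ ?_ hy
  · rintro q ⟨x, hx, hq⟩
    obtain ⟨r, s, hrs⟩ := Ideal.mem_span_pair.mp hx
    have e : (⟨q, Algebra.subset_adjoin ⟨x, hx, hq⟩⟩ : chartRing a b) =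
        algebraMap R _ r + algebraMap R _ s * chartDiv a b := by
      refine (mul_cancel_right_mem_nonZeroDivisors (chartRing_nzd a b)).mp ?_
      rw [add_mul, mul_assoc, ← chartDiv_spec, ← map_mul, ← map_mul, ← map_add, hrs]
      refine Subtype.ext ?_
      show q * algebraMap R (Localization.Away a) a = algebraMap R _ x
      rw [hq]
      exact IsLocalization.mk'_spec (Localization.Away a) x ⟨a, Submonoid.mem_powers a⟩
    exact e ▸ add_mem (Subalgebra.algebraMap_mem _ r)
      (mul_mem (Subalgebra.algebraMap_mem _ s) (Algebra.subset_adjoin rfl))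
  · intro r; exact Subalgebra.algebraMap_mem _ r
  · intro x y _ _ hx hy; exact add_mem hx hy
  · intro x y _ _ hx hy; exact mul_mem hx hy

theorem chartRing_adjoin (a b : R) : Algebra.adjoin R {chartDiv a b} = ⊤ :=
  top_unique fun y _ => chartRing_mem_adjoin y

theorem nzd_and_div_of_isUnit {L : Type*} [CommRing L] {c x y : L} (hu : IsUnit c)
    (hx : x ∈ nonZeroDivisors L) (h : y = c * x) : y ∈ nonZeroDivisors L ∧ ∃ d, x = d * y := by
  obtain ⟨v, rfl⟩ := hu
  exact ⟨h ▸ mul_mem v.isUnit.mem_nonZeroDivisors hx, ↑v⁻¹, by rw [h, ← mul_assoc, Units.inv_mul, one_mul]⟩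

theorem chartRing_map_mem {a b : R} {K : Type*} [CommRing K] (φ : chartRing a b →+* K) (S : Subring K)
    (h : ∀ r, φ (algebraMap R _ r) ∈ S) (hc : φ (chartDiv a b) ∈ S) (y : chartRing a b) : φ y ∈ S := by
  refine Algebra.adjoin_induction (p := fun y _ => φ y ∈ S) ?_ h ?_ ?_ (chartRing_mem_adjoin y)
  · rintro _ rfl; exact hc
  · intro x y _ _ hx hy; rw [map_add]; exact add_mem hx hy
  · intro x y _ _ hx hy; rw [map_mul]; exact mul_mem hx hy

end RingChart

section Gam

variable [IsAffine M]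

/-- The ring map of a morphism from a spectrum to an affine scheme. -/
noncomputable def gam {S : CommRingCat.{u}} (h : Spec S ⟶ M) : Γ(M, ⊤) →+* S :=
  (h.appTop ≫ (Scheme.ΓSpecIso S).hom).hom

theorem gam_inj {S : CommRingCat.{u}} {h h' : Spec S ⟶ M} (e : gam h = gam h') : h = h' :=
  ext_of_isAffine ((cancel_mono (Scheme.ΓSpecIso S).hom).mp (CommRingCat.hom_ext e))

omit [IsAffine M] in
theorem gam_comp {S S' : CommRingCat.{u}} (φ : S ⟶ S') (h : Spec S ⟶ M) :
    gam (Spec.map φ ≫ h) = φ.hom.comp (gam h) := by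
  rw [gam, gam, ← CommRingCat.hom_comp, Scheme.Hom.comp_appTop, Category.assoc, Category.assoc,
    Scheme.ΓSpecIso_naturality]

variable {A B : M.IdealSheafData} {a b : Γ(M, ⊤)}

theorem goodAt_iff_gam
    (ha : A.ideal ⟨⊤, isAffineOpen_top M⟩ = Ideal.span {a})
    (hb : B.ideal ⟨⊤, isAffineOpen_top M⟩ = Ideal.span {b}) {S : CommRingCat.{u}} (g : Spec S ⟶ M) :
    GoodAt A B (Spec S) g ↔ gam g a ∈ nonZeroDivisors S ∧ ∃ c, gam g b = c * gam g a := by
  rw [goodAt_iff_of_isAffine ha hb]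
  let e := (Scheme.ΓSpecIso S).commRingCatIsoToRingEquiv
  have he : ∀ x, gam g x = e (g.appTop.hom x) := fun x => rfl
  rw [he, he]
  constructor
  · rintro ⟨h1, c, hc⟩
    exact ⟨map_mem_nonZeroDivisors_of_ringEquiv e h1, e c, by rw [hc, map_mul]⟩
  · rintro ⟨h1, c, hc⟩
    refine ⟨?_, e.symm c, ?_⟩
    · have := map_mem_nonZeroDivisors_of_ringEquiv e.symm h1
      rwa [e.symm_apply_apply] at this
    · apply e.injective; rw [hc, map_mul, e.apply_symm_apply]
where
  map_mem_nonZeroDivisors_of_ringEquiv {A B : Type u} [CommRing A] [CommRing B] (e : A ≃+* B) {x : A}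
      (hx : x ∈ nonZeroDivisors A) : e x ∈ nonZeroDivisors B := by
    rw [mem_nonZeroDivisors_iff_right] at hx ⊢
    intro y hy
    have := hx (e.symm y) (e.injective (by rw [map_mul, e.apply_symm_apply, hy, map_zero]))
    rw [← e.apply_symm_apply y, this, map_zero]

/-- A chart of a blow-up over an affine scheme. -/
structure IsChart (A B : M.IdealSheafData) (π : Y ⟶ M) (a b : Γ(M, ⊤))
    (j : Spec (CommRingCat.of (chartRing a b)) ⟶ Y) : Prop where
  isOpen : IsOpenImmersion j
  rep : IsRep (GoodAt A B) (j ≫ π)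
  app : (j ≫ π).appTop =
    CommRingCat.ofHom (algebraMap Γ(M, ⊤) (chartRing a b)) ≫ (Scheme.ΓSpecIso _).inv

omit [IsAffine M] in
theorem IsChart.gam_eq {π : Y ⟶ M} {j : Spec (CommRingCat.of (chartRing a b)) ⟶ Y} (h : IsChart A B π a b j)
    {S : CommRingCat.{u}} (φ : CommRingCat.of (chartRing a b) ⟶ S) :
    gam (Spec.map φ ≫ j ≫ π) = φ.hom.comp (algebraMap _ (chartRing a b)) := by
  rw [gam_comp]
  congr 1
  rw [gam, h.app, Category.assoc, Iso.inv_hom_id, Category.comp_id]
  rfl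

/-- The two charts of a blow-up over an affine scheme. -/
structure TwoCharts (A B : M.IdealSheafData) (π : Y ⟶ M) (a b : Γ(M, ⊤))
    (j : Spec (CommRingCat.of (chartRing a b)) ⟶ Y)
    (j' : Spec (CommRingCat.of (chartRing b a)) ⟶ Y) : Prop where
  ha : A.ideal ⟨⊤, isAffineOpen_top M⟩ = Ideal.span {a}
  hb : B.ideal ⟨⊤, isAffineOpen_top M⟩ = Ideal.span {b}
  chart : IsChart A B π a b j
  chart' : IsChart B A π b a j'
  cover : ∀ y : Y, y ∈ Set.range j ∨ y ∈ Set.range j'
  blow : BlowUp.IsBlowUp π (A ⊔ B)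

variable {π : Y ⟶ M} {j : Spec (CommRingCat.of (chartRing a b)) ⟶ Y}
  {j' : Spec (CommRingCat.of (chartRing b a)) ⟶ Y} (D : TwoCharts A B π a b j j')

include D

theorem TwoCharts.symm : TwoCharts B A π b a j' j :=
  ⟨D.hb, D.ha, D.chart', D.chart, fun y => (D.cover y).symm, by rw [sup_comm]; exact D.blow⟩

theorem TwoCharts.mem_other (p : Spec (CommRingCat.of (chartRing a b)))
    (hc : chartDiv a b ∉ p.asIdeal) : j p ∈ Set.range j' := by
  let L := Localization.Away (chartDiv a b)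
  let f : CommRingCat.of (chartRing a b) ⟶ CommRingCat.of L := CommRingCat.ofHom (algebraMap _ L)
  have hp : p ∈ Set.range (Spec.map f) := by
    have h1 := PrimeSpectrum.localization_away_comap_range L (chartDiv a b)
    show p ∈ Set.range (PrimeSpectrum.comap (algebraMap (chartRing a b) L))
    rw [h1]; exact hc
  obtain ⟨q, rfl⟩ := hp
  haveI := D.chart.isOpen
  haveI : IsOpenImmersion (Spec.map f) := IsOpenImmersion.of_isLocalization (chartDiv a b)
  have hg : GoodAt A B (Spec (CommRingCat.of L)) (Spec.map f ≫ j ≫ π) :=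
    (goodAt_isLocal A B).res (Spec.map f) (j ≫ π) D.chart.rep.1
  obtain ⟨hnz, -⟩ := (goodAt_iff_gam D.ha D.hb _).mp hg
  have hu : IsUnit (algebraMap (chartRing a b) L (chartDiv a b)) :=
    IsLocalization.Away.algebraMap_isUnit _
  have hb' : gam (Spec.map f ≫ j ≫ π) b =
      algebraMap (chartRing a b) L (chartDiv a b) * gam (Spec.map f ≫ j ≫ π) a := by
    rw [D.chart.gam_eq]
    exact (congrArg (algebraMap (chartRing a b) L) (chartDiv_spec a b)).trans (map_mul _ _ _)
  have hg' : GoodAt B A (Spec (CommRingCat.of L)) (Spec.map f ≫ j ≫ π) := by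
    exact (goodAt_iff_gam D.hb D.ha _).mpr (nzd_and_div_of_isUnit hu hnz hb')
  obtain ⟨l, hl, -⟩ := D.chart'.rep.2 _ _ hg'
  have he : l ≫ j' = Spec.map f ≫ j := by
    refine (D.blow.2 _ _ (eff_sup_of_goodAt hg)).unique ?_ ?_
    · rw [Category.assoc]; exact hl
    · rw [Category.assoc]
  refine ⟨l q, ?_⟩
  show (l ≫ j') q = (Spec.map f ≫ j) q
  rw [he]

theorem TwoCharts.mul_eq_one_of_isOpenImmersion {S : CommRingCat.{u}}
    (ρ : CommRingCat.of (chartRing a b) ⟶ S) (ρ' : CommRingCat.of (chartRing b a) ⟶ S)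
    [IsOpenImmersion (Spec.map ρ)] (e : Spec.map ρ ≫ j = Spec.map ρ' ≫ j') :
    ρ.hom (chartDiv a b) * ρ'.hom (chartDiv b a) = 1 := by
  have hg : GoodAt A B _ (Spec.map ρ ≫ j ≫ π) :=
    (goodAt_isLocal A B).res (Spec.map ρ) (j ≫ π) D.chart.rep.1
  obtain ⟨hnz, -⟩ := (goodAt_iff_gam D.ha D.hb _).mp hg
  have e1 := D.chart.gam_eq ρ
  have e2 := D.chart'.gam_eq ρ'
  rw [← reassoc_of% e] at e2
  have hb1 : gam (Spec.map ρ ≫ j ≫ π) b = ρ.hom (chartDiv a b) * gam (Spec.map ρ ≫ j ≫ π) a := by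
    rw [e1]; exact (congrArg ρ.hom (chartDiv_spec a b)).trans (map_mul _ _ _)
  have ha1 : gam (Spec.map ρ ≫ j ≫ π) a = ρ'.hom (chartDiv b a) * gam (Spec.map ρ ≫ j ≫ π) b := by
    rw [e2]; exact (congrArg ρ'.hom (chartDiv_spec b a)).trans (map_mul _ _ _)
  refine (mul_cancel_right_mem_nonZeroDivisors hnz).mp ?_
  rw [one_mul, mul_comm (ρ.hom _) (ρ'.hom _), mul_assoc, ← hb1, ← ha1]

set_option maxHeartbeats 1000000 in
-- many rewrites through pullback projections
theorem TwoCharts.mul_eq_one {K : CommRingCat.{u}} [IsLocalRing K]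
    (φ : CommRingCat.of (chartRing a b) ⟶ K) (φ' : CommRingCat.of (chartRing b a) ⟶ K)
    (e : Spec.map φ ≫ j = Spec.map φ' ≫ j') :
    φ.hom (chartDiv a b) * φ'.hom (chartDiv b a) = 1 := by
  haveI := D.chart.isOpen
  haveI := D.chart'.isOpen
  let h := pullback.lift (Spec.map φ) (Spec.map φ') e
  obtain ⟨V, hxV, -⟩ := exists_affine_le (h (closedPoint K)) (W := ⊤) trivial
  have hV : IsAffineOpen V.1 := V.2
  haveI : IsOpenImmersion hV.fromSpec := IsAffineOpen.isOpenImmersion_fromSpec hV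
  obtain ⟨k, hk⟩ := exists_lift_of_closedPoint hV.fromSpec h
    (by rw [hV.opensRange_fromSpec]; exact hxV)
  obtain ⟨ρ, hρ⟩ : ∃ ρ, Spec.map ρ = hV.fromSpec ≫ pullback.fst j j' := ⟨_, Spec.map_preimage _⟩
  obtain ⟨ρ', hρ'⟩ : ∃ ρ, Spec.map ρ = hV.fromSpec ≫ pullback.snd j j' := ⟨_, Spec.map_preimage _⟩
  obtain ⟨κ, rfl⟩ : ∃ κ, Spec.map κ = k := ⟨_, Spec.map_preimage _⟩
  have hφ : φ = ρ ≫ κ := Spec.map_injective (by
    rw [Spec.map_comp, hρ, reassoc_of% hk, pullback.lift_fst])
  have hφ' : φ' = ρ' ≫ κ := Spec.map_injective (by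
    rw [Spec.map_comp, hρ', reassoc_of% hk, pullback.lift_snd])
  haveI : IsOpenImmersion (Spec.map ρ) := by rw [hρ]; infer_instance
  have he : Spec.map ρ ≫ j = Spec.map ρ' ≫ j' :=
    (congrArg (· ≫ j) hρ).trans ((Category.assoc _ _ _).trans ((congrArg _ pullback.condition).trans
      ((Category.assoc _ _ _).symm.trans (congrArg (· ≫ j') hρ'.symm))))
  have h1 := D.mul_eq_one_of_isOpenImmersion ρ ρ' he
  rw [hφ, hφ']
  show κ.hom (ρ.hom _) * κ.hom (ρ'.hom _) = 1
  rw [← map_mul, h1, map_one]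

theorem TwoCharts.apply_ne_zero {K : CommRingCat.{u}} [IsLocalRing K]
    (φ : CommRingCat.of (chartRing a b) ⟶ K) (φ' : CommRingCat.of (chartRing b a) ⟶ K)
    (e : Spec.map φ ≫ j = Spec.map φ' ≫ j') : φ.hom (chartDiv a b) ≠ 0 :=
  left_ne_zero_of_mul_eq_one (D.mul_eq_one φ φ' e)

theorem TwoCharts.exists_lift (S : ValuativeCommSq π)
    (φ : CommRingCat.of (chartRing a b) ⟶ CommRingCat.of S.K) (hφ : Spec.map φ ≫ j = S.i₁)
    (hc : φ.hom (chartDiv a b) ∈ (algebraMap S.R S.K).range) : S.commSq.HasLift := by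
  have hinj : Function.Injective (algebraMap S.R S.K) := IsFractionRing.injective S.R S.K
  have hθ : φ.hom.comp (algebraMap _ (chartRing a b)) = (algebraMap S.R S.K).comp (gam S.i₂) := by
    have h2 := gam_comp (CommRingCat.ofHom (algebraMap S.R S.K)) S.i₂
    rw [← S.commSq.w, ← hφ, Category.assoc, D.chart.gam_eq] at h2
    exact h2
  have hmem : ∀ y, φ.hom y ∈ (algebraMap S.R S.K).range :=
    chartRing_map_mem φ.hom _ (fun r => ⟨gam S.i₂ r, (RingHom.congr_fun hθ r).symm⟩) hc
  let e : S.R ≃+* (algebraMap S.R S.K).range :=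
    RingEquiv.ofBijective (algebraMap S.R S.K).rangeRestrict
      ⟨fun x y h => hinj (congrArg Subtype.val h), RingHom.rangeRestrict_surjective _⟩
  let ψ : CommRingCat.of (chartRing a b) ⟶ CommRingCat.of S.R :=
    CommRingCat.ofHom (e.symm.toRingHom.comp (φ.hom.codRestrict _ hmem))
  have hψ : ∀ y, algebraMap S.R S.K (ψ.hom y) = φ.hom y := fun y =>
    congrArg Subtype.val (e.apply_symm_apply ⟨φ.hom y, hmem y⟩)
  refine CommSq.HasLift.mk' ⟨Spec.map ψ ≫ j, ?_, ?_⟩
  · rw [← Category.assoc, ← Spec.map_comp, ← hφ]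
    congr 2
    exact CommRingCat.hom_ext (RingHom.ext hψ)
  · rw [Category.assoc]
    refine gam_inj (RingHom.ext fun r => hinj ?_)
    rw [D.chart.gam_eq]
    exact (hψ _).trans (RingHom.congr_fun hθ r)

theorem TwoCharts.existence : ValuativeCriterion.Existence π := by
  have main : ∀ {A B : M.IdealSheafData} {a b : Γ(M, ⊤)} {j : Spec (CommRingCat.of (chartRing a b)) ⟶ Y}
      {j' : Spec (CommRingCat.of (chartRing b a)) ⟶ Y}, TwoCharts A B π a b j j' →
      ∀ S : ValuativeCommSq π, S.i₁ (closedPoint S.K) ∈ Set.range j → S.commSq.HasLift := by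
    intro A B a b j j' D S hx
    haveI := D.chart.isOpen
    haveI := D.chart'.isOpen
    obtain ⟨k, hk⟩ := exists_lift_of_closedPoint (S := CommRingCat.of S.K) j S.i₁ hx
    obtain ⟨φ, rfl⟩ : ∃ φ, Spec.map φ = k := ⟨_, Spec.map_preimage _⟩
    rcases ValuationRing.isInteger_or_isInteger (R := S.R) (φ.hom (chartDiv a b)) with h | h
    · exact D.exists_lift S φ hk h
    · by_cases h0 : φ.hom (chartDiv a b) = 0
      · exact D.exists_lift S φ hk (by rw [h0]; exact zero_mem _)
      have hp : S.i₁ (closedPoint S.K) ∈ Set.range j' := by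
        rw [← hk]
        refine D.mem_other (Spec.map φ (closedPoint S.K)) fun hmem => h0 ?_
        change φ.hom (chartDiv a b) ∈ maximalIdeal S.K at hmem
        rwa [IsLocalRing.maximalIdeal_eq_bot, Ideal.mem_bot] at hmem
      obtain ⟨k', hk'⟩ := exists_lift_of_closedPoint (S := CommRingCat.of S.K) j' S.i₁ hp
      obtain ⟨φ', rfl⟩ : ∃ φ, Spec.map φ = k' := ⟨_, Spec.map_preimage _⟩
      refine D.symm.exists_lift S φ' hk' ?_
      rw [eq_inv_of_mul_eq_one_right (D.mul_eq_one φ φ' (hk.trans hk'.symm))]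
      exact h
  intro S
  exact (D.cover (S.i₁ (closedPoint S.K))).elim (main D S) (main D.symm S)

theorem TwoCharts.uniqueness : ValuativeCriterion.Uniqueness π := by
  intro S
  refine ⟨fun l l' => CommSq.LiftStruct.ext ?_⟩
  have hinj : Function.Injective (algebraMap S.R S.K) := IsFractionRing.injective S.R S.K
  have hr : Spec.map (CommRingCat.ofHom (algebraMap S.R S.K)) ≫ l.l =
      Spec.map (CommRingCat.ofHom (algebraMap S.R S.K)) ≫ l'.l := l.fac_left.trans l'.fac_left.symm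
  have same : ∀ {T : CommRingCat.{u}} (i : Spec T ⟶ Y) [IsOpenImmersion i],
      l.l (closedPoint S.R) ∈ Set.range i → l'.l (closedPoint S.R) ∈ Set.range i → l.l = l'.l := by
    intro T i _ h1 h2
    obtain ⟨k, hk⟩ := exists_lift_of_closedPoint (S := CommRingCat.of S.R) i l.l h1
    obtain ⟨k', hk'⟩ := exists_lift_of_closedPoint (S := CommRingCat.of S.R) i l'.l h2
    obtain ⟨φ, rfl⟩ : ∃ φ, Spec.map φ = k := ⟨_, Spec.map_preimage _⟩
    obtain ⟨φ', rfl⟩ : ∃ φ, Spec.map φ = k' := ⟨_, Spec.map_preimage _⟩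
    rw [← hk, ← hk', ← Category.assoc, ← Category.assoc, cancel_mono, ← Spec.map_comp, ← Spec.map_comp] at hr
    rw [← hk, ← hk', show φ = φ' from CommRingCat.hom_ext (RingHom.ext fun y => hinj
      (RingHom.congr_fun (congrArg CommRingCat.Hom.hom (Spec.map_injective hr)) y))]
  have cross : ∀ {A B : M.IdealSheafData} {a b : Γ(M, ⊤)} {j : Spec (CommRingCat.of (chartRing a b)) ⟶ Y}
      {j' : Spec (CommRingCat.of (chartRing b a)) ⟶ Y}, TwoCharts A B π a b j j' →
      ∀ m m' : Spec (CommRingCat.of S.R) ⟶ Y,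
        Spec.map (CommRingCat.ofHom (algebraMap S.R S.K)) ≫ m =
          Spec.map (CommRingCat.ofHom (algebraMap S.R S.K)) ≫ m' →
        m (closedPoint S.R) ∈ Set.range j → m' (closedPoint S.R) ∈ Set.range j' →
        m (closedPoint S.R) ∈ Set.range j' := by
    intro A B a b j j' D m m' hm h1 h2
    haveI := D.chart.isOpen
    haveI := D.chart'.isOpen
    obtain ⟨k, hk⟩ := exists_lift_of_closedPoint (S := CommRingCat.of S.R) j m h1
    obtain ⟨k', hk'⟩ := exists_lift_of_closedPoint (S := CommRingCat.of S.R) j' m' h2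
    obtain ⟨φ, rfl⟩ : ∃ φ, Spec.map φ = k := ⟨_, Spec.map_preimage _⟩
    obtain ⟨φ', rfl⟩ : ∃ φ, Spec.map φ = k' := ⟨_, Spec.map_preimage _⟩
    rw [← hk, ← hk', ← Category.assoc, ← Category.assoc, ← Spec.map_comp, ← Spec.map_comp] at hm
    have h := D.mul_eq_one (K := CommRingCat.of S.K) _ _ hm
    change algebraMap S.R S.K (φ.hom (chartDiv a b)) * algebraMap S.R S.K (φ'.hom (chartDiv b a)) = 1 at h
    rw [← map_mul, ← map_one (algebraMap S.R S.K)] at h
    have hu : IsUnit (φ.hom (chartDiv a b)) := IsUnit.of_mul_eq_one _ (hinj h)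
    rw [← hk]
    refine D.mem_other (Spec.map φ (closedPoint S.R)) fun hmem => ?_
    change φ.hom (chartDiv a b) ∈ maximalIdeal S.R at hmem
    exact (mem_maximalIdeal _).mp hmem hu
  haveI := D.chart.isOpen
  haveI := D.chart'.isOpen
  rcases D.cover (l.l (closedPoint S.R)) with h1 | h1 <;>
    rcases D.cover (l'.l (closedPoint S.R)) with h2 | h2
  · exact same j h1 h2
  · exact same j' (cross D l.l l'.l hr h1 h2) h2
  · exact same j' h1 (cross D l'.l l.l hr.symm h2 h1)
  · exact same j' h1 h2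

theorem TwoCharts.isCompact_inter : IsCompact (j ⁻¹' Set.range j') := by
  have : j ⁻¹' Set.range j' = (PrimeSpectrum.basicOpen (chartDiv a b) :
      Set (PrimeSpectrum (chartRing a b))) := by
    refine Set.ext fun p => ⟨fun ⟨q, hq⟩ hc => ?_, fun hc => D.mem_other p hc⟩
    haveI := D.chart'.isOpen
    haveI : p.asIdeal.IsPrime := p.2
    let φ : CommRingCat.of (chartRing a b) ⟶ CommRingCat.of p.asIdeal.ResidueField :=
      CommRingCat.ofHom (algebraMap (chartRing a b) p.asIdeal.ResidueField)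
    have hp : Spec.map φ (closedPoint p.asIdeal.ResidueField) = p := by
      refine PrimeSpectrum.ext ?_
      change Ideal.comap (algebraMap (chartRing a b) p.asIdeal.ResidueField) (maximalIdeal _) = p.asIdeal
      rw [IsLocalRing.maximalIdeal_eq_bot]
      exact Ideal.ker_algebraMap_residueField _
    obtain ⟨k', hk'⟩ := exists_lift_of_closedPoint (S := CommRingCat.of p.asIdeal.ResidueField) j' (Spec.map φ ≫ j)
      ⟨q, hq.trans (congrArg j hp.symm)⟩
    obtain ⟨φ', rfl⟩ : ∃ φ, Spec.map φ = k' := ⟨_, Spec.map_preimage _⟩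
    refine D.apply_ne_zero φ φ' hk'.symm ?_
    exact Ideal.algebraMap_residueField_eq_zero.mpr hc
  rw [this]
  exact PrimeSpectrum.isCompact_basicOpen _

theorem TwoCharts.isProper : IsProper π := by
  haveI := D.chart.isOpen
  haveI := D.chart'.isOpen
  have hcov : Set.range j ∪ Set.range j' = Set.univ := Set.eq_univ_of_forall D.cover
  haveI : CompactSpace Y := ⟨by
    rw [← hcov]
    exact (isCompact_range j.continuous).union (isCompact_range j'.continuous)⟩
  haveI : QuasiCompact π := (quasiCompact_iff_compactSpace π).mpr inferInstance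
  haveI : QuasiSeparatedSpace Y := by
    let P : Set Y → Prop := fun W => IsOpen W ∧ IsCompact W ∧ (W ⊆ Set.range j ∨ W ⊆ Set.range j')
    have hcross : ∀ W W' : Set Y, P W → P W' → W ⊆ Set.range j → W' ⊆ Set.range j' → IsCompact (W ∩ W') := by
      intro W W' hW hW' hs hs'
      have h1 : IsCompact (W ∩ Set.range j') := by
        have e : j '' (j ⁻¹' W ∩ j ⁻¹' Set.range j') = W ∩ Set.range j' := by
          rw [← Set.preimage_inter, Set.image_preimage_eq_of_subset]
          exact Set.inter_subset_left.trans hs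
        rw [← e]
        refine IsCompact.image (IsCompact.inter_of_isOpen ?_ D.isCompact_inter
          (hW.1.preimage j.continuous) (j'.isOpenEmbedding.isOpen_range.preimage j.continuous)) j.continuous
        exact j.isOpenEmbedding.isInducing.isCompact_iff.mpr (by rw [Set.image_preimage_eq_of_subset hs]; exact hW.2.1)
      have e : W ∩ W' = W ∩ Set.range j' ∩ W' := by
        rw [Set.inter_assoc, Set.inter_eq_right.mpr hs']
      rw [e]
      have hq : IsQuasiSeparated (Set.range j') := by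
        rw [← Set.image_univ]
        exact (isQuasiSeparated_univ_iff.mpr inferInstance).image_of_isEmbedding j'.isOpenEmbedding.isEmbedding
      exact hq _ _ Set.inter_subset_right (hW.1.inter j'.isOpenEmbedding.isOpen_range) h1 hs' hW'.1 hW'.2.1
    refine QuasiSeparatedSpace.of_isTopologicalBasis (b := fun W : {W : Set Y // P W} => W.1) ?_ ?_
    · refine isTopologicalBasis_of_isOpen_of_nhds (fun U hU => ?_) fun x O hx hO => ?_
      · obtain ⟨W, rfl⟩ := hU; exact W.2.1
      · have main : ∀ {T : Scheme.{u}} (i : T ⟶ Y) [IsOpenImmersion i], x ∈ Set.range i →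
            ∃ W : Set Y, IsOpen W ∧ IsCompact W ∧ W ⊆ Set.range i ∧ x ∈ W ∧ W ⊆ O := by
          intro T i _ hxi
          obtain ⟨V, hV, hVle⟩ := exists_affine_le x (W := i.opensRange ⊓ ⟨O, hO⟩) ⟨hxi, hx⟩
          exact ⟨V.1, V.1.2, V.2.isCompact, fun y hy => (hVle hy).1, hV, fun y hy => (hVle hy).2⟩
        rcases D.cover x with h | h
        · obtain ⟨W, h1, h2, h3, h4, h5⟩ := main j h
          exact ⟨W, ⟨⟨W, h1, h2, Or.inl h3⟩, rfl⟩, h4, h5⟩
        · obtain ⟨W, h1, h2, h3, h4, h5⟩ := main j' h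
          exact ⟨W, ⟨⟨W, h1, h2, Or.inr h3⟩, rfl⟩, h4, h5⟩
    · rintro ⟨W, hW⟩ ⟨W', hW'⟩
      have hsame : ∀ {T : CommRingCat.{u}} (i : Spec T ⟶ Y) [IsOpenImmersion i],
          W ⊆ Set.range i → W' ⊆ Set.range i → IsCompact (W ∩ W') := by
        intro T i _ hs hs'
        have hq : IsQuasiSeparated (Set.range i) := by
          rw [← Set.image_univ]
          exact (isQuasiSeparated_univ_iff.mpr inferInstance).image_of_isEmbedding i.isOpenEmbedding.isEmbedding
        exact hq _ _ hs hW.1 hW.2.1 hs' hW'.1 hW'.2.1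
      rcases hW.2.2 with hs | hs <;> rcases hW'.2.2 with hs' | hs'
      · exact hsame j hs hs'
      · exact hcross W W' hW hW' hs hs'
      · show IsCompact (W ∩ W'); rw [Set.inter_comm]; exact hcross W' W hW' hW hs' hs
      · exact hsame j' hs hs'
  haveI : LocallyOfFiniteType π := by
    let 𝒰 : Y.OpenCover := Scheme.Cover.mkOfCovers Bool
      (fun i => if i then Spec (CommRingCat.of (chartRing a b)) else Spec (CommRingCat.of (chartRing b a)))
      (fun i => match i with | true => j | false => j')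
      (fun y => (D.cover y).elim (fun ⟨x, hx⟩ => ⟨true, x, hx⟩) (fun ⟨x, hx⟩ => ⟨false, x, hx⟩))
      (fun i => match i with | true => D.chart.isOpen | false => D.chart'.isOpen)
    haveI : IsZariskiLocalAtSource @LocallyOfFiniteType.{u} :=
      @HasRingHomProperty.instIsZariskiLocalAtSource _ _ inferInstance
    refine IsZariskiLocalAtSource.of_openCover 𝒰 ?_
    have main : ∀ {A B : M.IdealSheafData} {a b : Γ(M, ⊤)} {j : Spec (CommRingCat.of (chartRing a b)) ⟶ Y},
        IsChart A B π a b j → LocallyOfFiniteType (j ≫ π) := by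
      intro A B a b j h
      rw [HasRingHomProperty.iff_of_isAffine (P := @LocallyOfFiniteType.{u}), h.app, CommRingCat.hom_comp,
        CommRingCat.hom_ofHom]
      refine RingHom.FiniteType.comp (RingHom.FiniteType.of_surjective _ ?_) ?_
      · exact ((Scheme.ΓSpecIso _).symm.commRingCatIsoToRingEquiv).surjective
      · rw [RingHom.finiteType_algebraMap]
        exact ⟨⟨{chartDiv a b}, by rw [Finset.coe_singleton]; exact chartRing_adjoin a b⟩⟩
    intro i
    match i with
    | true => exact main D.chart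
    | false => exact main D.chart'
  exact IsProper.of_valuativeCriterion π (ValuativeCriterion.iff.mpr ⟨D.existence, D.uniqueness⟩)

end Gam

theorem isBlowUp_restrict {π : Y ⟶ M} {C : M.IdealSheafData} (h : BlowUp.IsBlowUp π C) (V : M.Opens) :
    BlowUp.IsBlowUp (π ∣_ V) (C.comap V.ι) := by
  refine ⟨?_, fun Z g hg => ?_⟩
  · rw [← Scheme.IdealSheafData.comap_comp, morphismRestrict_ι, Scheme.IdealSheafData.comap_comp]
    exact isEffCartier_comap_isOpenImmersion h.1 _
  · rw [← Scheme.IdealSheafData.comap_comp] at hg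
    obtain ⟨l, hl, hu⟩ := h.2 Z (g ≫ V.ι) hg
    have hr : Set.range l ⊆ Set.range (π ⁻¹ᵁ V).ι := by
      rw [Scheme.Opens.range_ι]
      rintro _ ⟨z, rfl⟩
      show (l ≫ π) z ∈ V
      rw [hl]
      exact (g z).2
    refine ⟨IsOpenImmersion.lift (π ⁻¹ᵁ V).ι l hr, ?_, fun m hm => ?_⟩
    · show IsOpenImmersion.lift (π ⁻¹ᵁ V).ι l hr ≫ π ∣_ V = g
      rw [← cancel_mono V.ι, Category.assoc, morphismRestrict_ι, IsOpenImmersion.lift_fac_assoc, hl]
    · rw [← cancel_mono (π ⁻¹ᵁ V).ι, IsOpenImmersion.lift_fac]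
      refine hu _ ?_
      simp only at hm ⊢
      rw [Category.assoc, ← morphismRestrict_ι, ← Category.assoc, hm]

theorem isProper_of_isBlowUp_affine [IsAffine M] {A B : M.IdealSheafData} {π : Y ⟶ M}
    (h : BlowUp.IsBlowUp π (A ⊔ B)) (a b : Γ(M, ⊤))
    (ha : A.ideal ⟨⊤, isAffineOpen_top M⟩ = Ideal.span {a})
    (hb : B.ideal ⟨⊤, isAffineOpen_top M⟩ = Ideal.span {b}) : IsProper π := by
  have hA : IsLocPrincipal A := fun x => ⟨⟨⊤, isAffineOpen_top M⟩, trivial, a, ha⟩
  have hB : IsLocPrincipal B := fun x => ⟨⟨⊤, isAffineOpen_top M⟩, trivial, b, hb⟩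
  obtain ⟨Y', π', YA, YB, iA, iB, hiA, hiB, hcov, gA, gB, hπ'⟩ := exists_isBlowUp_two hA hB
  obtain ⟨ρ, hρ, hρr⟩ := exists_rep_affine A B a b ha hb
  obtain ⟨ρ', hρ', hρr'⟩ := exists_rep_affine B A b a hb ha
  obtain ⟨e, he⟩ := Rep.isRep_iso hρr gA
  obtain ⟨e', he'⟩ := Rep.isRep_iso hρr' gB
  have D : TwoCharts A B π' a b (e.hom ≫ iA) (e'.hom ≫ iB) := by
    refine ⟨ha, hb, ⟨inferInstance, ?_, ?_⟩, ⟨inferInstance, ?_, ?_⟩, fun y => ?_, hπ'⟩
    · rw [Category.assoc, he]; exact hρr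
    · rw [Category.assoc, he, hρ]
    · rw [Category.assoc, he']; exact hρr'
    · rw [Category.assoc, he', hρ']
    · rcases hcov y with ⟨z, rfl⟩ | ⟨z, rfl⟩
      · refine Or.inl ⟨e.inv z, ?_⟩
        show (e.inv ≫ e.hom ≫ iA) z = _
        rw [Iso.inv_hom_id_assoc]
      · refine Or.inr ⟨e'.inv z, ?_⟩
        show (e'.inv ≫ e'.hom ≫ iB) z = _
        rw [Iso.inv_hom_id_assoc]
  haveI := D.isProper
  obtain ⟨ψ, hψ⟩ := Rep.isRep_iso (P := fun Z g => BlowUp.IsEffCartierIdeal ((A ⊔ B).comap g)) h hπ'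
  rw [← hψ]
  infer_instance

/-- A blowing up in the sum of two locally principal ideal sheaves is proper. -/
theorem isProper_of_isBlowUp_two {A B : M.IdealSheafData} (hA : IsLocPrincipal A) (hB : IsLocPrincipal B)
    {π : Y ⟶ M} (h : BlowUp.IsBlowUp π (A ⊔ B)) : IsProper π := by
  have hV : ∀ x : M, ∃ V : M.affineOpens, x ∈ V.1 ∧ (∃ a, A.ideal V = Ideal.span {a}) ∧
      ∃ b, B.ideal V = Ideal.span {b} := fun x => by
    obtain ⟨U, hU, a, ha⟩ := hA x
    obtain ⟨V, hV, hVU, b, hb⟩ := exists_principal_le hB x hU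
    exact ⟨V, hV, ⟨_, ideal_restrict A (show V ≤ U from hVU) ha⟩, b, hb⟩
  choose V hx hA' hB' using hV
  haveI : IsZariskiLocalAtTarget @IsProper.{u} := inferInstance
  refine IsZariskiLocalAtTarget.of_iSup_eq_top (P := @IsProper.{u}) (fun x => (V x).1)
    (top_unique fun x _ => Opens.mem_iSup.mpr ⟨x, hx x⟩) fun x => ?_
  haveI : IsAffine (V x).1.toScheme := (V x).2
  have hr := isBlowUp_restrict h (V x).1
  rw [Scheme.IdealSheafData.comap_sup] at hr
  have tr : ∀ (I : M.IdealSheafData) (s : Γ(M, (V x).1)), I.ideal (V x) = Ideal.span {s} →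
      ∃ s', (I.comap (V x).1.ι).ideal ⟨⊤, isAffineOpen_top (V x).1.toScheme⟩ = Ideal.span {s'} := by
    intro I s hs
    refine ⟨((V x).1.ι.appLE (V x).1 ⊤ (V x).1.ι_preimage_self.ge).hom s, ?_⟩
    rw [ideal_comap I (V x).1.ι (V x) ⟨⊤, isAffineOpen_top _⟩ (V x).1.ι_preimage_self.ge, hs,
      Ideal.map_span, Set.image_singleton]
  obtain ⟨a, ha⟩ := hA' x
  obtain ⟨b, hb⟩ := hB' x
  obtain ⟨a', ha'⟩ := tr A a ha
  obtain ⟨b', hb'⟩ := tr B b hb
  exact isProper_of_isBlowUp_affine hr a' b' ha' hb'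

end Groth.Agent.MP99
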