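import Groth.Agent.MP99.MaxLE

set_option autoImplicit false

universe u

open CategoryTheory CategoryTheory.Limits AlgebraicGeometry TopologicalSpace

namespace Groth.Agent.MP99

variable {M Y W : Scheme.{u}} {A B : M.IdealSheafData}

theorem eff_sup_of_goodAt {g : W ⟶ M} (h : GoodAt A B W g) :
    BlowUp.IsEffCartierIdeal ((A ⊔ B).comap g) := by
  rw [Scheme.IdealSheafData.comap_sup, sup_eq_left.mpr h.1]; exact h.2

theorem goodAt_of_eff {g : W ⟶ M} (he : BlowUp.IsEffCartierIdeal ((A ⊔ B).comap g))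
    (hle : B.comap g ≤ A.comap g) : GoodAt A B W g := by
  refine ⟨hle, ?_⟩
  rwa [Scheme.IdealSheafData.comap_sup, sup_eq_left.mpr hle] at he

theorem exists_good_near (hA : IsLocPrincipal A) (hB : IsLocPrincipal B) {g : W ⟶ M}
    (he : BlowUp.IsEffCartierIdeal ((A ⊔ B).comap g)) (x : W) :
    ∃ V : W.Opens, x ∈ V ∧ (GoodAt A B V.toScheme (V.ι ≫ g) ∨ GoodAt B A V.toScheme (V.ι ≫ g)) := by
  obtain ⟨U1, hU1, a0, ha0⟩ := isLocPrincipal_comap hA g x
  obtain ⟨U2, hU2, hU21, b0, hb0⟩ := exists_principal_le (isLocPrincipal_comap hB g) x hU1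
  obtain ⟨U, hU, hU32, e, hez, hee⟩ := exists_nzd_le he x hU2
  have ha := ideal_restrict _ (show U ≤ U1 from hU32.trans hU21) ha0
  have hb := ideal_restrict _ (show U ≤ U2 from hU32) hb0
  generalize (W.presheaf.map _).hom a0 = a at ha
  generalize (W.presheaf.map _).hom b0 = b at hb
  rw [Scheme.IdealSheafData.comap_sup, Scheme.IdealSheafData.ideal_sup, Pi.sup_apply, ha, hb] at hee
  obtain ⟨a1, ha1⟩ := Ideal.mem_span_singleton'.mp
    (hee.le (Ideal.mem_sup_left (Ideal.mem_span_singleton_self a)))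
  obtain ⟨b1, hb1⟩ := Ideal.mem_span_singleton'.mp
    (hee.le (Ideal.mem_sup_right (Ideal.mem_span_singleton_self b)))
  obtain ⟨y, hy, z, hz, hyz⟩ := Submodule.mem_sup.mp (hee.ge (Ideal.mem_span_singleton_self e))
  obtain ⟨s, rfl⟩ := Ideal.mem_span_singleton'.mp hy
  obtain ⟨t, rfl⟩ := Ideal.mem_span_singleton'.mp hz
  have h1 : s * a1 + t * b1 = 1 := (mul_cancel_right_mem_nonZeroDivisors hez).mp (by
    rw [one_mul]; conv_rhs => rw [← hyz, ← ha1, ← hb1]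
    ring)
  have hx : x ∈ W.basicOpen a1 ∨ x ∈ W.basicOpen b1 := by
    simp only [Scheme.mem_basicOpen _ _ x hU]
    have h2 := congrArg (W.presheaf.germ U.1 x hU).hom h1
    rw [map_add, map_mul, map_mul, map_one] at h2
    rcases IsLocalRing.isUnit_or_isUnit_of_add_one h2 with h | h
    · exact Or.inl (isUnit_of_mul_isUnit_right h)
    · exact Or.inr (isUnit_of_mul_isUnit_right h)
  have main : ∀ {a b a1 b1 : Γ(W, U.1)} {I J : W.IdealSheafData}, I.ideal U = Ideal.span {a} →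
      J.ideal U = Ideal.span {b} → a1 * e = a → b1 * e = b →
      J.comap (W.basicOpen a1).ι ≤ I.comap (W.basicOpen a1).ι := by
    intro a b a1 b1 I J ha hb ha1 hb1
    refine comap_le_of_ideal_le fun y hy => ⟨W.affineBasicOpen a1, hy, le_rfl, ?_⟩
    have hle : W.affineBasicOpen a1 ≤ U := W.basicOpen_le a1
    rw [ideal_restrict I hle ha, ideal_restrict J hle hb, ← ha1, ← hb1, map_mul, map_mul]
    refine le_trans ?_ (Ideal.span_singleton_mul_left_unit (RingedSpace.isUnit_res_basicOpen _ a1) _).ge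
    exact (Ideal.span_singleton_le_iff_mem _).mpr
      (Ideal.mul_mem_left _ _ (Ideal.mem_span_singleton_self _))
  have eff : ∀ V : W.Opens, BlowUp.IsEffCartierIdeal ((A ⊔ B).comap (V.ι ≫ g)) := fun V => by
    rw [Scheme.IdealSheafData.comap_comp]; exact isEffCartier_comap_isOpenImmersion he _
  rcases hx with hx | hx
  · refine ⟨_, hx, Or.inl (goodAt_of_eff (eff _) ?_)⟩
    simp only [Scheme.IdealSheafData.comap_comp]
    exact main ha hb ha1 hb1
  · refine ⟨_, hx, Or.inr (goodAt_of_eff (by rw [sup_comm]; exact eff _) ?_)⟩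
    simp only [Scheme.IdealSheafData.comap_comp]
    exact main hb ha hb1 ha1

theorem exists_factor_openImmersion {T : Scheme.{u}} (i : T ⟶ Y) [IsOpenImmersion i] (h : W ⟶ Y) (V : W.Opens)
    (hV : V ≤ h ⁻¹ᵁ i.opensRange) : ∃ k : V.toScheme ⟶ T, k ≫ i = V.ι ≫ h := by
  refine ⟨IsOpenImmersion.lift i (V.ι ≫ h) ?_, IsOpenImmersion.lift_fac _ _ _⟩
  rintro _ ⟨y, rfl⟩
  exact hV y.2

theorem goodAt_near_of_mem {T : Scheme.{u}} (iA : T ⟶ Y) [IsOpenImmersion iA] (π : Y ⟶ M)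
    (hA : GoodAt A B T (iA ≫ π)) (h : W ⟶ Y)
    (he : BlowUp.IsEffCartierIdeal ((A ⊔ B).comap (h ≫ π))) :
    GoodAt A B (h ⁻¹ᵁ iA.opensRange).toScheme ((h ⁻¹ᵁ iA.opensRange).ι ≫ h ≫ π) := by
  refine goodAt_of_eff ?_ ?_
  · rw [Scheme.IdealSheafData.comap_comp]; exact isEffCartier_comap_isOpenImmersion he _
  · obtain ⟨k, hk⟩ := exists_factor_openImmersion iA h _ le_rfl
    rw [← reassoc_of% hk, Scheme.IdealSheafData.comap_comp, Scheme.IdealSheafData.comap_comp A]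
    exact Scheme.IdealSheafData.comap_mono k hA.1

theorem mem_range_of_goodAt {T T' : Scheme.{u}} (hA : IsLocPrincipal A) (iA : T ⟶ Y) [IsOpenImmersion iA]
    (iB : T' ⟶ Y) [IsOpenImmersion iB] (π : Y ⟶ M)
    (hcov : ∀ y : Y, y ∈ iA.opensRange ∨ y ∈ iB.opensRange) (hB : GoodAt B A T' (iB ≫ π))
    (hover : ∀ y ∈ maxLE (B.comap (iB ≫ π)) (A.comap (iB ≫ π)), iB y ∈ iA.opensRange)
    (h : W ⟶ Y) (V : W.Opens) (x : W) (hx : x ∈ V) (hg : GoodAt A B V.toScheme (V.ι ≫ h ≫ π)) :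
    h x ∈ iA.opensRange := by
  refine (hcov (h x)).elim id fun hxB => ?_
  have hxV : x ∈ V ⊓ h ⁻¹ᵁ iB.opensRange := ⟨hx, hxB⟩
  obtain ⟨k, hk⟩ := exists_factor_openImmersion iB h (V ⊓ h ⁻¹ᵁ iB.opensRange) inf_le_right
  have hg' := (goodAt_isLocal A B).res (W.homOfLE (inf_le_left : V ⊓ h ⁻¹ᵁ iB.opensRange ≤ V)) _ hg
  rw [W.homOfLE_ι_assoc, ← reassoc_of% hk] at hg'
  have h1 : A.comap (k ≫ iB ≫ π) = B.comap (k ≫ iB ≫ π) := le_antisymm (by
    rw [Scheme.IdealSheafData.comap_comp, Scheme.IdealSheafData.comap_comp B]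
    exact Scheme.IdealSheafData.comap_mono k hB.1) hg'.1
  have h2 := apply_mem_maxLE hB.2 (isLocPrincipal_comap hA _) hB.1 k
    (by rw [← Scheme.IdealSheafData.comap_comp, ← h1]; exact hg'.2)
    (by rw [← Scheme.IdealSheafData.comap_comp, ← Scheme.IdealSheafData.comap_comp, h1]) ⟨x, hxV⟩
  have h3 : iB (k ⟨x, hxV⟩) = h x := by
    show (k ≫ iB) ⟨x, hxV⟩ = h x
    rw [hk]; rfl
  exact h3 ▸ hover _ h2

/-- The blow-up in the sum of two locally principal ideals, with its two charts. -/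
theorem exists_isBlowUp_two (hA : IsLocPrincipal A) (hB : IsLocPrincipal B) :
    ∃ (Y : Scheme.{u}) (π : Y ⟶ M) (YA YB : Scheme.{u}) (iA : YA ⟶ Y) (iB : YB ⟶ Y),
      IsOpenImmersion iA ∧ IsOpenImmersion iB ∧ (∀ y : Y, y ∈ Set.range iA ∨ y ∈ Set.range iB) ∧
      IsRep (GoodAt A B) (iA ≫ π) ∧ IsRep (GoodAt B A) (iB ≫ π) ∧ BlowUp.IsBlowUp π (A ⊔ B) := by
  obtain ⟨YA, πA, hπA⟩ := exists_rep_goodAt A B hA hB
  obtain ⟨YB, πB, hπB⟩ := exists_rep_goodAt B A hB hA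
  obtain ⟨UA, hUA⟩ : ∃ U, U = maxLE (A.comap πA) (B.comap πA) := ⟨_, rfl⟩
  obtain ⟨UB, hUB⟩ : ∃ U, U = maxLE (B.comap πB) (A.comap πB) := ⟨_, rfl⟩
  have both : ∀ {T : Scheme.{u}} {A B : M.IdealSheafData} (π : T ⟶ M), GoodAt A B T π →
      ∀ U : T.Opens, U = maxLE (A.comap π) (B.comap π) →
      GoodAt A B U.toScheme (U.ι ≫ π) ∧ GoodAt B A U.toScheme (U.ι ≫ π) := by
    intro T A B π hπ U hU
    have h1 := (goodAt_isLocal A B).res U.ι π hπ
    have h2 : A.comap (U.ι ≫ π) ≤ B.comap (U.ι ≫ π) := by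
      subst hU
      simp only [Scheme.IdealSheafData.comap_comp]; exact comap_maxLE _ _
    exact ⟨h1, h2, le_antisymm h1.1 h2 ▸ h1.2⟩
  have hgA := both πA hπA.1 UA hUA
  have hgB := both πB hπB.1 UB hUB
  obtain ⟨lA, hlA, -⟩ := hπB.2 _ _ hgA.2
  obtain ⟨lB, hlB, -⟩ := hπA.2 _ _ hgB.2
  have land : ∀ {T T' : Scheme.{u}} {A B : M.IdealSheafData}, IsLocPrincipal A → ∀ (π : T' ⟶ M),
      GoodAt B A T' π → ∀ (l : T ⟶ T') (g : T ⟶ M), GoodAt A B T g → GoodAt B A T g → l ≫ π = g →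
      Set.range l ⊆ Set.range (maxLE (B.comap π) (A.comap π)).ι := by
    intro T T' A B hA π hπ l g hg hg' hl
    rintro _ ⟨x, rfl⟩
    rw [Scheme.Opens.range_ι]
    refine apply_mem_maxLE hπ.2 (isLocPrincipal_comap hA _) hπ.1 l ?_ ?_ x
    · rw [← Scheme.IdealSheafData.comap_comp, hl]; exact hg'.2
    · rw [← Scheme.IdealSheafData.comap_comp, ← Scheme.IdealSheafData.comap_comp, hl]; exact hg.1
  have rA : Set.range lA ⊆ Set.range UB.ι := by
    rw [hUB]; exact land hA πB hπB.1 lA _ hgA.1 hgA.2 hlA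
  have rB : Set.range lB ⊆ Set.range UA.ι := by
    rw [hUA]; exact land hB πA hπA.1 lB _ hgB.1 hgB.2 hlB
  let φ := IsOpenImmersion.lift UB.ι lA rA
  let ψ := IsOpenImmersion.lift UA.ι lB rB
  have hφ : φ ≫ UB.ι = lA := IsOpenImmersion.lift_fac _ _ _
  have hψ : ψ ≫ UA.ι = lB := IsOpenImmersion.lift_fac _ _ _
  have hφψ : φ ≫ ψ = 𝟙 _ := by
    rw [← cancel_mono UA.ι, Category.assoc, hψ, Category.id_comp]
    refine (hπA.2 _ _ hgA.1).unique ?_ rfl
    rw [Category.assoc, hlB, ← Category.assoc, hφ, hlA]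
  have hψφ : ψ ≫ φ = 𝟙 _ := by
    rw [← cancel_mono UB.ι, Category.assoc, hφ, Category.id_comp]
    refine (hπB.2 _ _ hgB.1).unique ?_ rfl
    rw [Category.assoc, hlA, ← Category.assoc, hψ, hlB]
  haveI : IsIso φ := ⟨ψ, hφψ, hψφ⟩
  haveI : IsOpenImmersion lA := hφ ▸ inferInstance
  let iA : YA ⟶ pushout UA.ι lA := pushout.inl _ _
  let iB : YB ⟶ pushout UA.ι lA := pushout.inr _ _
  haveI : IsOpenImmersion iA :=
    inferInstanceAs (IsOpenImmersion (colimit.ι (span UA.ι lA) WalkingSpan.left))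
  haveI : IsOpenImmersion iB :=
    inferInstanceAs (IsOpenImmersion (colimit.ι (span UA.ι lA) WalkingSpan.right))
  have hglue : UA.ι ≫ iA = lA ≫ iB := pushout.condition
  let π : pushout UA.ι lA ⟶ M := pushout.desc πA πB hlA.symm
  have hiA : iA ≫ π = πA := pushout.inl_desc _ _ _
  have hiB : iB ≫ π = πB := pushout.inr_desc _ _ _
  have hcov : ∀ y : ↥(pushout UA.ι lA), y ∈ iA.opensRange ∨ y ∈ iB.opensRange := by
    intro y
    obtain ⟨j, z, rfl⟩ := Scheme.IsLocallyDirected.ι_jointly_surjective (span UA.ι lA) y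
    rcases j with _ | _ | _
    · refine Or.inl ⟨UA.ι z, ?_⟩
      have : colimit.ι (span UA.ι lA) none = UA.ι ≫ iA :=
        (colimit.w (span UA.ι lA) (WalkingSpan.Hom.fst)).symm
      rw [this]; rfl
    · exact Or.inl ⟨z, rfl⟩
    · exact Or.inr ⟨z, rfl⟩
  have overB : ∀ y ∈ maxLE (B.comap (iB ≫ π)) (A.comap (iB ≫ π)), iB y ∈ iA.opensRange := by
    intro y hy
    rw [hiB, ← hUB] at hy
    refine ⟨UA.ι (ψ ⟨y, hy⟩), ?_⟩
    show (ψ ≫ UA.ι ≫ iA) ⟨y, hy⟩ = _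
    have h2 : ψ ≫ lA = UB.ι := by rw [← hφ, reassoc_of% hψφ]
    rw [hglue, reassoc_of% h2]; rfl
  have overA : ∀ y ∈ maxLE (A.comap (iA ≫ π)) (B.comap (iA ≫ π)), iA y ∈ iB.opensRange := by
    intro y hy
    rw [hiA, ← hUA] at hy
    refine ⟨lA ⟨y, hy⟩, ?_⟩
    show (lA ≫ iB) ⟨y, hy⟩ = _
    rw [← hglue]; rfl
  have gA : IsRep (GoodAt A B) (iA ≫ π) := hiA ▸ hπA
  have gB : IsRep (GoodAt B A) (iB ≫ π) := hiB ▸ hπB
  have hu : ∀ {W : Scheme.{u}} (h h' : W ⟶ pushout UA.ι lA),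
      BlowUp.IsEffCartierIdeal ((A ⊔ B).comap (h ≫ π)) → h ≫ π = h' ≫ π → h = h' := by
    intro W h h' he e
    have he' : BlowUp.IsEffCartierIdeal ((B ⊔ A).comap (h ≫ π)) := by rw [sup_comm]; exact he
    refine Scheme.hom_ext_of_forall _ _ fun x => ?_
    have main : ∀ {A B : M.IdealSheafData} {T : Scheme.{u}} (i : T ⟶ pushout UA.ι lA) [IsOpenImmersion i]
        (V : W.Opens), GoodAt A B V.toScheme (V.ι ≫ h ≫ π) → IsRep (GoodAt A B) (i ≫ π) →
        (∀ (k : W ⟶ pushout UA.ι lA) (z : W), z ∈ V → k ≫ π = h ≫ π → k z ∈ i.opensRange) →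
        V.ι ≫ h = V.ι ≫ h' := by
      intro A B T i _ V hV hi hr
      obtain ⟨k, hk⟩ := exists_factor_openImmersion i h V fun z hz => hr h z hz rfl
      obtain ⟨k', hk'⟩ := exists_factor_openImmersion i h' V fun z hz => hr h' z hz e.symm
      rw [← hk, ← hk', (hi.2 _ _ hV).unique (show k ≫ i ≫ π = _ by rw [reassoc_of% hk])
        (show k' ≫ i ≫ π = _ by rw [reassoc_of% hk', e])]
    rcases hcov (h x) with hx | hx
    · exact ⟨_, hx, main iA _ (goodAt_near_of_mem iA π gA.1 h he) gA fun k z hz hk =>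
        mem_range_of_goodAt hA iA iB π hcov gB.1 overB k _ z hz
          (by rw [hk]; exact goodAt_near_of_mem iA π gA.1 h he)⟩
    · exact ⟨_, hx, main iB _ (goodAt_near_of_mem iB π gB.1 h he') gB fun k z hz hk =>
        mem_range_of_goodAt hB iB iA π (fun y => (hcov y).symm) gA.1 overA k _ z hz
          (by rw [hk]; exact goodAt_near_of_mem iB π gB.1 h he')⟩
  refine ⟨_, π, YA, YB, iA, iB, inferInstance, inferInstance, hcov, gA, gB, ?_, fun Z g hg => ?_⟩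
  · refine isEffCartier_of_local fun y => ?_
    have main : ∀ {T : Scheme.{u}} (i : T ⟶ pushout UA.ι lA) [IsOpenImmersion i],
        BlowUp.IsEffCartierIdeal ((A ⊔ B).comap (i ≫ π)) →
        BlowUp.IsEffCartierIdeal (((A ⊔ B).comap π).comap i.opensRange.ι) := by
      intro T i _ hi
      rw [← i.isoOpensRange_inv_comp, Scheme.IdealSheafData.comap_comp, ← Scheme.IdealSheafData.comap_comp _ i]
      exact isEffCartier_comap_isOpenImmersion hi _
    rcases hcov y with hy | hy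
    · exact ⟨_, hy, main iA (eff_sup_of_goodAt gA.1)⟩
    · exact ⟨_, hy, main iB (by rw [sup_comm]; exact eff_sup_of_goodAt gB.1)⟩
  · have hex : ∀ x : Z, ∃ (V : Z.Opens), x ∈ V ∧ ∃ l : V.toScheme ⟶ pushout UA.ι lA, l ≫ π = V.ι ≫ g := by
      intro x
      obtain ⟨V, hV, h | h⟩ := exists_good_near hA hB hg x
      · obtain ⟨l, hl, -⟩ := gA.2 _ _ h
        exact ⟨V, hV, l ≫ iA, by rw [Category.assoc, hl]⟩
      · obtain ⟨l, hl, -⟩ := gB.2 _ _ h
        exact ⟨V, hV, l ≫ iB, by rw [Category.assoc, hl]⟩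
    choose V hV l hl using hex
    let 𝒰 := Z.openCoverOfIsOpenCover V (top_unique fun x _ => Opens.mem_iSup.mpr ⟨x, hV x⟩)
    have compat : ∀ i j, pullback.fst (𝒰.f i) (𝒰.f j) ≫ l i = pullback.snd (𝒰.f i) (𝒰.f j) ≫ l j := fun i j => by
      have e1 : (pullback.fst (𝒰.f i) (𝒰.f j) ≫ l i) ≫ π = (pullback.fst (𝒰.f i) (𝒰.f j) ≫ 𝒰.f i) ≫ g :=
        (Category.assoc _ _ _).trans ((congrArg _ (hl i)).trans (Category.assoc _ _ _).symm)
      have e2 : (pullback.snd (𝒰.f i) (𝒰.f j) ≫ l j) ≫ π = (pullback.snd (𝒰.f i) (𝒰.f j) ≫ 𝒰.f j) ≫ g :=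
        (Category.assoc _ _ _).trans ((congrArg _ (hl j)).trans (Category.assoc _ _ _).symm)
      refine hu _ _ ?_ ?_
      · rw [e1, Scheme.IdealSheafData.comap_comp]
        exact isEffCartier_comap_isOpenImmersion hg _
      · rw [e1, e2, pullback.condition]
    have hh : Scheme.Cover.glueMorphisms 𝒰 l compat ≫ π = g :=
      Scheme.Cover.hom_ext 𝒰 _ _ fun i => by
        exact (Category.assoc _ _ _).symm.trans
          ((congrArg (· ≫ π) (Scheme.Cover.ι_glueMorphisms 𝒰 l compat i)).trans (hl i))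
    refine ⟨_, hh, fun h' hh' => ?_⟩
    exact (hu _ h' (by rw [hh]; exact hg) (hh.trans hh'.symm)).symm

end Groth.Agent.MP99
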