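import Groth.Agent.MP99.Rep
import Groth.Agent.MP99.Ops

set_option autoImplicit false

universe u

open CategoryTheory CategoryTheory.Limits AlgebraicGeometry TopologicalSpace

namespace Groth.Agent.MP99

variable {X M : Scheme.{u}}

theorem exists_appTop_eq {Y : Scheme.{u}} [IsAffine M] (α : Γ(M, ⊤) ⟶ Γ(Y, ⊤)) :
    ∃ f : Y ⟶ M, f.appTop = α := by
  refine ⟨Y.toSpecΓ ≫ Spec.map α ≫ M.isoSpec.inv, ?_⟩
  have h : (Y.toSpecΓ ≫ Spec.map α ≫ M.isoSpec.inv) ≫ M.toSpecΓ = Y.toSpecΓ ≫ Spec.map α := by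
    rw [Category.assoc, Category.assoc, Scheme.isoSpec_inv_toSpecΓ, Category.comp_id]
  generalize (Y.toSpecΓ ≫ Spec.map α ≫ M.isoSpec.inv) = f at h ⊢
  have h2 := congrArg Scheme.Hom.appTop h
  simp only [Scheme.Hom.comp_appTop, Scheme.toSpecΓ_appTop] at h2
  rw [← cancel_epi (Scheme.ΓSpecIso Γ(M, ⊤)).hom]
  refine h2.trans ?_
  simp [Scheme.ΓSpecIso_naturality]

theorem mem_nonZeroDivisors_of_span {I : X.IdealSheafData} (hI : BlowUp.IsEffCartierIdeal I)
    {U : X.affineOpens} {f : Γ(X, U.1)} (hf : I.ideal U = Ideal.span {f}) :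
    f ∈ nonZeroDivisors Γ(X, U.1) := by
  haveI := dominant_of_isEffCartier hI
  haveI := isAffineHom_interior (isLocPrincipal_of_isEffCartier hI)
  exact (injective_app_iff I hf).mp ((ModPair.interior I).ι.app_injective U.1)

section RingChart

variable {R S : Type u} [CommRing R] [CommRing S]

/-- The chart ring `R[b/a]`. -/
noncomputable abbrev chartRing (a b : R) : Subalgebra R (Localization.Away a) :=
  BlowUp.affineAlgebra R (Ideal.span {a, b}) a

theorem chartRing_nzd (a b : R) : algebraMap R (chartRing a b) a ∈ nonZeroDivisors (chartRing a b) := by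
  rw [mem_nonZeroDivisors_iff_right]
  intro y hy
  have hu : IsUnit (algebraMap R (Localization.Away a) a) := IsLocalization.Away.algebraMap_isUnit a
  have := congrArg Subtype.val hy
  exact Subtype.ext (hu.mul_left_eq_zero.mp this)

theorem chartRing_div (a b : R) :
    ∃ c : chartRing a b, algebraMap R (chartRing a b) b = c * algebraMap R (chartRing a b) a := by
  refine ⟨⟨IsLocalization.mk' (Localization.Away a) b ⟨a, Submonoid.mem_powers a⟩,
    Algebra.subset_adjoin ⟨b, Ideal.subset_span (by simp), rfl⟩⟩, Subtype.ext ?_⟩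
  exact (IsLocalization.mk'_spec (Localization.Away a) b ⟨a, Submonoid.mem_powers a⟩).symm

theorem chartRing_hom_ext {a b : R} {φ : R →+* S} (hnz : φ a ∈ nonZeroDivisors S)
    {ψ ψ' : chartRing a b →+* S} (h : ψ.comp (algebraMap R _) = φ)
    (h' : ψ'.comp (algebraMap R _) = φ) : ψ = ψ' := by
  refine RingHom.ext fun y => ?_
  obtain ⟨⟨r, ⟨_, n, rfl⟩⟩, hr⟩ := IsLocalization.surj (Submonoid.powers a) (y : Localization.Away a)
  have e : y * algebraMap R (chartRing a b) (a ^ n) = algebraMap R (chartRing a b) r := Subtype.ext hr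
  have e1 := congrArg ψ e
  have e2 := congrArg ψ' e
  rw [map_mul] at e1 e2
  simp only [← RingHom.comp_apply, h, h'] at e1 e2
  rw [← e2] at e1
  exact (mul_cancel_right_mem_nonZeroDivisors (by rw [map_pow]; exact pow_mem hnz n)).mp e1

theorem chartRing_exists_lift {a b : R} (φ : R →+* S) (hnz : φ a ∈ nonZeroDivisors S)
    (c : S) (hc : φ b = c * φ a) : ∃ ψ : chartRing a b →+* S, ψ.comp (algebraMap R _) = φ := by
  let T := Localization.Away (φ a)
  have hu : IsUnit ((algebraMap S T).comp φ a) := IsLocalization.Away.algebraMap_isUnit (φ a)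
  let L : Localization.Away a →+* T := IsLocalization.Away.lift a hu
  have hL : ∀ r, L (algebraMap R _ r) = algebraMap S T (φ r) := IsLocalization.Away.lift_eq a hu
  have hinj : Function.Injective (algebraMap S T) :=
    IsLocalization.injective (M := Submonoid.powers (φ a)) T (Submonoid.powers_le.mpr hnz)
  have hmem : ∀ y : chartRing a b, L y ∈ (algebraMap S T).range := by
    rintro ⟨y, hy⟩
    refine Algebra.adjoin_induction (p := fun y _ => L y ∈ (algebraMap S T).range) ?_ ?_ ?_ ?_ hy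
    · rintro _ ⟨x, hx, rfl⟩
      obtain ⟨r, s, rfl⟩ := Ideal.mem_span_pair.mp hx
      refine ⟨φ r + φ s * c, hu.mul_left_injective ?_⟩
      show algebraMap S T (φ r + φ s * c) * algebraMap S T (φ a) = L _ * algebraMap S T (φ a)
      rw [← hL a, ← map_mul L, IsLocalization.mk'_spec, hL, hL, ← map_mul, map_add, map_mul φ, map_mul φ, hc]
      congr 1
      ring
    · intro r; exact ⟨φ r, (hL r).symm⟩
    · intro x y _ _ hx hy; rw [map_add]; exact add_mem hx hy
    · intro x y _ _ hx hy; rw [map_mul]; exact mul_mem hx hy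
  choose g hg using hmem
  let ψ : chartRing a b →+* S :=
    { toFun := g
      map_one' := hinj (by rw [hg, map_one]; exact map_one L)
      map_mul' := fun x y => hinj (by rw [hg, map_mul, hg, hg]; exact map_mul L _ _)
      map_zero' := hinj (by rw [hg, map_zero]; exact map_zero L)
      map_add' := fun x y => hinj (by rw [hg, map_add, hg, hg]; exact map_add L _ _) }
  exact ⟨ψ, RingHom.ext fun r => hinj ((hg _).trans (hL r))⟩

end RingChart

/-- `A` generates `A ⊔ B` and is an effective Cartier divisor after pullback. -/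
def GoodAt (A B : M.IdealSheafData) : Pred M := fun _ g =>
  B.comap g ≤ A.comap g ∧ BlowUp.IsEffCartierIdeal (A.comap g)

theorem goodAt_isLocal (A B : M.IdealSheafData) : (GoodAt A B).IsLocal where
  res j _ g h := by
    refine ⟨?_, ?_⟩
    · simp only [Scheme.IdealSheafData.comap_comp]; exact Scheme.IdealSheafData.comap_mono j h.1
    · rw [Scheme.IdealSheafData.comap_comp]; exact isEffCartier_comap_isOpenImmersion h.2 j
  glue {Z} g h := by
    refine ⟨le_of_local fun x => ?_, isEffCartier_of_local fun x => ?_⟩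
    · obtain ⟨W, hx, hW, -⟩ := h x
      obtain ⟨V, hV, hVW⟩ := exists_affine_le x hx
      refine ⟨V, hV, ?_⟩
      have := Scheme.IdealSheafData.comap_mono (Z.homOfLE hVW) hW
      simp only [← Scheme.IdealSheafData.comap_comp, Z.homOfLE_ι_assoc] at this
      have h2 := this ⟨⊤, @isAffineOpen_top _ V.2⟩
      simp only [Scheme.IdealSheafData.comap_comp _ V.1.ι, Scheme.IdealSheafData.ideal_comap_of_isOpenImmersion,
        Scheme.Opens.ι_appIso, Iso.refl_inv] at h2
      erw [Ideal.comap_id, Ideal.comap_id] at h2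
      have e : (⟨V.1.ι ''ᵁ ⊤, (@isAffineOpen_top _ V.2).image_of_isOpenImmersion _⟩ : Z.affineOpens) = V :=
        Subtype.ext V.1.ι_image_top
      exact e ▸ h2
    · obtain ⟨W, hx, -, hW⟩ := h x
      exact ⟨W, hx, by rw [← Scheme.IdealSheafData.comap_comp]; exact hW⟩

theorem goodAt_iff_of_isAffine [IsAffine M] {Z : Scheme.{u}} [IsAffine Z] {A B : M.IdealSheafData}
    {a b : Γ(M, ⊤)}
    (ha : A.ideal ⟨⊤, isAffineOpen_top M⟩ = Ideal.span {a})
    (hb : B.ideal ⟨⊤, isAffineOpen_top M⟩ = Ideal.span {b}) (g : Z ⟶ M) :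
    GoodAt A B Z g ↔ g.appTop.hom a ∈ nonZeroDivisors Γ(Z, ⊤) ∧
      ∃ c, g.appTop.hom b = c * g.appTop.hom a := by
  have eA : (A.comap g).ideal ⟨⊤, isAffineOpen_top Z⟩ = Ideal.span {g.appTop.hom a} := by
    rw [ideal_comap_top_of_isAffine, ha, Ideal.map_span, Set.image_singleton]
  have eB : (B.comap g).ideal ⟨⊤, isAffineOpen_top Z⟩ = Ideal.span {g.appTop.hom b} := by
    rw [ideal_comap_top_of_isAffine, hb, Ideal.map_span, Set.image_singleton]
  constructor
  · rintro ⟨h1, h2⟩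
    refine ⟨mem_nonZeroDivisors_of_span h2 eA, ?_⟩
    have := h1 ⟨⊤, isAffineOpen_top Z⟩
    rw [eA, eB, Ideal.span_singleton_le_iff_mem, Ideal.mem_span_singleton'] at this
    obtain ⟨c, hc⟩ := this
    exact ⟨c, hc.symm⟩
  · rintro ⟨h1, c, hc⟩
    refine ⟨Scheme.IdealSheafData.le_of_isAffine ?_, fun x => ⟨⟨⊤, isAffineOpen_top Z⟩, trivial, _, h1, eA⟩⟩
    rw [eA, eB, Ideal.span_singleton_le_iff_mem, Ideal.mem_span_singleton']
    exact ⟨c, hc.symm⟩

theorem exists_rep_affine [IsAffine M] (A B : M.IdealSheafData) (a b : Γ(M, ⊤))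
    (ha : A.ideal ⟨⊤, isAffineOpen_top M⟩ = Ideal.span {a})
    (hb : B.ideal ⟨⊤, isAffineOpen_top M⟩ = Ideal.span {b}) :
    ∃ π : Spec (CommRingCat.of (chartRing a b)) ⟶ M,
      π.appTop = CommRingCat.ofHom (algebraMap Γ(M, ⊤) (chartRing a b)) ≫ (Scheme.ΓSpecIso _).inv ∧
      IsRep (GoodAt A B) π := by
  let R1 : CommRingCat.{u} := CommRingCat.of (chartRing a b)
  let α : Γ(M, ⊤) ⟶ Γ(Spec R1, ⊤) :=
    CommRingCat.ofHom (algebraMap Γ(M, ⊤) (chartRing a b)) ≫ (Scheme.ΓSpecIso R1).inv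
  obtain ⟨π, hπ⟩ := exists_appTop_eq (Y := Spec R1) α
  have key : ∀ (Z : Scheme.{u}) [IsAffine Z] (g : Z ⟶ M),
      GoodAt A B Z g ↔ g.appTop.hom a ∈ nonZeroDivisors Γ(Z, ⊤) ∧
        ∃ c, g.appTop.hom b = c * g.appTop.hom a := fun Z _ g => goodAt_iff_of_isAffine ha hb g
  let e := (Scheme.ΓSpecIso R1).commRingCatIsoToRingEquiv
  have hgood : GoodAt A B (Spec R1) π := by
    rw [key, hπ]
    obtain ⟨c, hc⟩ := chartRing_div a b
    refine ⟨?_, e.symm c, ?_⟩
    · rw [mem_nonZeroDivisors_iff_right]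
      intro y hy
      apply e.injective
      rw [map_zero]
      refine mem_nonZeroDivisors_iff_right.mp (chartRing_nzd a b) _ ?_
      have := congrArg e hy
      rw [map_mul, map_zero] at this
      rw [← this]
      congr 1
      exact (e.apply_symm_apply _).symm
    · show e.symm (algebraMap _ (chartRing a b) b) = e.symm c * e.symm (algebraMap _ (chartRing a b) a)
      rw [hc, map_mul]
  have huniq : ∀ (Z : Scheme.{u}) [IsAffine Z] (g : Z ⟶ M), GoodAt A B Z g →
      ∃! h : Z ⟶ Spec R1, h ≫ π = g := by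
    intro Z _ g hg
    obtain ⟨hnz, c, hc⟩ := (key Z g).mp hg
    have eq1 : ∀ h : Z ⟶ Spec R1, (h.appTop.hom.comp e.symm.toRingHom).comp (algebraMap _ (chartRing a b)) =
        (h ≫ π).appTop.hom := by
      intro h; rw [Scheme.Hom.comp_appTop, hπ]; rfl
    obtain ⟨ψ, hψ⟩ := chartRing_exists_lift g.appTop.hom hnz c hc
    obtain ⟨h, hh⟩ := exists_appTop_eq (M := Spec R1) (Y := Z)
      ((Scheme.ΓSpecIso R1).hom ≫ CommRingCat.ofHom ψ)
    refine ⟨h, ext_of_isAffine (CommRingCat.hom_ext ?_), fun h' hh' => ?_⟩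
    · rw [← eq1, hh, ← hψ]
      ext r
      show ψ (e (e.symm _)) = ψ _
      rw [e.apply_symm_apply]
    · refine ext_of_isAffine (CommRingCat.hom_ext ?_)
      have k : h'.appTop.hom.comp e.symm.toRingHom = ψ :=
        chartRing_hom_ext hnz (by rw [eq1, hh']) hψ
      rw [hh]
      ext y
      show h'.appTop.hom y = ψ (e y)
      rw [← k]
      show h'.appTop.hom y = h'.appTop.hom (e.symm (e y))
      rw [e.symm_apply_apply]
  refine ⟨π, hπ, hgood, fun Z g hg => ?_⟩
  have hu : ∀ {W : Scheme.{u}} (h h' : W ⟶ Spec R1), GoodAt A B W (h ≫ π) → h ≫ π = h' ≫ π → h = h' := by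
    intro W h h' hW e'
    refine Scheme.Cover.hom_ext W.affineCover _ _ fun i => ?_
    refine (huniq (W.affineCover.X i) (W.affineCover.f i ≫ h ≫ π) ((goodAt_isLocal A B).res _ _ hW)).unique
      (Category.assoc _ _ _) ?_
    rw [Category.assoc, e']
  have hex : ∀ i, ∃ l : Z.affineCover.X i ⟶ Spec R1, l ≫ π = Z.affineCover.f i ≫ g := fun i =>
    (huniq (Z.affineCover.X i) _ ((goodAt_isLocal A B).res (Z.affineCover.f i) g hg)).exists
  choose l hl using hex
  have compat : ∀ i j, pullback.fst (Z.affineCover.f i) (Z.affineCover.f j) ≫ l i =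
      pullback.snd (Z.affineCover.f i) (Z.affineCover.f j) ≫ l j := fun i j => by
    refine hu _ _ ?_ ?_
    · rw [Category.assoc, hl, ← Category.assoc]
      exact (goodAt_isLocal A B).res _ _ hg
    · rw [Category.assoc, Category.assoc, hl, hl, pullback.condition_assoc]
  have hh : Scheme.Cover.glueMorphisms Z.affineCover l compat ≫ π = g :=
    Scheme.Cover.hom_ext Z.affineCover _ _ fun i => by
      rw [← Category.assoc, Scheme.Cover.ι_glueMorphisms]; exact hl i
  refine ⟨_, hh, fun h' hh' => ?_⟩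
  exact (hu _ h' (by rw [hh]; exact hg) (hh.trans hh'.symm)).symm

theorem isRep_comp_iso {M' Y : Scheme.{u}} {P : Pred M} (e : M' ≅ M) (π : Y ⟶ M')
    (h : IsRep (P.pull e.hom) π) : IsRep P (π ≫ e.hom) := by
  refine ⟨h.1, fun Z g hg => ?_⟩
  obtain ⟨l, hl, hu⟩ := h.2 Z (g ≫ e.inv) (by simpa [Pred.pull] using hg)
  refine ⟨l, ?_, fun m hm => hu m ?_⟩
  · simp only at hl ⊢; rw [← Category.assoc, hl]; simp
  · simp only at hm ⊢; rw [← hm]; simp

theorem exists_rep_goodAt (A B : M.IdealSheafData) (hA : IsLocPrincipal A) (hB : IsLocPrincipal B) :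
    ∃ (Y : Scheme.{u}) (π : Y ⟶ M), IsRep (GoodAt A B) π := by
  refine Rep.exists_isRep (goodAt_isLocal A B) fun x => ?_
  obtain ⟨U, hU, a0, ha0⟩ := hA x
  obtain ⟨V, hV, hVU, b, hb⟩ := exists_principal_le hB x hU
  have ha := ideal_restrict A (show V ≤ U from hVU) ha0
  refine ⟨⟨V.1, ?_⟩, hV⟩
  haveI : IsAffine V.1.toScheme := V.2
  have tr : ∀ (I : M.IdealSheafData) (s : Γ(M, V.1)), I.ideal V = Ideal.span {s} →
      ∃ s', (I.comap V.1.ι).ideal ⟨⊤, isAffineOpen_top V.1.toScheme⟩ = Ideal.span {s'} := by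
    intro I s hs
    refine ⟨(V.1.ι.appLE V.1 ⊤ V.1.ι_preimage_self.ge).hom s, ?_⟩
    rw [ideal_comap I V.1.ι V ⟨⊤, isAffineOpen_top _⟩ V.1.ι_preimage_self.ge, hs, Ideal.map_span, Set.image_singleton]
  obtain ⟨a', ha'⟩ := tr A _ ha
  obtain ⟨b', hb'⟩ := tr B _ hb
  obtain ⟨π, -, hπ⟩ := exists_rep_affine _ _ a' b' ha' hb'
  refine ⟨_, π, ?_, fun Z g hg => hπ.2 Z g ?_⟩
  · show GoodAt A B _ (π ≫ V.1.ι)
    simpa [GoodAt, Scheme.IdealSheafData.comap_comp] using hπ.1
  · simpa [GoodAt, Pred.pull, Scheme.IdealSheafData.comap_comp] using hg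

end Groth.Agent.MP99
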