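import Groth.Agent.MP99.Valuation
import Groth.Agent.MP99.Image

set_option autoImplicit false

universe u

open CategoryTheory CategoryTheory.Limits AlgebraicGeometry TopologicalSpace

namespace Groth.Agent.MP99

variable {S V : Scheme.{u}}

/-- The scheme-theoretic closure of a closed subscheme of an open with quasi-compact inclusion. -/
theorem closure_isIso (U : S.Opens) [QuasiCompact U.ι] (g : V ⟶ U.toScheme) [IsClosedImmersion g] :
    ∃ e : V ≅ ((g ≫ U.ι).imageι ⁻¹ᵁ U).toScheme,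
      e.hom ≫ ((g ≫ U.ι).imageι ⁻¹ᵁ U).ι = (g ≫ U.ι).toImage := by
  set h := g ≫ U.ι with hh
  haveI : QuasiCompact h := by rw [hh]; infer_instance
  let l : V ⟶ (h.imageι ⁻¹ᵁ U).toScheme :=
    IsOpenImmersion.lift (h.imageι ⁻¹ᵁ U).ι h.toImage (by
      rw [Scheme.Opens.range_ι]
      rintro _ ⟨x, rfl⟩
      show (h.toImage ≫ h.imageι) x ∈ U
      rw [Scheme.Hom.toImage_imageι]
      exact (g x).2)
  have hl : l ≫ (h.imageι ⁻¹ᵁ U).ι = h.toImage := IsOpenImmersion.lift_fac _ _ _
  have hg : l ≫ (h.imageι ∣_ U) = g := by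
    rw [← cancel_mono U.ι, Category.assoc, morphismRestrict_ι, reassoc_of% hl, Scheme.Hom.toImage_imageι]
  haveI : IsClosedImmersion l := by
    haveI : IsClosedImmersion (l ≫ (h.imageι ∣_ U)) := hg.symm ▸ inferInstance
    exact IsClosedImmersion.of_comp l (h.imageι ∣_ U)
  haveI := dominant_toImage h
  haveI : QuasiCompact h.toImage := inferInstance
  have hsq : IsPullback (𝟙 V) l h.toImage (h.imageι ⁻¹ᵁ U).ι :=
    IsPullback.of_isLimit' ⟨by rw [Category.id_comp, hl]⟩ (PullbackCone.IsLimit.mk _ (fun s => s.fst)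
      (fun s => Category.comp_id _) (fun s => by
        rw [← cancel_mono (h.imageι ⁻¹ᵁ U).ι, Category.assoc, hl, s.condition])
      (fun s m h1 _ => by simpa using h1))
  haveI := IsSchemeTheoreticallyDominant.of_isPullback hsq
  haveI : IsIso l := IsClosedImmersion.isIso_iff_ker_eq_bot.mpr (Scheme.Hom.ker_eq_bot l)
  exact ⟨asIso l, hl⟩

theorem closure_props {I : S.IdealSheafData} (hI : BlowUp.IsEffCartierIdeal I)
    (g : V ⟶ (ModPair.interior I : Scheme.{u})) [IsClosedImmersion g] :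
    BlowUp.IsEffCartierIdeal (I.comap (g ≫ (ModPair.interior I).ι).imageι) ∧
      IsOpenImmersion (g ≫ (ModPair.interior I).ι).toImage ∧
      Set.range (g ≫ (ModPair.interior I).ι).toImage.base =
        (g ≫ (ModPair.interior I).ι).imageι.base ⁻¹' (ModPair.interior I : Set S) := by
  haveI := isAffineHom_interior (isLocPrincipal_of_isEffCartier hI)
  obtain ⟨e, he⟩ := closure_isIso (ModPair.interior I) g
  haveI := dominant_toImage (g ≫ (ModPair.interior I).ι)
  haveI : IsSchemeTheoreticallyDominant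
      ((g ≫ (ModPair.interior I).ι).imageι ⁻¹ᵁ ModPair.interior I).ι :=
    ker_le_of_factor (g ≫ (ModPair.interior I).ι).toImage _ e.hom he
  refine ⟨isEffCartier_comap (isLocPrincipal_of_isEffCartier hI) _ le_rfl, he ▸ inferInstance, ?_⟩
  show Set.range (g ≫ (ModPair.interior I).ι).toImage = _
  rw [← he]
  show Set.range (fun x => ((g ≫ (ModPair.interior I).ι).imageι ⁻¹ᵁ ModPair.interior I).ι (e.hom x)) = _
  refine Set.ext fun y => ⟨?_, fun hy => ?_⟩
  · rintro ⟨x, rfl⟩; exact (e.hom x).2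
  · refine ⟨e.inv ⟨y, hy⟩, ?_⟩
    have h2 : (e.inv ≫ e.hom) ⟨y, hy⟩ = ⟨y, hy⟩ := by rw [e.inv_hom_id]; rfl
    exact congrArg Subtype.val h2

theorem closure_covers {I : S.IdealSheafData} (hI : BlowUp.IsEffCartierIdeal I) {ι : Type u}
    (V : ι → Scheme.{u}) (g : ∀ i, V i ⟶ (ModPair.interior I : Scheme.{u}))
    (hsurj : ∀ u : (ModPair.interior I : Scheme.{u}), ∃ (i : ι) (v : V i), (g i).base v = u) (s : S) :
    ∃ (i : ι) (v : (g i ≫ (ModPair.interior I).ι).image),
      (g i ≫ (ModPair.interior I).ι).imageι.base v = s := by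
  obtain ⟨u, hu, hus⟩ := exists_specializes_interior hI s
  obtain ⟨i, v, hv⟩ := hsurj ⟨u, hu⟩
  obtain ⟨w, hw⟩ := hus.mem_closed
    (IsClosedImmersion.base_closed (f := (g i ≫ (ModPair.interior I).ι).imageι)).isClosed_range
    (⟨(g i ≫ (ModPair.interior I).ι).toImage v, by
      show ((g i ≫ (ModPair.interior I).ι).toImage ≫ (g i ≫ (ModPair.interior I).ι).imageι) v = u
      rw [Scheme.Hom.toImage_imageι]
      exact congrArg Subtype.val hv⟩ : u ∈ Set.range (g i ≫ (ModPair.interior I).ι).imageι)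
  exact ⟨i, w, hw⟩

end Groth.Agent.MP99
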