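import Groth.Agent.MP99.Coprod
import Groth.Agent.MP99.Frac
import Mathlib.CategoryTheory.MorphismProperty.Limits

set_option autoImplicit false

universe u

open CategoryTheory CategoryTheory.Limits AlgebraicGeometry TopologicalSpace

namespace Groth.Agent.MP99

open ModPair

theorem admBlowup_of_isIso {P Q : Pair.{u}} (f : P ⟶ Q) [IsIso f] : Pair.admBlowup f := by
  haveI : IsIso f.hom := inferInstanceAs (IsIso (Pair.forget.{u}.map f))
  refine ⟨le_antisymm f.cond ?_, show IsProper f.hom from inferInstance,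
    show IsIso (f.hom ∣_ interior Q.mod) from inferInstance⟩
  refine le_trans (Scheme.IdealSheafData.comap_mono f.hom (inv f).cond) (le_of_eq ?_)
  show (P.mod.comap (inv f).hom).comap f.hom = P.mod
  rw [← Scheme.IdealSheafData.comap_comp]
  have : f.hom ≫ (inv f).hom = 𝟙 _ := congrArg Pair.Hom.hom (IsIso.hom_inv_id f)
  rw [this, Scheme.IdealSheafData.comap_id]

theorem admBlowup_respectsIso : (Pair.admBlowup.{u}).RespectsIso :=
  MorphismProperty.RespectsIso.mk _
    (fun e f hf => admBlowup_comp _ _ (admBlowup_of_isIso e.hom) hf)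
    (fun e f hf => admBlowup_comp _ _ hf (admBlowup_of_isIso e.hom))

namespace PairCoprod

variable {σ : Type u} {F G : σ → Pair.{u}} (f : ∀ i, F i ⟶ G i)

noncomputable def map : obj F ⟶ obj G :=
  (isColimit F).desc (Cofan.mk (obj G) fun i => f i ≫ ι G i)

theorem ι_map (i : σ) : ι F i ≫ map f = f i ≫ ι G i :=
  (isColimit F).fac (Cofan.mk (obj G) fun i => f i ≫ ι G i) ⟨i⟩

theorem disjoint_range {F : σ → Pair.{u}} {a b : σ} (h : a ≠ b) :
    Disjoint (Set.range (Sigma.ι (fun i => (F i).total) a))
      (Set.range (Sigma.ι (fun i => (F i).total) b)) := by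
  have := disjoint_opensRange_sigmaι (fun i => (F i).total) _ _ h
  rw [disjoint_iff] at this ⊢
  exact congrArg (fun W : Opens ↥(∐ fun i => (F i).total) => (W : Set ↥(∐ fun i => (F i).total))) this

theorem isPullback (i : σ) :
    IsPullback (f i).hom (Sigma.ι (fun i => (F i).total) i) (Sigma.ι (fun i => (G i).total) i)
      (map f).hom := by
  have hcomm : ∀ k, Sigma.ι (fun i => (F i).total) k ≫ (map f).hom = (f k).hom ≫ Sigma.ι (fun i => (G i).total) k :=
    fun k => congrArg Pair.Hom.hom (ι_map f k)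
  refine IsOpenImmersion.isPullback _ _ _ _ (hcomm i) (le_antisymm ?_ ?_)
  · rintro x hx
    obtain ⟨k, y, rfl⟩ := cover F x
    by_cases h : k = i
    · subst h; exact ⟨y, rfl⟩
    · exfalso
      refine Set.disjoint_left.mp (disjoint_range (F := G) h) ⟨(f k).hom y, ?_⟩ hx
      exact (congrArg (fun φ : (F k).total ⟶ _ => φ.base y) (hcomm k)).symm
  · rintro _ ⟨y, rfl⟩
    exact ⟨(f i).hom y, (congrArg (fun φ : (F i).total ⟶ _ => φ.base y) (hcomm i)).symm⟩

theorem admBlowup_map (hf : ∀ i, Pair.admBlowup (f i)) : Pair.admBlowup (map f) := by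
  have hmod : ∀ (F : σ → Pair.{u}) (i : σ),
      (obj F).mod.comap (Sigma.ι (fun i => (F i).total) i) = (F i).mod :=
    fun F i => (exists_mod F).choose_spec i
  have hmin : ∀ i, (obj F).mod.comap (Sigma.ι (fun i => (F i).total) i) =
      ((obj G).mod.comap (map f).hom).comap (Sigma.ι (fun i => (F i).total) i) := fun i => by
    refine (hmod F i).trans (Eq.trans ?_ (Scheme.IdealSheafData.comap_comp _ _ _))
    refine Eq.trans ?_ (congrArg (fun φ => (obj G).mod.comap φ) (isPullback f i).w)
    refine Eq.trans ?_ (Scheme.IdealSheafData.comap_comp _ _ _).symm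
    exact (hf i).1.trans (congrArg (fun K => Scheme.IdealSheafData.comap K (f i).hom) (hmod G i).symm)
  refine ⟨le_antisymm (le_of_comap_le _ (cover F) fun i => (hmin i).le)
    (le_of_comap_le _ (cover F) fun i => (hmin i).ge), ?_, ?_⟩
  · show IsProper (map f).hom
    refine IsZariskiLocalAtTarget.of_openCover (P := @IsProper) (sigmaOpenCover (fun i => (G i).total)) fun i => ?_
    show IsProper (pullback.snd (map f).hom (Sigma.ι (fun i => (G i).total) i))
    refine (MorphismProperty.cancel_left_of_respectsIso @IsProper (isPullback f i).flip.isoPullback.hom _).mp ?_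
    have := (hf i).2.1
    convert this using 1
    exact IsPullback.isoPullback_hom_snd _
  · show IsIso ((map f).hom ∣_ interior (obj G).mod)
    set U := interior (obj G).mod
    let R : σ → U.toScheme.Opens := fun i => U.ι ⁻¹ᵁ (Sigma.ι (fun i => (G i).total) i).opensRange
    refine (IsZariskiLocalAtTarget.iff_of_iSup_eq_top (P := MorphismProperty.isomorphisms Scheme.{u}) R ?_).mpr fun i => ?_
    · refine top_unique fun x _ => Opens.mem_iSup.mpr ?_
      obtain ⟨k, hk⟩ := cover G x.1
      exact ⟨k, hk⟩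
    · refine (MorphismProperty.arrow_mk_iso_iff _ (morphismRestrictRestrict (map f).hom U (R i))).mpr ?_
      set j := Sigma.ι (fun i => (G i).total) i with hj
      have hle : U.ι ''ᵁ R i ≤ j.opensRange := by rintro _ ⟨x, hx, rfl⟩; exact hx
      have hleU : U.ι ''ᵁ R i ≤ U := by rintro _ ⟨x, hx, rfl⟩; exact x.2
      let l : (U.ι ''ᵁ R i).toScheme ⟶ (G i).total :=
        IsOpenImmersion.lift j (U.ι ''ᵁ R i).ι (by rintro _ ⟨x, rfl⟩; exact hle x.2)
      have hA : IsPullback ((map f).hom ∣_ U.ι ''ᵁ R i) ((map f).hom ⁻¹ᵁ U.ι ''ᵁ R i).ι (l ≫ j) (map f).hom := by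
        rw [IsOpenImmersion.lift_fac]; exact isPullback_morphismRestrict _ _
      have hB := IsPullback.of_bot' hA (isPullback f i)
      let l' : (U.ι ''ᵁ R i).toScheme ⟶ (interior (G i).mod).toScheme :=
        IsOpenImmersion.lift (interior (G i).mod).ι l (by
          rintro _ ⟨x, rfl⟩
          refine Set.mem_of_eq_of_mem rfl ((Scheme.Opens.range_ι (interior (G i).mod)).ge ?_)
          rw [← hmod G i, interior_comap]
          show j.base (l.base x) ∈ U
          rw [← Scheme.Hom.comp_apply, IsOpenImmersion.lift_fac]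
          exact hleU x.2)
      have hl : l' ≫ (interior (G i).mod).ι = l := IsOpenImmersion.lift_fac _ _ _
      obtain ⟨q, hq⟩ : ∃ q, IsPullback ((map f).hom ∣_ U.ι ''ᵁ R i) q l (f i).hom := ⟨_, hB⟩
      rw [← hl] at hq
      exact MorphismProperty.of_isPullback (P := MorphismProperty.isomorphisms Scheme.{u})
        (IsPullback.of_bot' hq (isPullback_morphismRestrict (f i).hom (interior (G i).mod))).flip (hf i).2.2

theorem isStable : (Pair.admBlowup.{u}).IsStableUnderCoproductsOfShape σ := by
  haveI := admBlowup_respectsIso.{u}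
  refine MorphismProperty.IsStableUnderCoproductsOfShape.mk _ σ fun F G _ _ f hf => ?_
  refine (MorphismProperty.arrow_mk_iso_iff _ ?_).mpr (admBlowup_map f hf)
  refine Arrow.isoMk ((coproductIsCoproduct F).coconePointUniqueUpToIso (isColimit F))
    ((coproductIsCoproduct G).coconePointUniqueUpToIso (isColimit G)) ?_
  refine Sigma.hom_ext _ _ fun i => ?_
  have h1 := (coproductIsCoproduct F).comp_coconePointUniqueUpToIso_hom (isColimit F) ⟨i⟩
  have h2 := (coproductIsCoproduct G).comp_coconePointUniqueUpToIso_hom (isColimit G) ⟨i⟩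
  simp only [Cofan.mk_ι_app] at h1 h2
  show Sigma.ι F i ≫ _ ≫ map f = Sigma.ι F i ≫ Limits.Sigma.map f ≫ _
  refine ((Category.assoc _ _ _).symm.trans (congrArg (· ≫ map f) h1)).trans ((ι_map f i).trans ?_)
  exact (((Category.assoc _ _ _).symm.trans (congrArg (· ≫ _) (Sigma.ι_map f i))).trans
    ((Category.assoc _ _ _).trans (congrArg (f i ≫ ·) h2))).symm

end PairCoprod

end Groth.Agent.MP99
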