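import Groth.Agent.MP99.Closure
import Groth.Agent.MP99.Coprod

set_option autoImplicit false

universe u

open CategoryTheory CategoryTheory.Limits AlgebraicGeometry TopologicalSpace

namespace Groth.Agent.MP99

variable {X : Scheme.{u}}

theorem range_imageι {Y : Scheme.{u}} (f : Y ⟶ X) [QuasiCompact f] :
    Set.range f.imageι = closure (Set.range f) := by
  rw [← f.support_ker]
  exact f.ker.range_subschemeι

theorem quasiCompact_of_decomposition {U₀ U₁ U : X.Opens} [QuasiCompact U.ι]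
    (hU : U₀ ⊔ U₁ = U) (hd : Disjoint U₀ U₁) : QuasiCompact U₀.ι := by
  have hle : U₀ ≤ U := hU ▸ le_sup_left
  have hr : Set.range (X.homOfLE hle) = (U.ι ⁻¹ᵁ U₁ : Set U.toScheme)ᶜ := by
    ext x
    have h2 : x.1 ∈ U₀ ∨ x.1 ∈ U₁ := hU.ge x.2
    refine ⟨?_, fun hx => ?_⟩
    · rintro ⟨y, rfl⟩ hy
      have hy' : ((X.homOfLE hle) y).1 ∈ U₁ := hy
      have e : ((X.homOfLE hle) y).1 = y.1 := congrArg (fun φ : U₀.toScheme ⟶ X => φ y) (X.homOfLE_ι hle)
      rw [e] at hy'
      exact Set.disjoint_left.mp (by rw [← Opens.coe_disjoint] at hd; exact hd) y.2 hy'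
    · have h0 : x.1 ∈ U₀ := h2.resolve_right hx
      refine ⟨⟨x.1, h0⟩, Subtype.ext ?_⟩
      exact congrArg (fun φ : U₀.toScheme ⟶ X => φ ⟨x.1, h0⟩) (X.homOfLE_ι hle)
  haveI : IsClosedImmersion (X.homOfLE hle) :=
    IsClosedImmersion.of_isPreimmersion _ (by rw [hr]; exact (U.ι ⁻¹ᵁ U₁).2.isClosed_compl)
  rw [← X.homOfLE_ι hle]
  infer_instance

theorem preimage_imageι_of_decomposition {U₀ U₁ U : X.Opens} [QuasiCompact U₀.ι]
    (hU : U₀ ⊔ U₁ = U) (hd : Disjoint U₀ U₁) :
    U₀.ι.imageι ⁻¹ᵁ U = U₀.ι.imageι ⁻¹ᵁ U₀ ∧ U₀.ι.imageι ⁻¹ᵁ U₁ = ⊥ := by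
  have key : ∀ x, U₀.ι.imageι x ∉ U₁ := fun x hx => by
    have h := (range_imageι U₀.ι).le ⟨x, rfl⟩
    rw [Scheme.Opens.range_ι] at h
    obtain ⟨y, hy1, hy0⟩ := mem_closure_iff.mp h _ U₁.2 hx
    exact Set.disjoint_left.mp (by rw [← Opens.coe_disjoint] at hd; exact hd) hy0 hy1
  refine ⟨?_, ?_⟩
  · ext x
    show U₀.ι.imageι x ∈ U ↔ U₀.ι.imageι x ∈ U₀
    rw [← hU]
    exact ⟨fun h => h.resolve_right (key x), Or.inl⟩
  · ext x
    exact ⟨fun h => key x h, False.elim⟩

theorem admBlowup_closures (I : X.IdealSheafData) (hI : BlowUp.IsEffCartierIdeal I) (U₀ U₁ : X.Opens)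
    (hU : U₀ ⊔ U₁ = ModPair.interior I) (hd : Disjoint U₀ U₁) :
    BlowUp.IsEffCartierIdeal (I.comap (coprod.desc U₀.ι.imageι U₁.ι.imageι)) ∧
      ModPair.IsAdmBlowup (I.comap (coprod.desc U₀.ι.imageι U₁.ι.imageι)) I
        (coprod.desc U₀.ι.imageι U₁.ι.imageι) := by
  haveI := isAffineHom_interior (isLocPrincipal_of_isEffCartier hI)
  have hU' : U₁ ⊔ U₀ = ModPair.interior I := by rw [sup_comm]; exact hU
  haveI := quasiCompact_of_decomposition hU hd
  haveI := quasiCompact_of_decomposition hU' hd.symm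
  obtain ⟨p, hp⟩ : ∃ p, p = coprod.desc U₀.ι.imageι U₁.ι.imageι := ⟨_, rfl⟩
  rw [← hp]
  have hl : coprod.inl ≫ p = U₀.ι.imageι := by rw [hp, coprod.inl_desc]
  have hr : coprod.inr ≫ p = U₁.ι.imageι := by rw [hp, coprod.inr_desc]
  have eff : ∀ (V V' : X.Opens) [QuasiCompact V.ι], V ⊔ V' = ModPair.interior I →
      BlowUp.IsEffCartierIdeal (I.comap V.ι.imageι) := fun V V' _ h => by
    haveI := dominant_preimage_imageι V
    exact isEffCartier_comap (isLocPrincipal_of_isEffCartier hI) _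
      (W := V.ι.imageι ⁻¹ᵁ V) (fun x hx => (h ▸ le_sup_left : V ≤ ModPair.interior I) hx)
  refine ⟨?_, rfl, ?_, ?_⟩
  · refine isEffCartier_of_local fun x => ?_
    have main : ∀ {T : Scheme.{u}} (i : T ⟶ U₀.ι.image ⨿ U₁.ι.image) [IsOpenImmersion i],
        BlowUp.IsEffCartierIdeal (I.comap (i ≫ p)) →
        BlowUp.IsEffCartierIdeal ((I.comap p).comap i.opensRange.ι) := by
      intro T i _ hi
      rw [← i.isoOpensRange_inv_comp, Scheme.IdealSheafData.comap_comp, ← Scheme.IdealSheafData.comap_comp _ i]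
      exact isEffCartier_comap_isOpenImmersion hi _
    have hc := (isCompl_range_inl_inr U₀.ι.image U₁.ι.image).sup_eq_top
    rcases hc.ge (Set.mem_univ x) with hx | hx
    · exact ⟨_, hx, main coprod.inl (by rw [hl]; exact eff U₀ U₁ hU)⟩
    · exact ⟨_, hx, main coprod.inr (by rw [hr]; exact eff U₁ U₀ hU')⟩
  · rw [hp]; infer_instance
  · refine (IsZariskiLocalAtTarget.iff_of_iSup_eq_top (P := MorphismProperty.isomorphisms Scheme.{u})
      (fun b : Bool => (ModPair.interior I).ι ⁻¹ᵁ (if b then U₀ else U₁)) ?_).mpr fun b => ?_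
    · refine top_unique fun x _ => Opens.mem_iSup.mpr ?_
      rcases (hU.ge x.2 : x.1 ∈ U₀ ∨ x.1 ∈ U₁) with h | h
      · exact ⟨true, h⟩
      · exact ⟨false, h⟩
    · refine (MorphismProperty.arrow_mk_iso_iff _ (morphismRestrictRestrict p _ _)).mpr ?_
      have e : ∀ V : X.Opens, V ≤ ModPair.interior I →
          (ModPair.interior I).ι ''ᵁ ((ModPair.interior I).ι ⁻¹ᵁ V) = V := fun V hV => by
        rw [Scheme.Hom.image_preimage_eq_opensRange_inf, Scheme.Opens.opensRange_ι]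
        exact inf_eq_right.mpr hV
      have main : ∀ (V V' : X.Opens) [QuasiCompact V.ι] [QuasiCompact V'.ι], V ⊔ V' = ModPair.interior I → Disjoint V V' →
          ∀ (iV : V.ι.image ⟶ U₀.ι.image ⨿ U₁.ι.image) [IsOpenImmersion iV]
            (iV' : V'.ι.image ⟶ U₀.ι.image ⨿ U₁.ι.image),
            iV ≫ p = V.ι.imageι → iV' ≫ p = V'.ι.imageι →
            (∀ x, x ∈ Set.range iV ∨ x ∈ Set.range iV') → IsIso (p ∣_ V) := by
        intro V V' _ _ hU hd iV _ iV' h h' hc
        haveI := isIso_imageι_restrict V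
        have sq : IsPullback (V.ι.imageι ∣_ V) ((V.ι.imageι ⁻¹ᵁ V).ι ≫ iV) V.ι p := by
          refine IsOpenImmersion.isPullback _ _ _ _ ?_ ?_
          · rw [Category.assoc, h, morphismRestrict_ι]
          · rw [Scheme.Opens.opensRange_ι]
            refine le_antisymm (fun x hx => ?_) ?_
            · rcases hc x with ⟨y, rfl⟩ | ⟨y, rfl⟩
              · refine ⟨⟨y, ?_⟩, rfl⟩
                show V.ι.imageι y ∈ V
                rw [← h]; exact hx
              · exfalso
                have h3 : y ∈ V'.ι.imageι ⁻¹ᵁ V := by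
                  show V'.ι.imageι y ∈ V
                  rw [← h']; exact hx
                rw [(preimage_imageι_of_decomposition (U := ModPair.interior I) (sup_comm V V' ▸ hU) hd.symm).2] at h3
                exact h3
            · rintro _ ⟨y, rfl⟩
              show ((V.ι.imageι ⁻¹ᵁ V).ι ≫ iV ≫ p) y ∈ V
              rw [h]; exact y.2
        have h2 := isPullback_morphismRestrict p V
        rw [← h2.isoIsPullback_hom_fst _ _ sq]
        infer_instance
      cases b with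
      | true =>
        show IsIso (p ∣_ ((ModPair.interior I).ι ''ᵁ ((ModPair.interior I).ι ⁻¹ᵁ U₀)))
        rw [e U₀ (hU ▸ le_sup_left)]
        exact main U₀ U₁ hU hd coprod.inl coprod.inr hl hr fun x =>
          (isCompl_range_inl_inr U₀.ι.image U₁.ι.image).sup_eq_top.ge (Set.mem_univ x)
      | false =>
        show IsIso (p ∣_ ((ModPair.interior I).ι ''ᵁ ((ModPair.interior I).ι ⁻¹ᵁ U₁)))
        rw [e U₁ (hU' ▸ le_sup_left)]
        exact main U₁ U₀ hU' hd.symm coprod.inr coprod.inl hr hl fun x =>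
          ((isCompl_range_inl_inr U₀.ι.image U₁.ι.image).sup_eq_top.ge (Set.mem_univ x)).symm

end Groth.Agent.MP99
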