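import Mathlib.AlgebraicGeometry.AffineTransitionLimit

set_option autoImplicit false

universe u

open CategoryTheory CategoryTheory.Limits AlgebraicGeometry TopologicalSpace

namespace Groth.Agent.MP99

theorem quasiCompact_of_isCompact {X : Scheme.{u}} [QuasiSeparatedSpace X] {V : X.Opens}
    (hV : IsCompact (V : Set X)) : QuasiCompact V.ι := by
  rw [quasiCompact_iff_forall_isAffineOpen]
  intro W hW
  refine V.ι.isOpenEmbedding.isInducing.isCompact_iff.mpr ?_
  have e : V.ι '' (V.ι ⁻¹ᵁ W : Set V.toScheme) = (V : Set X) ∩ W := by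
    rw [Scheme.Hom.coe_preimage, Set.image_preimage_eq_range_inter, Scheme.Opens.range_ι]
  rw [e]
  exact hV.inter_of_isOpen hW.isCompact V.2 W.2

theorem descend_zariski_cover {I : Type u} [SmallCategory I] [IsCofiltered I]
    (D : I ⥤ Scheme.{u}) (c : Cone D) (hc : IsLimit c)
    [∀ (i j : I) (t : i ⟶ j), IsAffineHom (D.map t)] (i₀ : I) [CompactSpace (D.obj i₀)]
    [QuasiSeparatedSpace (D.obj i₀)] {ι : Type u} (U : ι → Scheme.{u}) (u : ∀ a, U a ⟶ c.pt)
    [∀ a, IsOpenImmersion (u a)] [∀ a, QuasiCompact (u a)]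
    (hcov : ∀ x : c.pt, ∃ (a : ι) (y : U a), (u a).base y = x) :
    ∃ (i : I) (n : ℕ) (V : Fin n → Scheme.{u}) (v : ∀ j, V j ⟶ D.obj i) (a : Fin n → ι)
      (e : ∀ j, U (a j) ⟶ V j),
      (∀ j, IsOpenImmersion (v j) ∧ QuasiCompact (v j)) ∧
      (∀ x : D.obj i, ∃ (j : Fin n) (y : V j), (v j).base y = x) ∧
      ∀ j, IsPullback (e j) (u (a j)) (v j) (c.π.app i) := by
  classical
  let D' := Over.forget i₀ ⋙ D
  let c' : Cone D' := c.whisker (Over.forget i₀)
  let hc' : IsLimit c' := (Functor.Initial.isLimitWhiskerEquiv (Over.forget i₀) c).symm hc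
  haveI : ∀ {i j : Over i₀} (t : i ⟶ j), IsAffineHom (D'.map t) := fun t => by
    dsimp [D']; infer_instance
  have hC : ∀ (i : I) (t : i ⟶ i₀), CompactSpace (D.obj i) := fun i t =>
    QuasiCompact.compactSpace_of_compactSpace (D.map t)
  have hQ : ∀ (i : I) (t : i ⟶ i₀), QuasiSeparatedSpace (D.obj i) := fun i t =>
    quasiSeparatedSpace_of_quasiSeparated (D.map t)
  haveI : ∀ j : Over i₀, CompactSpace (D'.obj j) := fun j => hC j.left j.hom
  haveI : ∀ j : Over i₀, QuasiSeparatedSpace (D'.obj j) := fun j => hQ j.left j.hom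
  haveI : CompactSpace c.pt := Scheme.compactSpace_of_isLimit D' c' hc'
  obtain ⟨s, hs⟩ := isCompact_univ.elim_finite_subcover (fun a => Set.range (u a))
    (fun a => (u a).isOpenEmbedding.isOpen_range) (fun x _ => by
      obtain ⟨a, y, hy⟩ := hcov x; exact Set.mem_iUnion.mpr ⟨a, y, hy⟩)
  have hcompact : ∀ a, IsCompact ((u a).opensRange : Set c.pt) := fun a => by
    haveI : CompactSpace (U a) := QuasiCompact.compactSpace_of_compactSpace (u a)
    exact isCompact_range (u a).continuous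
  choose iW W hW hWu using fun a : s => exists_preimage_eq D' c' hc' _ (hcompact a.1)
  haveI : Nonempty (Over i₀) := ⟨Over.mk (𝟙 i₀)⟩
  obtain ⟨j, fj⟩ := IsCofiltered.inf_objs_exists (Finset.univ.image iW)
  let W' : s → (D'.obj j).Opens := fun a =>
    D'.map (fj (Finset.mem_image_of_mem iW (Finset.mem_univ a))).some ⁻¹ᵁ W a
  have hW'u : ∀ a, c'.π.app j ⁻¹ᵁ W' a = (u a.1).opensRange := fun a => by
    rw [← Scheme.Hom.comp_preimage, c'.w, hWu]
  obtain ⟨k, h, hk⟩ := exists_map_eq_top D' c' hc' (i := j) (⨆ a, W' a) (by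
    refine top_unique fun x _ => ?_
    obtain ⟨a, ha, hxa⟩ := Set.mem_iUnion₂.mp (hs (Set.mem_univ x))
    have : x ∈ c'.π.app j ⁻¹ᵁ W' ⟨a, ha⟩ := by rw [hW'u]; exact hxa
    exact Opens.mem_iSup.mpr ⟨⟨a, ha⟩, this⟩)
  let σ := s.equivFin
  let V : Fin s.card → (D.obj k.left).Opens := fun b => D'.map h ⁻¹ᵁ W' (σ.symm b)
  have hV : ∀ b, c.π.app k.left ⁻¹ᵁ V b = (u (σ.symm b).1).opensRange := fun b => by
    show c'.π.app k ⁻¹ᵁ (D'.map h ⁻¹ᵁ W' (σ.symm b)) = _
    rw [← Scheme.Hom.comp_preimage, c'.w, hW'u]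
  let e : ∀ b, U (σ.symm b).1 ⟶ (V b).toScheme := fun b =>
    IsOpenImmersion.lift (V b).ι (u (σ.symm b).1 ≫ c.π.app k.left) (by
      rw [Scheme.Opens.range_ι]
      rintro _ ⟨y, rfl⟩
      exact (hV b).ge ⟨y, rfl⟩)
  refine ⟨k.left, s.card, fun b => (V b).toScheme, fun b => (V b).ι, fun b => (σ.symm b).1, e,
    fun b => ⟨inferInstance, ?_⟩, fun x => ?_, fun b => ?_⟩
  · haveI : QuasiSeparatedSpace (D.obj k.left) := inferInstanceAs (QuasiSeparatedSpace (D'.obj k))
    exact quasiCompact_of_isCompact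
      (QuasiCompact.isCompact_preimage (f := D'.map h) _ (W' (σ.symm b)).2
        (QuasiCompact.isCompact_preimage (f := D'.map _) _ (W _).2 (hW _)))
  · obtain ⟨a, ha⟩ := Opens.mem_iSup.mp (hk.ge (Set.mem_univ (α := D.obj k.left) x))
    refine ⟨σ a, ⟨x, ?_⟩, rfl⟩
    show x ∈ D'.map h ⁻¹ᵁ W' (σ.symm (σ a))
    rw [σ.symm_apply_apply]; exact ha
  · exact IsOpenImmersion.isPullback _ _ _ _ (IsOpenImmersion.lift_fac _ _ _).symm
      (by rw [Scheme.Opens.opensRange_ι, hV])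

end Groth.Agent.MP99
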