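import Groth.Agent.MP99.Chart
import Mathlib.AlgebraicGeometry.AffineTransitionLimit
import Mathlib.AlgebraicGeometry.Morphisms.SchemeTheoreticallyDominant

/-!
Morphisms out of limits with scheme-theoretically dominant transition morphisms into schemes locally
of finite type. The gluing argument is adapted from Mathlib's
`Scheme.exists_π_app_comp_eq_of_locallyOfFinitePresentation` (Apache 2.0, Andrew Yang, Christian Merten).
-/

set_option autoImplicit false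

universe u

open CategoryTheory CategoryTheory.Limits AlgebraicGeometry

namespace Groth.Agent.MP99

variable {I : Type u} [Category.{u} I] {S X : Scheme.{u}} (D : I ⥤ Scheme.{u})
  (t : D ⟶ (Functor.const I).obj S) (f : X ⟶ S) (c : Cone D) (hc : IsLimit c)

include hc in
theorem π_app_injective [IsCofiltered I] [∀ {i j} (f : i ⟶ j), IsAffineHom (D.map f)]
    [∀ {i j} (f : i ⟶ j), IsSchemeTheoreticallyDominant (D.map f)]
    {i : I} {U : (D.obj i).Opens} (hU : IsCompact (X := D.obj i) U) :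
    Function.Injective ((c.π.app i).app U).hom := by
  rw [injective_iff_map_eq_zero]
  intro s hs
  obtain ⟨j, h, hj⟩ := exists_app_map_eq_zero_of_isLimit D c hc hU s hs
  exact (D.map h).app_injective U (hj.trans (map_zero _).symm)

include hc in
theorem opensCone_appTop_injective [IsCofiltered I] [∀ {i j} (f : i ⟶ j), IsAffineHom (D.map f)]
    [∀ {i j} (f : i ⟶ j), IsSchemeTheoreticallyDominant (D.map f)]
    (i : I) (U : (D.obj i).Opens) (hU : IsCompact (X := D.obj i) U) (j : Over i) :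
    Function.Injective ((opensCone D c i U).π.app j).appTop.hom := by
  have hle : c.π.app i ⁻¹ᵁ U ≤ c.π.app j.left ⁻¹ᵁ (D.map j.hom ⁻¹ᵁ U) := by
    rw [← Scheme.Hom.comp_preimage, c.w]
  have hge : c.π.app j.left ⁻¹ᵁ (D.map j.hom ⁻¹ᵁ U) ≤ c.π.app i ⁻¹ᵁ U := by
    rw [← Scheme.Hom.comp_preimage, c.w]
  have e : (D.map j.hom ⁻¹ᵁ U).topIso.hom ≫ (c.π.app j.left).appLE _ _ hle =
      ((c.π.app j.left).resLE (D.map j.hom ⁻¹ᵁ U) (c.π.app i ⁻¹ᵁ U) hle).appTop ≫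
        (c.π.app i ⁻¹ᵁ U).topIso.hom := by
    simp [Scheme.Hom.app_eq_appLE]
    erw [Scheme.Hom.resLE_appLE, Scheme.Hom.appLE_map, Scheme.Hom.map_appLE]
  have hUj : IsCompact (X := D.obj j.left) (D.map j.hom ⁻¹ᵁ U) :=
    QuasiCompact.isCompact_preimage (f := D.map j.hom) _ U.2 hU
  intro x y hxy
  refine ((D.map j.hom ⁻¹ᵁ U).topIso.commRingCatIsoToRingEquiv).injective (π_app_injective D c hc hUj ?_)
  have h1 := congrArg (fun φ => φ.hom x) e
  have h2 := congrArg (fun φ => φ.hom y) e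
  have h3 : (c.π.app j.left).appLE _ _ hle ≫ c.pt.presheaf.map (homOfLE hge).op =
      (c.π.app j.left).app (D.map j.hom ⁻¹ᵁ U) :=
    ((c.π.app j.left).appLE_map hle (homOfLE hge).op).trans (c.π.app j.left).app_eq_appLE.symm
  rw [← h3]
  exact congrArg (c.pt.presheaf.map (homOfLE hge).op).hom
    (h1.trans ((congrArg (c.π.app i ⁻¹ᵁ U).topIso.hom.hom hxy).trans h2.symm))

include hc in
theorem exists_factor_affine [IsCofiltered I] [LocallyOfFiniteType f] [IsAffine S] [IsAffine X]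
    [∀ i, IsAffine (D.obj i)] (hinj : ∀ i, Function.Injective (c.π.app i).appTop.hom)
    (a : c.pt ⟶ X) (ha : c.π ≫ t = (Functor.const _).map (a ≫ f)) :
    ∃ (i : I) (g : D.obj i ⟶ X), c.π.app i ≫ g = a ∧ g ≫ f = t.app i := by
  classical
  haveI := isAffine_of_isLimit' c hc
  have hft : f.appTop.hom.FiniteType :=
    (HasRingHomProperty.iff_of_isAffine (P := @LocallyOfFiniteType.{u})).mp ‹_›
  algebraize [f.appTop.hom]
  obtain ⟨s, hs⟩ : (⊤ : Subalgebra Γ(S, ⊤) Γ(X, ⊤)).FG := Algebra.FiniteType.out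
  choose j y hy using fun b : Γ(X, ⊤) => exists_appTop_π_eq_of_isAffine_of_isLimit D c hc (a.appTop.hom b)
  have := IsCofiltered.nonempty (C := I)
  obtain ⟨i, fi⟩ := IsCofiltered.inf_objs_exists (s.image j)
  have hcomp : c.π.app i ≫ t.app i = a ≫ f :=
    congrArg (fun τ : (Functor.const I).obj c.pt ⟶ (Functor.const I).obj S => τ.app i) ha
  let Im : Subring Γ(c.pt, ⊤) := (c.π.app i).appTop.hom.range
  have hS : ∀ r, a.appTop.hom (f.appTop.hom r) ∈ Im := fun r => by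
    refine ⟨(t.app i).appTop.hom r, ?_⟩
    exact congrArg (fun φ : c.pt ⟶ S => φ.appTop.hom r) hcomp
  have hmem : ∀ b, a.appTop.hom b ∈ Im := fun b => by
    have hb : b ∈ Algebra.adjoin Γ(S, ⊤) (s : Set Γ(X, ⊤)) := by rw [hs]; trivial
    induction hb using Algebra.adjoin_induction with
    | mem b hb =>
      refine ⟨(D.map (fi (Finset.mem_image_of_mem j hb)).some).appTop.hom (y b), ?_⟩
      rw [← hy]
      show ((D.map _).appTop ≫ (c.π.app i).appTop).hom (y b) = _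
      rw [← Scheme.Hom.comp_appTop]
      erw [c.w]
    | algebraMap r => exact hS r
    | add v w _ _ hv hw => rw [map_add]; exact add_mem hv hw
    | mul v w _ _ hv hw => rw [map_mul]; exact mul_mem hv hw
  let e : Γ(D.obj i, ⊤) ≃+* Im :=
    RingEquiv.ofBijective (c.π.app i).appTop.hom.rangeRestrict
      ⟨fun x y h => hinj i (congrArg Subtype.val h), RingHom.rangeRestrict_surjective _⟩
  obtain ⟨g, hg⟩ := exists_appTop_eq (M := X) (Y := D.obj i)
    (CommRingCat.ofHom (e.symm.toRingHom.comp (a.appTop.hom.codRestrict Im hmem)))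
  have hga : c.π.app i ≫ g = a := by
    refine ext_of_isAffine (CommRingCat.hom_ext (RingHom.ext fun b => ?_))
    show (c.π.app i).appTop.hom (g.appTop.hom b) = _
    rw [hg]
    exact congrArg Subtype.val (e.apply_symm_apply ⟨_, hmem b⟩)
  refine ⟨i, g, hga, ext_of_isAffine (CommRingCat.hom_ext (RingHom.ext fun r => hinj i ?_))⟩
  show (c.π.app i ≫ g ≫ f).appTop.hom r = (c.π.app i ≫ t.app i).appTop.hom r
  rw [reassoc_of% hga, hcomp]
where
  isAffine_of_isLimit' {I : Type u} [Category.{u} I] {D : I ⥤ Scheme.{u}} [∀ i, IsAffine (D.obj i)]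
      (c : Cone D) (hc : IsLimit c) : IsAffine c.pt := Scheme.isAffine_of_isLimit c hc

set_option backward.defeqAttrib.useBackward true in
set_option backward.isDefEq.respectTransparency false in
open TopologicalSpace Scheme in
include hc in
theorem exists_factor
    [IsCofiltered I] [LocallyOfFiniteType f]
    [∀ {i j} (f : i ⟶ j), IsSchemeTheoreticallyDominant (D.map f)]
    [∀ {i j} (f : i ⟶ j), IsAffineHom (D.map f)]
    [∀ i, CompactSpace (D.obj i)] [∀ i, QuasiSeparatedSpace (D.obj i)]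
    (a : c.pt ⟶ X) (ha : c.π ≫ t = (Functor.const _).map (a ≫ f)) :
    ∃ (i : I) (g : D.obj i ⟶ X), c.π.app i ≫ g = a ∧ g ≫ f = t.app i := by
  -- The open cover of `c := lim Dᵢ` indexed by triplets of affine opens `(U, V, W)` with
  -- `U ⊆ c`, `V ⊆ X`, `W ⊆ S` such that `U` maps to `V` maps to `W`.
  have 𝒰 := (c.pt.isBasis_affineOpens).isOpenCover_mem_and_le
    (((X.isBasis_affineOpens).isOpenCover_mem_and_le
    ((S.isBasis_affineOpens).isOpenCover.comap f.base.hom)).comap a.base.hom)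
  -- By qcqs, this cover descends to some finite affine open cover `𝒱` of `Dᵢ`.
  obtain ⟨i, s, 𝒱, h𝒱, h𝒱𝒰⟩ := AlgebraicGeometry.Scheme.exists_isOpenCover_and_isAffine D c hc _ 𝒰 fun U ↦ U.2.1
  obtain ⟨i', fi'i, hi'⟩ : ∃ (i' : I) (fi'i : i' ⟶ i),
      ∀ j, D.map fi'i ⁻¹ᵁ 𝒱 j ≤ t.app i' ⁻¹ᵁ j.1.1.2.1.2.1 := by
    choose k fk hk using fun j ↦ exists_map_preimage_le_map_preimage D c hc (h𝒱𝒰 j).1.isCompact
      (V := t.app i ⁻¹ᵁ j.1.1.2.1.2.1) (by
      rw [← Hom.comp_preimage, ← NatTrans.comp_app, ha]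
      exact (h𝒱𝒰 j).2.symm.trans_le (j.1.prop.2.trans (a.preimage_mono j.1.1.2.prop.2)))
    obtain ⟨i', fi'i, fi', hfi'⟩ := IsCofiltered.wideCospan fk
    refine ⟨i', fi'i, fun j ↦ ?_⟩
    rw [← hfi', Functor.map_comp, Hom.comp_preimage]
    refine (Hom.preimage_mono _ (hk _)).trans ?_
    simp only [← Hom.comp_preimage, t.naturality, Functor.const_obj_obj,
      Functor.const_obj_map, Category.comp_id, le_refl]
  -- Using the affine version `exists_π_app_comp_eq_of_locallyOfFinitePresentation_of_isAffine`,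
  -- one can now factor `Dⱼ ⁻¹ 𝒱ⱼ ⟶ lim Dᵢ ⟶ X` through some `Dⱼₖ ⁻¹ 𝒱ⱼ` for each `𝒱ⱼ`,
  -- and by finite-ness we may chose a fixed `k` that works for every `j`.
  have : ∃ k, ∃ (fk : k ⟶ i), ∀ j, ∃ (ak : ↑(D.map fk ⁻¹ᵁ 𝒱 j) ⟶ X),
      ak ≫ f = Opens.ι _ ≫ t.app k ∧ c.π.app _ ∣_ _ ≫ ak = Opens.ι _ ≫ a := by
    let 𝒱' := (D.map fi'i ⁻¹ᵁ 𝒱 ·)
    have h𝒱'𝒰 (j : s) : c.π.app i' ⁻¹ᵁ 𝒱' j = j.1.1.1 := by
      rw [← Hom.comp_preimage, c.w fi'i]; exact (h𝒱𝒰 j).2.symm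
    have _ (j k) : IsAffine ((opensDiagram D i' (𝒱' j)).obj k) := ((h𝒱𝒰 _).1.preimage _).preimage _
    let t𝒱 (j : _) : opensDiagram D i' (𝒱' j) ⟶ (Functor.const (Over i')).obj j.1.1.2.1.2 :=
    { app k := (t.app k.left).resLE _ _ <| by
        refine (Hom.preimage_mono _ (hi' _)).trans ?_
        simp only [Functor.const_obj_obj, ← Hom.comp_preimage, t.naturality,
          Functor.const_obj_map, Category.comp_id, le_refl]
      naturality {k₁ k₂} f₁₂ := by simp [Hom.resLE_comp_resLE] }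
    have (j : s) : IsAffine j.1.1.2.1.1 := j.1.1.2.prop.1
    choose k ak hk hk' using fun j ↦ exists_factor_affine
      _ (t𝒱 j) (f.resLE _ _ j.1.1.2.prop.2) _ (isLimitOpensCone D c hc i' (𝒱' j))
      (opensCone_appTop_injective D c hc i' (𝒱' j) ((h𝒱𝒰 _).1.preimage _).isCompact)
      (a.resLE _ _ ((h𝒱'𝒰 _).trans_le j.1.prop.2)) (by
      ext k
      simp [t𝒱, Hom.resLE_comp_resLE, show c.π.app k.left ≫ t.app k.left = a ≫ f from
        congr(($ha).app k.left)])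
    obtain ⟨i'', fi''i', fi'', hi''⟩ := IsCofiltered.wideCospan fun j ↦ (k j).hom
    refine ⟨i'', fi''i' ≫ fi'i, fun j ↦
      ⟨Scheme.homOfLE _ ?_ ≫ D.map (fi'' _) ∣_ _ ≫ ak j ≫ Opens.ι _, ?_, ?_⟩⟩
    · simp only [← Hom.comp_preimage, ← Functor.map_comp, 𝒱', reassoc_of% hi'']; rfl
    · have : ak j ≫ Opens.ι _ ≫ f = Opens.ι _ ≫ t.app (k j).left := by
        simpa [t𝒱] using! congr($(hk' j) ≫ Opens.ι _)
      simp [this]
    · have e : c.π.app i'' ⁻¹ᵁ D.map (fi''i' ≫ fi'i) ⁻¹ᵁ 𝒱 j ≤ c.π.app i' ⁻¹ᵁ 𝒱' j := by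
        simp only [← Hom.comp_preimage, Cone.w, 𝒱']; rfl
      simpa [← AlgebraicGeometry.Scheme.Hom.resLE_eq_morphismRestrict,
        Scheme.Hom.resLE_comp_resLE_assoc] using! congr(Scheme.homOfLE _ e ≫ $(hk j) ≫ Opens.ι _)
  choose k fki ak hak hak' using this
  -- We may then find an `l` for each `j₁` and `j₂` such that the map `Dⱼ₁ₗ ⁻¹ 𝒱ⱼ₁ ⟶ X` and
  -- `Dⱼ₂ₗ ⁻¹ 𝒱ⱼ₂ ⟶ X` agrees on the intersection in `Dₗ`.
  -- And again by finiteness we may choose a global `l`.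
  obtain ⟨l, flk, hl⟩ : ∃ (l : I) (flk : l ⟶ k), ∀ j₁ j₂, Scheme.homOfLE _ inf_le_left ≫
      D.map flk ∣_ _ ≫ ak j₁ = Scheme.homOfLE _ inf_le_right ≫ D.map flk ∣_ _ ≫ ak j₂ := by
    let 𝒱' := (D.map fki ⁻¹ᵁ 𝒱 ·)
    have (j₁ j₂ : s) : ∃ (l : I) (flk : l ⟶ k), Scheme.homOfLE _ inf_le_left ≫ D.map flk ∣_ _ ≫
        ak j₁ = Scheme.homOfLE _ inf_le_right ≫ D.map flk ∣_ _ ≫ ak j₂ := by
      have _ (x) : CompactSpace ↥((opensDiagram D k (𝒱' j₁ ⊓ 𝒱' j₂)).obj x) :=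
        isCompact_iff_compactSpace.mp (QuasiCompact.isCompact_preimage _ (𝒱' j₁ ⊓ 𝒱' j₂).isOpen
          (((h𝒱𝒰 _).1.preimage _).isCompact.inter_of_isOpen ((h𝒱𝒰 _).1.preimage _).isCompact
            (D.map fki ⁻¹ᵁ 𝒱 j₁).2 (D.map fki ⁻¹ᵁ 𝒱 j₂).2))
      obtain ⟨⟨l, ⟨⟨⟩⟩, flk⟩, ⟨flk', ⟨⟨⟨⟩⟩⟩, h⟩, e⟩ :=
        Scheme.exists_hom_comp_eq_comp_of_locallyOfFiniteType _
          (opensDiagramι .. ≫ (Over.forget k).whiskerLeft t) f _
          (isLimitOpensCone D c hc k (𝒱' j₁ ⊓ 𝒱' j₂)) (i := .mk (𝟙 k))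
          (Scheme.homOfLE _ (by simp [𝒱']) ≫ ak j₁) (Scheme.homOfLE _ (by simp [𝒱']) ≫ ak j₂)
          (by simp [hak]) (by simp [hak]) (by simp; simp [Hom.resLE, hak'])
      obtain rfl : flk = flk' := by simpa using! h.symm
      refine ⟨l, flk, by simpa [← Scheme.Hom.resLE_eq_morphismRestrict] using! e⟩
    choose l flk hflk using this
    obtain ⟨l', fl'k, fl'l, hl'⟩ := IsCofiltered.wideCospan (I := s × s) fun x ↦ flk x.1 x.2
    refine ⟨l', fl'k, fun j₁ j₂ ↦ ?_⟩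
    have H : (D.map fl'k ≫ D.map fki) ⁻¹ᵁ (𝒱 j₁ ⊓ 𝒱 j₂) ≤
        (D.map (fl'l (j₁, j₂)) ≫ D.map (flk j₁ j₂) ≫ D.map fki) ⁻¹ᵁ (𝒱 j₁ ⊓ 𝒱 j₂) := by
      simp only [← Functor.map_comp, reassoc_of% hl']; rfl
    simpa [← Scheme.Hom.resLE_eq_morphismRestrict, Scheme.Hom.resLE_comp_resLE_assoc,
      ← Functor.map_comp, hl'] using! congr((D.map (fl'l (j₁, j₂))).resLE _ _ H ≫ $(hflk j₁ j₂))
  -- We may glue the morphisms into `Dₗ ⟶ X` and verify that it indeed satisfies the hypothesis.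
  let h𝒲 := (h𝒱.comap (D.map fki).base.hom).comap (D.map flk).base.hom
  let 𝒲 := Scheme.openCoverOfIsOpenCover _ (D.map flk ⁻¹ᵁ D.map fki ⁻¹ᵁ 𝒱 ·) h𝒲
  let F := 𝒲.glueMorphisms (fun j ↦ D.map flk ∣_ D.map fki ⁻¹ᵁ 𝒱 j ≫ ak j) (fun j₁ j₂ ↦ by
      rw [← cancel_epi (isPullback_opens_inf _ _).isoPullback.hom]
      simpa [𝒲] using! hl j₁ j₂)
  have hF (j : s) : (D.map flk ⁻¹ᵁ D.map fki ⁻¹ᵁ 𝒱 j).ι ≫ F = D.map flk ∣_ _ ≫ ak j :=
    Scheme.Cover.ι_glueMorphisms ..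
  refine ⟨l, F, ?_, ?_⟩
  · refine Cover.hom_ext (𝒲.pullback₁ (c.π.app l)) _ _ fun j ↦ ?_
    rw [← cancel_epi (isPullback_morphismRestrict _ _).flip.isoPullback.hom]
    dsimp [𝒲]
    simp only [pullback.condition_assoc, IsPullback.isoPullback_hom_snd_assoc,
      IsPullback.isoPullback_hom_fst_assoc, hF]
    have h : c.π.app l ⁻¹ᵁ D.map flk ⁻¹ᵁ D.map fki ⁻¹ᵁ 𝒱 j ≤ c.π.app k ⁻¹ᵁ D.map fki ⁻¹ᵁ 𝒱 j := by
      simp only [← Hom.comp_preimage, c.w_assoc, c.w]; rfl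
    simpa [← Scheme.Hom.resLE_eq_morphismRestrict, Scheme.Hom.resLE_comp_resLE_assoc] using!
      congr(Scheme.homOfLE _ h ≫ $(hak' j))
  · refine 𝒲.hom_ext _ _ fun j ↦ ?_
    simp [F, Cover.ι_glueMorphisms_assoc, hak]; rfl

end Groth.Agent.MP99
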