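import Groth.Agent.MP99.Chart
import Mathlib.AlgebraicGeometry.AffineTransitionLimit

set_option autoImplicit false

universe u

open CategoryTheory CategoryTheory.Limits AlgebraicGeometry TopologicalSpace

namespace Groth.Agent.MP99

variable {I : Type u} [SmallCategory I] [IsCofiltered I] (D : I ⥤ Scheme.{u}) (c : Cone D) (hc : IsLimit c)

include hc in
theorem isEffCartier_comap_limit [∀ (i j : I) (t : i ⟶ j), IsAffineHom (D.map t)]
    (J : ∀ i, (D.obj i).IdealSheafData) (hJ : ∀ i, BlowUp.IsEffCartierIdeal (J i))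
    (hmin : ∀ (i j : I) (t : i ⟶ j), J i = (J j).comap (D.map t)) (i : I) :
    BlowUp.IsEffCartierIdeal ((J i).comap (c.π.app i)) := by
  haveI : ∀ {i j : I} (t : i ⟶ j), IsAffineHom (D.map t) := fun t => inferInstance
  haveI := isAffineHom_π_app D c hc i
  intro x
  obtain ⟨U, hU, f, -, hf⟩ := hJ i (c.π.app i x)
  have hV : IsAffineOpen (c.π.app i ⁻¹ᵁ U.1) := U.2.preimage _
  refine ⟨⟨_, hV⟩, hU, ((c.π.app i).appLE U.1 _ le_rfl).hom f, ?_, by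
    rw [ideal_comap (J i) (c.π.app i) U ⟨_, hV⟩ le_rfl, hf, Ideal.map_span, Set.image_singleton]⟩
  rw [mem_nonZeroDivisors_iff_right]
  intro g hg
  haveI : ∀ j, IsAffine ((opensDiagram D i U.1).obj j) := fun j => U.2.preimage (D.map j.hom)
  obtain ⟨j, t, ht⟩ := exists_appTop_π_eq_of_isAffine_of_isLimit _ _ (isLimitOpensCone D c hc i U.1)
    ((c.π.app i ⁻¹ᵁ U.1).topIso.inv g)
  let t' : Γ(D.obj j.left, D.map j.hom ⁻¹ᵁ U.1) := (D.map j.hom ⁻¹ᵁ U.1).topIso.hom t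
  have hle : c.π.app i ⁻¹ᵁ U.1 ≤ c.π.app j.left ⁻¹ᵁ (D.map j.hom ⁻¹ᵁ U.1) := by
    rw [← Scheme.Hom.comp_preimage, c.w]
  have ht' : ((c.π.app j.left).appLE _ _ hle).hom t' = g := by
    have h2 := congrArg (c.π.app i ⁻¹ᵁ U.1).topIso.hom ht
    have h3 : (c.π.app i ⁻¹ᵁ U.1).topIso.hom ((c.π.app i ⁻¹ᵁ U.1).topIso.inv g) = g :=
      CategoryTheory.Iso.inv_hom_id_apply _ g
    rw [h3] at h2
    refine Eq.trans ?_ h2
    have e : (D.map j.hom ⁻¹ᵁ U.1).topIso.hom ≫ (c.π.app j.left).appLE _ _ hle =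
        ((c.π.app j.left).resLE (D.map j.hom ⁻¹ᵁ U.1) (c.π.app i ⁻¹ᵁ U.1) hle).appTop ≫
          (c.π.app i ⁻¹ᵁ U.1).topIso.hom := by
      simp [Scheme.Hom.app_eq_appLE]
      erw [Scheme.Hom.resLE_appLE, Scheme.Hom.appLE_map, Scheme.Hom.map_appLE]
    exact congrArg (fun φ => φ.hom t) e
  have hVj : IsAffineOpen (D.map j.hom ⁻¹ᵁ U.1) := U.2.preimage _
  let fj := ((D.map j.hom).appLE U.1 _ le_rfl).hom f
  have e2 : ((c.π.app j.left).appLE _ _ hle).hom fj = ((c.π.app i).appLE U.1 _ le_rfl).hom f := by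
    show ((D.map j.hom).appLE _ _ _ ≫ (c.π.app j.left).appLE _ _ hle).hom f = _
    rw [Scheme.Hom.appLE_comp_appLE]
    simp only [c.w]
  have hz : ((c.π.app j.left).app (D.map j.hom ⁻¹ᵁ U.1)).hom (t' * fj) = 0 := by
    have hge : c.π.app j.left ⁻¹ᵁ (D.map j.hom ⁻¹ᵁ U.1) ≤ c.π.app i ⁻¹ᵁ U.1 := by
      rw [← Scheme.Hom.comp_preimage, c.w]
    have e3 : (c.π.app j.left).appLE _ _ hle ≫ c.pt.presheaf.map (homOfLE hge).op =
        (c.π.app j.left).app (D.map j.hom ⁻¹ᵁ U.1) := by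
      exact ((c.π.app j.left).appLE_map hle (homOfLE hge).op).trans (c.π.app j.left).app_eq_appLE.symm
    rw [← e3]
    show (c.pt.presheaf.map (homOfLE hge).op).hom (((c.π.app j.left).appLE _ _ hle).hom (t' * fj)) = 0
    rw [map_mul, ht', e2, hg, map_zero]
  obtain ⟨k, h, hk⟩ := exists_app_map_eq_zero_of_isLimit D c hc hVj.isCompact (t' * fj) hz
  have hVk : IsAffineOpen (D.map h ⁻¹ᵁ (D.map j.hom ⁻¹ᵁ U.1)) := hVj.preimage _
  have hJk : (J k).ideal ⟨_, hVk⟩ = Ideal.span {((D.map h).app (D.map j.hom ⁻¹ᵁ U.1)).hom fj} := by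
    rw [hmin k j.left h, hmin j.left i j.hom,
      ideal_comap _ (D.map h) ⟨_, hVj⟩ ⟨_, hVk⟩ le_rfl,
      ideal_comap _ (D.map j.hom) U ⟨_, hVj⟩ le_rfl, hf, Ideal.map_span, Set.image_singleton,
      Ideal.map_span, Set.image_singleton, Scheme.Hom.app_eq_appLE]
  have hnz := mem_nonZeroDivisors_of_span (hJ k) hJk
  have hk' : ((D.map h).app (D.map j.hom ⁻¹ᵁ U.1)).hom t' = 0 :=
    (mem_nonZeroDivisors_iff_right.mp hnz) _ (by rw [← map_mul]; exact hk)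
  rw [← ht']
  have hle' : c.π.app i ⁻¹ᵁ U.1 ≤ c.π.app k ⁻¹ᵁ (D.map h ⁻¹ᵁ (D.map j.hom ⁻¹ᵁ U.1)) := by
    rw [← Scheme.Hom.comp_preimage, c.w]; exact hle
  have e4 : (D.map h).app (D.map j.hom ⁻¹ᵁ U.1) ≫ (c.π.app k).appLE _ _ hle' =
      (c.π.app j.left).appLE _ _ hle := by
    rw [Scheme.Hom.app_eq_appLE, Scheme.Hom.appLE_comp_appLE]
    simp only [c.w]
  rw [← e4]
  show ((c.π.app k).appLE _ _ hle').hom (((D.map h).app _).hom t') = 0
  rw [hk', map_zero]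

end Groth.Agent.MP99
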