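import Groth.Agent.MP99.Limit

set_option autoImplicit false

universe u

open CategoryTheory CategoryTheory.Limits AlgebraicGeometry TopologicalSpace

namespace Groth.Agent.MP99

variable {I : Type u} [SmallCategory I] [IsCofiltered I] (D : I ⥤ Scheme.{u}) (c : Cone D) (hc : IsLimit c)

include hc in
theorem exists_ideal_le_of_affine [∀ (i j : I) (t : i ⟶ j), IsAffineHom (D.map t)] {i : I}
    (J K : (D.obj i).IdealSheafData) (U : (D.obj i).affineOpens) {a b : Γ(D.obj i, U.1)}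
    (ha : J.ideal U = Ideal.span {a}) (hb : K.ideal U = Ideal.span {b})
    (h : J.comap (c.π.app i) ≤ K.comap (c.π.app i)) :
    ∃ (k : I) (t : k ⟶ i), (J.comap (D.map t)).ideal ⟨D.map t ⁻¹ᵁ U.1, U.2.preimage (D.map t)⟩ ≤
      (K.comap (D.map t)).ideal ⟨D.map t ⁻¹ᵁ U.1, U.2.preimage (D.map t)⟩ := by
  haveI : ∀ {i j : I} (t : i ⟶ j), IsAffineHom (D.map t) := fun t => inferInstance
  haveI := isAffineHom_π_app D c hc i
  have hV : IsAffineOpen (c.π.app i ⁻¹ᵁ U.1) := U.2.preimage _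
  have h1 := h ⟨_, hV⟩
  rw [ideal_comap J (c.π.app i) U ⟨_, hV⟩ le_rfl, ideal_comap K (c.π.app i) U ⟨_, hV⟩ le_rfl, ha, hb,
    Ideal.map_span, Ideal.map_span, Set.image_singleton, Set.image_singleton,
    Ideal.span_singleton_le_iff_mem, Ideal.mem_span_singleton'] at h1
  obtain ⟨g, hg⟩ := h1
  haveI : ∀ j, IsAffine ((opensDiagram D i U.1).obj j) := fun j => U.2.preimage (D.map j.hom)
  obtain ⟨j, t, ht⟩ := exists_appTop_π_eq_of_isAffine_of_isLimit _ _ (isLimitOpensCone D c hc i U.1)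
    ((c.π.app i ⁻¹ᵁ U.1).topIso.inv g)
  let t' : Γ(D.obj j.left, D.map j.hom ⁻¹ᵁ U.1) := (D.map j.hom ⁻¹ᵁ U.1).topIso.hom t
  have hle : c.π.app i ⁻¹ᵁ U.1 ≤ c.π.app j.left ⁻¹ᵁ (D.map j.hom ⁻¹ᵁ U.1) := by
    rw [← Scheme.Hom.comp_preimage, c.w]
  have hge : c.π.app j.left ⁻¹ᵁ (D.map j.hom ⁻¹ᵁ U.1) ≤ c.π.app i ⁻¹ᵁ U.1 := by
    rw [← Scheme.Hom.comp_preimage, c.w]
  have ht' : ((c.π.app j.left).appLE _ _ hle).hom t' = g := by
    have h2 := congrArg (c.π.app i ⁻¹ᵁ U.1).topIso.hom ht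
    have h3 : (c.π.app i ⁻¹ᵁ U.1).topIso.hom ((c.π.app i ⁻¹ᵁ U.1).topIso.inv g) = g :=
      CategoryTheory.Iso.inv_hom_id_apply _ g
    rw [h3] at h2
    refine Eq.trans ?_ h2
    have e : (D.map j.hom ⁻¹ᵁ U.1).topIso.hom ≫ (c.π.app j.left).appLE _ _ hle =
        ((c.π.app j.left).resLE (D.map j.hom ⁻¹ᵁ U.1) (c.π.app i ⁻¹ᵁ U.1) hle).appTop ≫
          (c.π.app i ⁻¹ᵁ U.1).topIso.hom := by
      simp [Scheme.Hom.app_eq_appLE]
      erw [Scheme.Hom.resLE_appLE, Scheme.Hom.appLE_map, Scheme.Hom.map_appLE]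
    exact congrArg (fun φ => φ.hom t) e
  have hVj : IsAffineOpen (D.map j.hom ⁻¹ᵁ U.1) := U.2.preimage _
  let aj := ((D.map j.hom).appLE U.1 _ le_rfl).hom a
  let bj := ((D.map j.hom).appLE U.1 _ le_rfl).hom b
  have e2 : ∀ x, ((c.π.app j.left).appLE _ _ hle).hom (((D.map j.hom).appLE U.1 _ le_rfl).hom x) =
      ((c.π.app i).appLE U.1 _ le_rfl).hom x := fun x => by
    show ((D.map j.hom).appLE _ _ _ ≫ (c.π.app j.left).appLE _ _ hle).hom x = _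
    rw [Scheme.Hom.appLE_comp_appLE]
    simp only [c.w]
  have hz : ((c.π.app j.left).app (D.map j.hom ⁻¹ᵁ U.1)).hom (t' * bj - aj) = 0 := by
    have e3 : (c.π.app j.left).appLE _ _ hle ≫ c.pt.presheaf.map (homOfLE hge).op =
        (c.π.app j.left).app (D.map j.hom ⁻¹ᵁ U.1) :=
      ((c.π.app j.left).appLE_map hle (homOfLE hge).op).trans (c.π.app j.left).app_eq_appLE.symm
    rw [← e3]
    show (c.pt.presheaf.map (homOfLE hge).op).hom (((c.π.app j.left).appLE _ _ hle).hom (t' * bj - aj)) = 0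
    rw [map_sub, map_mul, ht', e2, e2, hg, sub_self, map_zero]
  obtain ⟨k, s, hk⟩ := exists_app_map_eq_zero_of_isLimit D c hc hVj.isCompact (t' * bj - aj) hz
  refine ⟨k, s ≫ j.hom, ?_⟩
  have hle2 : D.map (s ≫ j.hom) ⁻¹ᵁ U.1 ≤ D.map s ⁻¹ᵁ (D.map j.hom ⁻¹ᵁ U.1) := by
    rw [← Scheme.Hom.comp_preimage, ← D.map_comp]
  have key : ∀ x, ((D.map s).appLE _ _ hle2).hom (((D.map j.hom).appLE U.1 _ le_rfl).hom x) =
      ((D.map (s ≫ j.hom)).appLE U.1 _ le_rfl).hom x := fun x => by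
    show ((D.map j.hom).appLE _ _ _ ≫ (D.map s).appLE _ _ hle2).hom x = _
    rw [Scheme.Hom.appLE_comp_appLE]
    simp only [D.map_comp]
  rw [ideal_comap J _ U ⟨_, U.2.preimage _⟩ le_rfl, ideal_comap K _ U ⟨_, U.2.preimage _⟩ le_rfl, ha, hb,
    Ideal.map_span, Ideal.map_span, Set.image_singleton, Set.image_singleton,
    Ideal.span_singleton_le_iff_mem, Ideal.mem_span_singleton']
  refine ⟨((D.map s).appLE _ _ hle2).hom t', ?_⟩
  rw [← key, ← key, ← map_mul, ← sub_eq_zero, ← map_sub]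
  have e4 : (D.map s).app (D.map j.hom ⁻¹ᵁ U.1) ≫ (D.obj k).presheaf.map (homOfLE hle2).op =
      (D.map s).appLE _ _ hle2 := by
    rw [Scheme.Hom.app_eq_appLE, Scheme.Hom.appLE_map]
  rw [← e4]
  show ((D.obj k).presheaf.map (homOfLE hle2).op).hom (((D.map s).app _).hom (t' * bj - aj)) = 0
  have hk' : ((D.map s).app (D.map j.hom ⁻¹ᵁ U.1)).hom (t' * bj - aj) = 0 := hk
  rw [hk', map_zero]

include hc in
/-- An inequality of locally principal ideal sheaves on the limit holds at a finite stage. -/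
theorem exists_comap_le [∀ (i j : I) (t : i ⟶ j), IsAffineHom (D.map t)] {i : I} [CompactSpace (D.obj i)]
    {J K : (D.obj i).IdealSheafData} (hJ : IsLocPrincipal J) (hK : IsLocPrincipal K)
    (h : J.comap (c.π.app i) ≤ K.comap (c.π.app i)) :
    ∃ (k : I) (t : k ⟶ i), J.comap (D.map t) ≤ K.comap (D.map t) := by
  classical
  have hU : ∀ x : D.obj i, ∃ U : (D.obj i).affineOpens, x ∈ U.1 ∧
      ∃ a b, J.ideal U = Ideal.span {a} ∧ K.ideal U = Ideal.span {b} := fun x => by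
    obtain ⟨U1, hU1, a, ha⟩ := hJ x
    obtain ⟨U, hU, hle, b, hb⟩ := exists_principal_le hK x hU1
    exact ⟨U, hU, _, b, ideal_restrict J (show U ≤ U1 from hle) ha, hb⟩
  choose U hxU a b ha hb using hU
  obtain ⟨s, hs⟩ := CompactSpace.elim_nhds_subcover (fun x => ((U x).1 : Set (D.obj i)))
    (fun x => (U x).1.2.mem_nhds (hxU x))
  choose k t ht using fun x : s => exists_ideal_le_of_affine D c hc J K (U x.1) (ha x.1) (hb x.1) h
  obtain ⟨l, fl, tl, htl⟩ := IsCofiltered.wideCospan t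
  refine ⟨l, fl, le_of_local fun x => ?_⟩
  obtain ⟨y, hy, hxy⟩ := Set.mem_iUnion₂.mp (hs.ge (Set.mem_univ (D.map fl x)))
  let Ul : (D.obj l).affineOpens := ⟨D.map fl ⁻¹ᵁ (U y).1, (U y).2.preimage (D.map fl)⟩
  refine ⟨Ul, hxy, ?_⟩
  have hle : Ul.1 ≤ D.map (tl ⟨y, hy⟩) ⁻¹ᵁ (D.map (t ⟨y, hy⟩) ⁻¹ᵁ (U y).1) := by
    rw [← Scheme.Hom.comp_preimage, ← D.map_comp, htl]
  rw [← htl ⟨y, hy⟩, D.map_comp, Scheme.IdealSheafData.comap_comp, Scheme.IdealSheafData.comap_comp,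
    ideal_comap _ (D.map (tl ⟨y, hy⟩)) ⟨D.map (t ⟨y, hy⟩) ⁻¹ᵁ (U y).1, (U y).2.preimage _⟩ Ul hle,
    ideal_comap _ (D.map (tl ⟨y, hy⟩)) ⟨D.map (t ⟨y, hy⟩) ⁻¹ᵁ (U y).1, (U y).2.preimage _⟩ Ul hle]
  exact Ideal.map_mono (ht ⟨y, hy⟩)

end Groth.Agent.MP99
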