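import Mathlib.CategoryTheory.Localization.CalculusOfFractions
import Mathlib.CategoryTheory.Comma.Over.Basic
import Mathlib.CategoryTheory.ObjectProperty.FullSubcategory

/-!
Localizing a full subcategory of a slice, stable under `W`-denominators.
-/

set_option autoImplicit false

universe v₁ v₂ v₃ u₁ u₂ u₃

open CategoryTheory

namespace Groth.Agent.MP99

theorem full_faithful_over {C : Type u₁} [Category.{v₁} C] (W : MorphismProperty C)
    [W.HasRightCalculusOfFractions] (S : C) (P : ObjectProperty (Over S))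
    (hP : ∀ (X : Over S) {A : C} (s : A ⟶ X.left), W s → P X → P (Over.mk (s ≫ X.hom)))
    {D : Type u₂} [Category.{v₂} D] (L : C ⥤ D) [L.IsLocalization W]
    {E : Type u₃} [Category.{v₃} E] (L' : P.FullSubcategory ⥤ E)
    [L'.IsLocalization ((W.inverseImage (Over.forget S)).inverseImage P.ι)]
    (Φ : E ⥤ Over (L.obj S)) (e : L' ⋙ Φ ≅ P.ι ⋙ Over.post L) : Φ.Full ∧ Φ.Faithful := by
  let WS := (W.inverseImage (Over.forget S)).inverseImage P.ι
  haveI hWS : WS.HasRightCalculusOfFractions :=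
    { id_mem := fun X => W.id_mem _
      comp_mem := fun f g hf hg => W.comp_mem _ _ hf hg
      exists_rightFraction := fun X Y φ => by
        obtain ⟨ψ, hψ⟩ := (MorphismProperty.LeftFraction.mk φ.f.hom.left φ.s.hom.left φ.hs :
          W.LeftFraction X.obj.left Y.obj.left).exists_rightFraction
        dsimp at hψ
        let T : Over S := Over.mk (ψ.s ≫ X.obj.hom)
        let T' : P.FullSubcategory := ⟨T, hP X.obj ψ.s ψ.hs X.property⟩
        refine ⟨⟨(ObjectProperty.homMk (Over.homMk ψ.s : T ⟶ X.obj) : T' ⟶ X), ψ.hs,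
          (ObjectProperty.homMk (Over.homMk ψ.f ?_ : T ⟶ Y.obj) : T' ⟶ Y)⟩, ?_⟩
        · show ψ.f ≫ Y.obj.hom = ψ.s ≫ X.obj.hom
          rw [← Over.w φ.f.hom, ← Over.w φ.s.hom, ← Category.assoc, ← Category.assoc, hψ]
        · exact ObjectProperty.hom_ext _ (Over.OverMorphism.ext hψ)
      ext := fun X Y Y' f₁ f₂ s hs h => by
        obtain ⟨Z, t, ht, hte⟩ := MorphismProperty.HasRightCalculusOfFractions.ext f₁.hom.left f₂.hom.left
          s.hom.left hs (congrArg (fun g => g.hom.left) h)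
        let T' : P.FullSubcategory := ⟨Over.mk (t ≫ X.obj.hom), hP X.obj t ht X.property⟩
        exact ⟨T', (ObjectProperty.homMk (Over.homMk t : Over.mk (t ≫ X.obj.hom) ⟶ X.obj) : T' ⟶ X), ht,
          ObjectProperty.hom_ext _ (Over.OverMorphism.ext hte)⟩ }
  have hinv := Localization.inverts L W
  have hinv' : WS.IsInvertedBy L' := Localization.inverts L' WS
  haveI : L'.EssSurj := Localization.essSurj L' WS
  have key : ∀ {A B : P.FullSubcategory} (φ : WS.RightFraction A B),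
      (e.inv.app A).left ≫ (Φ.map (φ.map L' hinv')).left ≫ (e.hom.app B).left =
        (MorphismProperty.RightFraction.mk φ.s.hom.left φ.hs φ.f.hom.left :
          W.RightFraction A.obj.left B.obj.left).map L hinv := by
    intro A B φ
    haveI : IsIso (L.map φ.s.hom.left) := hinv _ φ.hs
    let φ₀ : W.RightFraction A.obj.left B.obj.left := .mk φ.s.hom.left φ.hs φ.f.hom.left
    refine (cancel_epi (L.map φ.s.hom.left)).mp (Eq.trans ?_ (φ₀.map_s_comp_map L hinv).symm)
    have h1 : (P.ι ⋙ Over.post L).map φ.s ≫ e.inv.app A = e.inv.app φ.X' ≫ Φ.map (L'.map φ.s) :=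
      e.inv.naturality φ.s
    have h2 : Φ.map (L'.map φ.f) ≫ e.hom.app B = e.hom.app φ.X' ≫ (P.ι ⋙ Over.post L).map φ.f :=
      e.hom.naturality φ.f
    have h3 : (P.ι ⋙ Over.post L).map φ.s ≫ e.inv.app A ≫ Φ.map (φ.map L' hinv') ≫ e.hom.app B =
        (P.ι ⋙ Over.post L).map φ.f := by
      rw [← Category.assoc, h1, Category.assoc, ← Φ.map_comp_assoc,
        MorphismProperty.RightFraction.map_s_comp_map, h2, ← Category.assoc, e.inv_hom_id_app,
        Category.id_comp]
    exact congrArg CommaMorphism.left h3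
  refine ⟨⟨fun {X Y} ψ => ?_⟩, ⟨fun {X Y} a b hab => ?_⟩⟩
  · let iX := L'.objObjPreimageIso X
    let iY := L'.objObjPreimageIso Y
    set A := L'.objPreimage X
    set B := L'.objPreimage Y
    let θ : (P.ι ⋙ Over.post L).obj A ⟶ (P.ι ⋙ Over.post L).obj B :=
      e.inv.app A ≫ Φ.map iX.hom ≫ ψ ≫ Φ.map iY.inv ≫ e.hom.app B
    obtain ⟨φ, hφ⟩ := Localization.exists_rightFraction L W θ.left
    change W.RightFraction A.obj.left B.obj.left at φ
    have hw : θ.left ≫ L.map B.obj.hom = L.map A.obj.hom := Over.w θ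
    have hw' : L.map (φ.f ≫ B.obj.hom) = L.map (φ.s ≫ A.obj.hom) := by
      rw [L.map_comp, L.map_comp, ← hw, ← φ.map_s_comp_map L hinv, Category.assoc, ← hφ]
      rfl
    obtain ⟨V, t, ht, hte⟩ := (MorphismProperty.map_eq_iff_precomp L W _ _).mp hw'
    let T : Over S := Over.mk ((t ≫ φ.s) ≫ A.obj.hom)
    let T' : P.FullSubcategory := ⟨T, hP A.obj (t ≫ φ.s) (W.comp_mem _ _ ht φ.hs) A.property⟩
    let φ' : WS.RightFraction A B :=
      ⟨(ObjectProperty.homMk (Over.homMk (t ≫ φ.s) : T ⟶ A.obj) : T' ⟶ A),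
        W.comp_mem _ _ ht φ.hs,
        (ObjectProperty.homMk (Over.homMk (t ≫ φ.f) (by
          show (t ≫ φ.f) ≫ B.obj.hom = (t ≫ φ.s) ≫ A.obj.hom
          rw [Category.assoc, Category.assoc]; exact hte) : T ⟶ B.obj) : T' ⟶ B)⟩
    refine ⟨iX.inv ≫ φ'.map L' hinv' ≫ iY.hom, ?_⟩
    have hθ : e.inv.app A ≫ Φ.map (φ'.map L' hinv') ≫ e.hom.app B = θ := by
      refine Over.OverMorphism.ext ?_
      refine (key φ').trans ?_
      haveI : IsIso (L.map φ'.s.hom.left) := hinv _ φ'.hs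
      let φ₀ : W.RightFraction A.obj.left B.obj.left := .mk φ'.s.hom.left φ'.hs φ'.f.hom.left
      refine (cancel_epi (L.map φ'.s.hom.left)).mp ((φ₀.map_s_comp_map L hinv).trans ?_)
      rw [hφ]
      show L.map (t ≫ φ.f) = L.map (t ≫ φ.s) ≫ φ.map L hinv
      rw [L.map_comp, L.map_comp, Category.assoc, φ.map_s_comp_map]
    simp only [θ, cancel_epi] at hθ
    rw [← Category.assoc (Φ.map iX.hom), ← Category.assoc (Φ.map iX.hom ≫ ψ), cancel_mono] at hθ
    rw [Φ.map_comp, Φ.map_comp, hθ]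
    simp [← Φ.map_comp, ← Φ.map_comp_assoc]
  · let iX := L'.objObjPreimageIso X
    let iY := L'.objObjPreimageIso Y
    suffices iX.hom ≫ a ≫ iY.inv = iX.hom ≫ b ≫ iY.inv by simpa [cancel_mono] using this
    obtain ⟨φa, ea⟩ := Localization.exists_rightFraction L' WS (iX.hom ≫ a ≫ iY.inv)
    obtain ⟨φb, eb⟩ := Localization.exists_rightFraction L' WS (iX.hom ≫ b ≫ iY.inv)
    rw [ea, eb, MorphismProperty.RightFraction.map_eq_iff]
    have := key φa
    rw [← ea, Φ.map_comp, Φ.map_comp, hab, ← Φ.map_comp, ← Φ.map_comp, eb, key φb] at this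
    obtain ⟨Z, t₁, t₂, hst, hft, ht⟩ := (MorphismProperty.RightFraction.map_eq_iff L W _ _).mp this
    dsimp at t₁ t₂ hst hft ht
    let T' : P.FullSubcategory :=
      ⟨Over.mk ((t₁ ≫ φb.s.hom.left) ≫ (L'.objPreimage X).obj.hom),
        hP _ (t₁ ≫ φb.s.hom.left) ht (L'.objPreimage X).property⟩
    refine ⟨T',
      (ObjectProperty.homMk (Over.homMk t₂ ?_ : T'.obj ⟶ φa.X'.obj) : T' ⟶ φa.X'),
      (ObjectProperty.homMk (Over.homMk t₁ ?_ : T'.obj ⟶ φb.X'.obj) : T' ⟶ φb.X'), ?_, ?_, ?_⟩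
    · show t₂ ≫ φa.X'.obj.hom = (t₁ ≫ φb.s.hom.left) ≫ _
      rw [← Over.w φa.s.hom, ← Category.assoc, ← hst]
    · show t₁ ≫ φb.X'.obj.hom = (t₁ ≫ φb.s.hom.left) ≫ _
      rw [Category.assoc]; erw [Over.w φb.s.hom]
    · exact ObjectProperty.hom_ext _ (Over.OverMorphism.ext hst.symm)
    · exact ObjectProperty.hom_ext _ (Over.OverMorphism.ext hft.symm)
    · show W (t₂ ≫ φa.s.hom.left)
      rw [← hst]; exact ht

end Groth.Agent.MP99
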