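import Mathlib.AlgebraicGeometry.RelativeGluing
import Mathlib.AlgebraicGeometry.Cover.Directed
import Mathlib.AlgebraicGeometry.Pullbacks

set_option autoImplicit false

universe u

open CategoryTheory CategoryTheory.Limits AlgebraicGeometry TopologicalSpace

namespace Groth.Agent.MP99

/-- A property of morphisms into `M`. -/
abbrev Pred (M : Scheme.{u}) := ∀ Z : Scheme.{u}, (Z ⟶ M) → Prop

/-- Local on the source, for open immersions. -/
structure Pred.IsLocal {M : Scheme.{u}} (P : Pred M) : Prop where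
  res : ∀ {Z W : Scheme.{u}} (j : W ⟶ Z) [IsOpenImmersion j] (g : Z ⟶ M), P Z g → P W (j ≫ g)
  glue : ∀ {Z : Scheme.{u}} (g : Z ⟶ M),
    (∀ x : Z, ∃ W : Z.Opens, x ∈ W ∧ P W.toScheme (W.ι ≫ g)) → P Z g

/-- `π` is final among morphisms satisfying `P`. -/
def IsRep {M Y : Scheme.{u}} (P : Pred M) (π : Y ⟶ M) : Prop :=
  P Y π ∧ ∀ (Z : Scheme.{u}) (g : Z ⟶ M), P Z g → ∃! h : Z ⟶ Y, h ≫ π = g

/-- Restriction of `P` along `j`. -/
abbrev Pred.pull {M M' : Scheme.{u}} (P : Pred M) (j : M' ⟶ M) : Pred M' :=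
  fun Z g => P Z (g ≫ j)

namespace Rep

variable {M : Scheme.{u}} {P : Pred M}

theorem isRep_pullback {M₁ M₂ Y : Scheme.{u}} (hP : P.IsLocal) (j : M₁ ⟶ M) (k : M₂ ⟶ M₁)
    [IsOpenImmersion k] (π : Y ⟶ M₁) (h : IsRep (P.pull j) π) :
    IsRep (P.pull (k ≫ j)) (pullback.snd π k) := by
  refine ⟨?_, fun Z g hg => ?_⟩
  · show P _ (pullback.snd π k ≫ k ≫ j)
    rw [← Category.assoc, ← pullback.condition, Category.assoc]
    exact hP.res _ _ h.1
  · obtain ⟨l, hl, hu⟩ := h.2 Z (g ≫ k) (by simpa [Pred.pull] using hg)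
    refine ⟨pullback.lift l g hl, pullback.lift_snd _ _ _, fun m hm => ?_⟩
    apply pullback.hom_ext
    · rw [pullback.lift_fst]; exact hu _ (by simp only at hm ⊢; rw [Category.assoc, pullback.condition, reassoc_of% hm])
    · rw [pullback.lift_snd]; exact hm

theorem isRep_iso {M' : Scheme.{u}} {P : Pred M'} {Y Y' : Scheme.{u}} {π : Y ⟶ M'} {π' : Y' ⟶ M'}
    (h : IsRep P π) (h' : IsRep P π') : ∃ e : Y ≅ Y', e.hom ≫ π' = π := by
  obtain ⟨a, ha, -⟩ := h'.2 _ π h.1
  obtain ⟨b, hb, -⟩ := h.2 _ π' h'.1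
  refine ⟨⟨a, b, ?_, ?_⟩, ha⟩
  · exact (h.2 _ π h.1).unique (by rw [Category.assoc, hb, ha]) (Category.id_comp _)
  · exact (h'.2 _ π' h'.1).unique (by rw [Category.assoc, ha, hb]) (Category.id_comp _)

variable (P) in
/-- Opens over which `P` is representable. -/
abbrev Good : Type u := {U : M.Opens // ∃ (Y : Scheme.{u}) (π : Y ⟶ U.toScheme), IsRep (P.pull U.ι) π}

theorem good_of_le (hP : P.IsLocal) {U V : M.Opens} (h : V ≤ U)
    (hU : ∃ (Y : Scheme.{u}) (π : Y ⟶ U.toScheme), IsRep (P.pull U.ι) π) :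
    ∃ (Y : Scheme.{u}) (π : Y ⟶ V.toScheme), IsRep (P.pull V.ι) π := by
  obtain ⟨Y, π, hπ⟩ := hU
  exact ⟨_, pullback.snd π (M.homOfLE h), by
    have := isRep_pullback hP U.ι (M.homOfLE h) π hπ
    rwa [M.homOfLE_ι h] at this⟩

variable (hloc : ∀ x : M, ∃ U : Good P, x ∈ U.1)

include hloc in
theorem isOpenCover : IsOpenCover (fun U : Good P => U.1) :=
  top_unique fun x _ => Opens.mem_iSup.mpr (hloc x)

/-- The cover by opens over which `P` is representable. -/
abbrev cover : M.OpenCover := Scheme.openCoverOfIsOpenCover M (fun U : Good P => U.1) (isOpenCover hloc)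

instance : Preorder (cover hloc).I₀ := inferInstanceAs (Preorder (Good P))

theorem isBasis (hP : P.IsLocal) :
    Opens.IsBasis (Set.range fun U : (cover hloc).I₀ => ((cover hloc).f U).opensRange) := by
  rw [Opens.isBasis_iff_nbhd]
  intro W x hx
  obtain ⟨U, hU⟩ := hloc x
  refine ⟨U.1 ⊓ W, ⟨⟨U.1 ⊓ W, good_of_le hP inf_le_left U.2⟩, ?_⟩, ⟨hU, hx⟩, inf_le_right⟩
  exact Scheme.Opens.opensRange_ι _

theorem le_iff {i j : (cover hloc).I₀} :
    i ≤ j ↔ ((cover hloc).f i).opensRange ≤ ((cover hloc).f j).opensRange := by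
  show i.1 ≤ j.1 ↔ (Scheme.Opens.ι i.1).opensRange ≤ (Scheme.Opens.ι j.1).opensRange
  rw [Scheme.Opens.opensRange_ι, Scheme.Opens.opensRange_ι]

/-- The chosen representing object over a good open. -/
noncomputable def obj (U : Good P) : Scheme.{u} := U.2.choose

/-- Its structure map. -/
noncomputable def proj (U : Good P) : obj U ⟶ U.1.toScheme := U.2.choose_spec.choose

theorem proj_spec (U : Good P) : IsRep (P.pull U.1.ι) (proj U) := U.2.choose_spec.choose_spec

theorem transition_aux {U V : Good P} (h : U ≤ V) :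
    ∃! m : obj U ⟶ obj V, m ≫ proj V = proj U ≫ M.homOfLE (show U.1 ≤ V.1 from h) :=
  (proj_spec V).2 _ _ (by simpa [Pred.pull] using (proj_spec U).1)

/-- Transition maps. -/
noncomputable def transition {U V : Good P} (h : U ≤ V) : obj U ⟶ obj V := (transition_aux h).exists.choose

theorem transition_spec {U V : Good P} (h : U ≤ V) :
    transition h ≫ proj V = proj U ≫ M.homOfLE (show U.1 ≤ V.1 from h) :=
  (transition_aux h).exists.choose_spec

theorem isPullback_transition (hP : P.IsLocal) {U V : Good P} (h : U ≤ V) :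
    IsPullback (proj U) (transition h) (M.homOfLE (show U.1 ≤ V.1 from h)) (proj V) := by
  have h2 := isRep_pullback hP V.1.ι (M.homOfLE (show U.1 ≤ V.1 from h)) (proj V) (proj_spec V)
  rw [M.homOfLE_ι] at h2
  obtain ⟨e, he⟩ := isRep_iso (proj_spec U) h2
  refine (IsPullback.of_iso_pullback ⟨transition_spec h⟩ e ?_ he).flip
  exact (transition_aux h).unique (by rw [Category.assoc, pullback.condition, reassoc_of% he]) (transition_spec h)

/-- The functor of local representing objects. -/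
noncomputable def functor : Good P ⥤ Scheme.{u} where
  obj := obj
  map f := transition f.le
  map_id U := (transition_aux (le_refl U)).unique (transition_spec _) (by
    rw [Category.id_comp, M.homOfLE_rfl, Category.comp_id])
  map_comp {U V W} f g := (transition_aux (le_trans f.le g.le)).unique (transition_spec _) (by
    rw [Category.assoc, transition_spec, ← Category.assoc, transition_spec, Category.assoc, M.homOfLE_homOfLE])

theorem exists_isRep (hP : P.IsLocal) (hloc : ∀ x : M, ∃ U : Good P, x ∈ U.1) :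
    ∃ (Y : Scheme.{u}) (π : Y ⟶ M), IsRep P π := by
  letI : (cover hloc).LocallyDirected :=
    Scheme.Cover.LocallyDirected.ofIsBasisOpensRange (le_iff hloc) (isBasis hloc hP)
  have htrans : ∀ {U V : (cover hloc).I₀} (f : U ⟶ V),
      (cover hloc).trans f = M.homOfLE (show (U : Good P).1 ≤ (V : Good P).1 from f.le) := fun {U V} f => by
    refine (cancel_mono ((V : Good P).1.ι)).mp ?_
    exact (Scheme.Cover.trans_map (cover hloc) f).trans (M.homOfLE_ι _).symm
  haveI : Quiver.IsThin (cover hloc).I₀ := fun _ _ => ⟨fun a b => Subsingleton.elim (α := _ ⟶ _) a b⟩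
  haveI : Small.{u} (cover hloc).I₀ := small_self _
  let d : (cover hloc).RelativeGluingData :=
    { functor := functor
      natTrans := { app := fun U => proj U, naturality := fun U V f => by
                      refine (transition_spec f.le).trans ?_
                      exact congrArg (proj U ≫ ·) (htrans f).symm }
      equifibered := fun {U V} f => by
        have := (isPullback_transition hP f.le).flip
        show IsPullback (transition f.le) (proj U) (proj V) ((cover hloc).functorOfLocallyDirected.map f)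
        rw [show (cover hloc).functorOfLocallyDirected.map f = _ from htrans f]
        exact this }
  haveI : (d.functor ⋙ Scheme.forget).IsLocallyDirected :=
    Scheme.Cover.RelativeGluingData.instIsLocallyDirectedI₀CompFunctorForgetOfIsThin ..
  haveI : ∀ {i j} (f : i ⟶ j), IsOpenImmersion (d.functor.map f) := fun f =>
    Scheme.Cover.RelativeGluingData.instIsOpenImmersionMapI₀Functor ..
  have hι : ∀ U : Good P, colimit.ι d.functor U ≫ d.toBase = proj U ≫ U.1.ι := fun U => d.ι_toBase U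
  have huniq : ∀ {Z : Scheme.{u}} (h h' : Z ⟶ d.glued), P Z (h ≫ d.toBase) →
      h ≫ d.toBase = h' ≫ d.toBase → h = h' := by
    intro Z h h' hp e
    let g := h ≫ d.toBase
    refine Scheme.Cover.hom_ext (Z.openCoverOfIsOpenCover (fun U : Good P => g ⁻¹ᵁ U.1)
      (top_unique fun x _ => Opens.mem_iSup.mpr (hloc (g x)))) _ _ fun U => ?_
    have H := d.isPullback_natTrans_ι_toBase U
    let k := (g ⁻¹ᵁ U.1).ι
    let a : (g ⁻¹ᵁ U.1).toScheme ⟶ U.1.toScheme := g ∣_ U.1
    have w : ∀ h'' : Z ⟶ d.glued, h'' ≫ d.toBase = g →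
        ∃ b : (g ⁻¹ᵁ U.1).toScheme ⟶ obj U, b ≫ proj U = a ∧ b ≫ colimit.ι d.functor U = k ≫ h'' := by
      intro h'' e''
      have w0 : a ≫ (cover hloc).f U = (k ≫ h'') ≫ d.toBase := by
        rw [Category.assoc, e'']; exact morphismRestrict_ι g U.1
      exact ⟨H.lift a (k ≫ h'') w0, H.lift_fst _ _ _, H.lift_snd _ _ _⟩
    obtain ⟨b, hb1, hb2⟩ := w h rfl
    obtain ⟨b', hb1', hb2'⟩ := w h' e.symm
    show k ≫ h = k ≫ h'
    have : b = b' := ((proj_spec U).2 _ a (by
      show P _ (a ≫ U.1.ι)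
      rw [morphismRestrict_ι]; exact hP.res _ _ hp)).unique hb1 hb1'
    rw [← hb2, ← hb2', this]
  refine ⟨d.glued, d.toBase, hP.glue _ fun x => ?_, fun Z g hg => ?_⟩
  · obtain ⟨U, hU⟩ := hloc (d.toBase x)
    refine ⟨(colimit.ι d.functor U).opensRange, ?_, ?_⟩
    · rw [← d.toBase_preimage_eq_opensRange_ι U]
      show d.toBase x ∈ (Scheme.Opens.ι U.1).opensRange
      rwa [Scheme.Opens.opensRange_ι]
    · rw [← Scheme.Hom.isoOpensRange_inv_comp (colimit.ι d.functor U), Category.assoc, hι]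
      exact hP.res _ _ (proj_spec U).1
  · let 𝒰 := Z.openCoverOfIsOpenCover (fun U : Good P => g ⁻¹ᵁ U.1)
      (top_unique fun x _ => Opens.mem_iSup.mpr (hloc (g x)))
    have hex : ∀ U : Good P, ∃ l : (g ⁻¹ᵁ U.1).toScheme ⟶ d.glued, l ≫ d.toBase = (g ⁻¹ᵁ U.1).ι ≫ g := by
      intro U
      obtain ⟨b, hb, -⟩ := (proj_spec U).2 _ (g ∣_ U.1) (by
        show P _ ((g ∣_ U.1) ≫ U.1.ι)
        rw [morphismRestrict_ι]; exact hP.res _ _ hg)
      refine ⟨b ≫ colimit.ι d.functor U, ?_⟩
      refine ((Category.assoc _ _ _).trans (congrArg (b ≫ ·) (hι U))).trans ?_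
      rw [← Category.assoc]
      exact (congrArg (· ≫ U.1.ι) hb).trans (morphismRestrict_ι g U.1)
    choose l hl using hex
    have compat : ∀ U V : Good P, pullback.fst (g ⁻¹ᵁ U.1).ι (g ⁻¹ᵁ V.1).ι ≫ l U =
        pullback.snd (g ⁻¹ᵁ U.1).ι (g ⁻¹ᵁ V.1).ι ≫ l V := fun U V => by
      refine huniq _ _ ?_ ?_
      · rw [Category.assoc, hl, ← Category.assoc]; exact hP.res _ _ hg
      · rw [Category.assoc, Category.assoc, hl, hl, pullback.condition_assoc]
    let h := 𝒰.glueMorphisms l compat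
    have hh : h ≫ d.toBase = g := Scheme.Cover.hom_ext 𝒰 _ _ fun U => by
      rw [← Category.assoc, Scheme.Cover.ι_glueMorphisms]; exact hl U
    refine ⟨h, hh, fun h' hh' => ?_⟩
    exact (huniq h h' (by rw [hh]; exact hg) (hh.trans hh'.symm)).symm

end Rep

end Groth.Agent.MP99
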